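import Cfsg.Agent.Cit.TwoFK.DC
import Cfsg.Agent.Cit.WeakCl
import Cfsg.Agent.Cit.OneFieldPsi

/-!
# `|Om(S)| = 2` with equal involutions: the basic facts

`TwoEq Om`: one class, `|Om(S)| = 2`, the two members of `Om(S)` have the same involution.
`Mate Om K L`: the two members over one involution. `Zs Om` is the class of these involutions.
-/

set_option autoImplicit false
set_option linter.style.haveILetI false
set_option linter.unusedSectionVars false
set_option linter.unusedVariables false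

namespace Cfsg.Agent.Cit.TwoFK

open Subgroup Cfsg Cit OneBasic

variable {G : Type*} [Group G] [Finite G]

/-- `|Om(S)| = 2`, one class, equal involutions -/
structure TwoEq (Om : Set (Subgroup G)) : Prop where
  hyp : Hyp Om
  cls : ∀ K ∈ Om, ∀ L ∈ Om, ∃ g, cj g K = L
  two : ∀ S : Sylow 2 G, (OmS Om (S : Subgroup G)).ncard = 2
  same : ∀ S : Sylow 2 G, ∀ K ∈ OmS Om (S : Subgroup G), ∀ L ∈ OmS Om (S : Subgroup G), zz K = zz L

/-- the two members over one involution -/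
structure Mate (Om : Set (Subgroup G)) (K L : Subgroup G) : Prop where
  hK : K ∈ Om
  hL : L ∈ Om
  ne : K ≠ L
  zz : zz K = zz L

/-- the involutions of the members -/
def Zs (Om : Set (Subgroup G)) : Set G := {z | ∃ K ∈ Om, zz K = z}

theorem Mate.symm {Om : Set (Subgroup G)} {K L : Subgroup G} (m : Mate Om K L) : Mate Om L K :=
  ⟨m.hL, m.hK, m.ne.symm, m.zz.symm⟩

theorem Mate.cj {Om : Set (Subgroup G)} {K L : Subgroup G} (h : Hyp Om) (m : Mate Om K L) (g : G) :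
    Mate Om (Cit.cj g K) (Cit.cj g L) :=
  ⟨h.conj _ m.hK g, h.conj _ m.hL g, fun hh => m.ne (cj_inj.1 hh), by
    rw [h.zz_cj m.hK, h.zz_cj m.hL, m.zz]⟩

theorem zz_mem_Zs {Om : Set (Subgroup G)} {K : Subgroup G} (hK : K ∈ Om) : zz K ∈ Zs Om := ⟨K, hK, rfl⟩

theorem Zs_cj {Om : Set (Subgroup G)} (h : Hyp Om) {z : G} (hz : z ∈ Zs Om) (g : G) : g * z * g⁻¹ ∈ Zs Om := by
  obtain ⟨K, hK, rfl⟩ := hz
  exact ⟨_, h.conj K hK g, h.zz_cj hK g⟩

theorem Zs_cj' {Om : Set (Subgroup G)} (h : Hyp Om) {z : G} (hz : z ∈ Zs Om) (g : G) : g⁻¹ * z * g ∈ Zs Om := by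
  have := Zs_cj h hz g⁻¹
  rwa [inv_inv] at this

theorem Zs_mul {Om : Set (Subgroup G)} (h : Hyp Om) {z : G} (hz : z ∈ Zs Om) : z * z = 1 := by
  obtain ⟨K, hK, rfl⟩ := hz
  exact h.zz_mul hK

theorem Zs_inv {Om : Set (Subgroup G)} (h : Hyp Om) {z : G} (hz : z ∈ Zs Om) : z⁻¹ = z :=
  inv_eq_of_mul_eq_one_right (Zs_mul h hz)

theorem Zs_ne {Om : Set (Subgroup G)} (h : Hyp Om) {z : G} (hz : z ∈ Zs Om) : z ≠ 1 := by
  obtain ⟨K, hK, rfl⟩ := hz
  exact h.zz_ne hK

theorem Zs_isP {Om : Set (Subgroup G)} (h : Hyp Om) {z : G} (hz : z ∈ Zs Om) : IsPGroup 2 (zpowers z) :=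
  isP_of_sq (Zs_mul h hz)

/-- the members normalise each other -/
theorem Mate.le_normalizer {Om : Set (Subgroup G)} {K L : Subgroup G} (h : Hyp Om) (m : Mate Om K L) :
    K ≤ normalizer (L : Set G) := by
  have hcom := (h.h2 K m.hK L m.hL m.zz).resolve_left m.ne
  intro x hx
  rw [mem_normalizer_iff_cj]
  have h1 : Cit.cj x L ≤ L := by
    intro y hy
    rw [mem_cj] at hy
    have h2 : x * (x⁻¹ * y * x) * x⁻¹ * (x⁻¹ * y * x)⁻¹ ∈ ⁅K, L⁆ := commutator_mem_commutator hx hy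
    have h3 := L.mul_mem (OO_le L (hcom h2).2) hy
    rwa [show x * (x⁻¹ * y * x) * x⁻¹ * (x⁻¹ * y * x)⁻¹ * (x⁻¹ * y * x) = y by group] at h3
  exact eq_of_le_of_card_ge h1 (by rw [card_cj])

/-- Sylow intersections of mates commute -/
theorem Mate.comm {Om : Set (Subgroup G)} {K L R : Subgroup G} (h : Hyp Om) (m : Mate Om K L)
    (hR : IsPGroup 2 R) {a b : G} (ha : a ∈ K) (haR : a ∈ R) (hb : b ∈ L) (hbR : b ∈ R) : a * b = b * a :=
  h.comm_of_zz_eq hR m.hK m.hL m.zz m.ne ha haR hb hbR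

/-- a 2-element of `K` centralises a Sylow 2-subgroup of the mate -/
theorem Mate.exists_cent {Om : Set (Subgroup G)} {K L : Subgroup G} (h : Hyp Om) (m : Mate Om K L)
    {a : G} (ha : a ∈ K) (ha2 : IsPGroup 2 (zpowers a)) : ∃ Q, Syl Q L ∧ ∀ b ∈ Q, a * b = b * a := by
  obtain ⟨Q, hQ, haQ⟩ := exists_syl_normalized ha2 ((zpowers_le.2 (m.le_normalizer h ha)))
  have h1 : IsPGroup 2 (zpowers a ⊔ Q : Subgroup G) := isPGroup_sup_of_normalizes ha2 hQ.2.1 haQ
  exact ⟨Q, hQ, fun b hb => m.comm h h1 ha (mem_sup_left (mem_zpowers a)) (hQ.1 hb) (mem_sup_right hb)⟩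

namespace TwoEq

variable {Om : Set (Subgroup G)} {K L M : Subgroup G}

/-- `(B1)` -/
theorem exists_mate (b : TwoEq Om) (hK : K ∈ Om) :
    ∃ L, Mate Om K L ∧ ∀ M ∈ Om, zz M = zz K → M = K ∨ M = L := by
  obtain ⟨S, hKS, -⟩ := b.hyp.exists_sylow hK
  obtain ⟨A, B, hAB, hS⟩ := Set.ncard_eq_two.1 (b.two S)
  have key : ∀ A B : Subgroup G, A ≠ B → OmS Om (S : Subgroup G) = {A, B} → K = A →
      ∃ L, Mate Om K L ∧ ∀ M ∈ Om, zz M = zz K → M = K ∨ M = L := by
    rintro A B hAB hS rfl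
    have hB : B ∈ OmS Om (S : Subgroup G) := by rw [hS]; exact Or.inr rfl
    refine ⟨B, ⟨hK, hB.1, hAB, b.same S _ hKS _ hB⟩, fun M hM hMz => ?_⟩
    have h1 := b.hyp.mem_OmS_of_zz_eq S hKS hM hMz
    rw [hS] at h1
    exact h1
  rcases (by rw [← Set.mem_insert_iff.trans (or_congr_right Set.mem_singleton_iff), ← hS]; exact hKS :
    K = A ∨ K = B) with h1 | h1
  · exact key A B hAB hS h1
  · exact key B A hAB.symm (by rw [hS, Set.pair_comm]) h1

theorem eq_or (b : TwoEq Om) (m : Mate Om K L) (hM : M ∈ Om) (hz : zz M = zz K) : M = K ∨ M = L := by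
  obtain ⟨L', m', h'⟩ := b.exists_mate m.hK
  rcases h' L m.hL m.zz.symm with h1 | h1
  · exact absurd h1.symm m.ne
  · rw [h1]; exact h' M hM hz

theorem mate_unique (b : TwoEq Om) (m : Mate Om K L) (m' : Mate Om K M) : L = M :=
  ((b.eq_or m m'.hL m'.zz.symm).resolve_left m'.ne.symm).symm

/-- the centraliser of the involution permutes the two members -/
theorem cj_or (b : TwoEq Om) (m : Mate Om K L) {g : G} (hg : g * zz K = zz K * g) :
    (cj g K = K ∧ cj g L = L) ∨ (cj g K = L ∧ cj g L = K) := by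
  have hgz : g * zz K * g⁻¹ = zz K := by rw [hg, mul_inv_cancel_right]
  have h1 : zz (cj g K) = zz K := by rw [b.hyp.zz_cj m.hK, hgz]
  have h2 : zz (cj g L) = zz K := by rw [b.hyp.zz_cj m.hL, ← m.zz, hgz]
  rcases b.eq_or m (b.hyp.conj _ m.hK g) h1 with h3 | h3
  · rcases b.eq_or m (b.hyp.conj _ m.hL g) h2 with h4 | h4
    · exact absurd (cj_inj.1 (h3.trans h4.symm)) m.ne
    · exact Or.inl ⟨h3, h4⟩
  · rcases b.eq_or m (b.hyp.conj _ m.hL g) h2 with h4 | h4
    · exact Or.inr ⟨h3, h4⟩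
    · exact absurd (cj_inj.1 (h3.trans h4.symm)) m.ne

theorem mem_normalizer_mate (b : TwoEq Om) (m : Mate Om K L) {g : G} (hg : g ∈ normalizer (K : Set G)) :
    g ∈ normalizer (L : Set G) := by
  rw [mem_normalizer_iff_cj] at hg ⊢
  rcases b.cj_or m (b.hyp.comm_zz m.hK (mem_normalizer_iff_cj.2 hg)) with h1 | h1
  · exact h1.2
  · exact absurd (hg.symm.trans h1.1) m.ne

/-- an element of the centraliser normalises the members or interchanges them -/
theorem norm_or (b : TwoEq Om) (m : Mate Om K L) {g : G} (hg : g * zz K = zz K * g) :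
    g ∈ normalizer (K : Set G) ∨ cj g K = L := by
  rcases b.cj_or m hg with h1 | h1
  · exact Or.inl (mem_normalizer_iff_cj.2 h1.1)
  · exact Or.inr h1.1

theorem cj_symm (b : TwoEq Om) (m : Mate Om K L) {g : G} (hg : cj g K = L) : cj g L = K := by
  have h1 : g * zz K = zz K * g := by
    have h2 := b.hyp.zz_cj m.hK g
    rw [hg, ← m.zz] at h2
    calc g * zz K = (g * zz K * g⁻¹) * g := by group
      _ = zz K * g := by rw [← h2]
  rcases b.cj_or m h1 with h3 | h3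
  · exact absurd (h3.1.symm.trans hg) m.ne
  · exact h3.2

theorem comm_of_swap (b : TwoEq Om) (m : Mate Om K L) {g : G} (hg : cj g K = L) : g * zz K = zz K * g := by
  have h2 := b.hyp.zz_cj m.hK g
  rw [hg, ← m.zz] at h2
  calc g * zz K = (g * zz K * g⁻¹) * g := by group
    _ = zz K * g := by rw [← h2]

theorem cj_inv_swap (b : TwoEq Om) (m : Mate Om K L) {g : G} (hg : cj g K = L) : cj g⁻¹ K = L := by
  have h1 := b.cj_symm m hg
  rw [← h1, cj_inv_cj]

theorem not_norm (b : TwoEq Om) (m : Mate Om K L) {g : G} (hg : cj g K = L) : g ∉ normalizer (K : Set G) :=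
  fun h => m.ne ((mem_normalizer_iff_cj.1 h).symm.trans hg)

/-- products of two swaps -/
theorem swap_mul (b : TwoEq Om) (m : Mate Om K L) {g h : G} (hg : cj g K = L) (hh : cj h K = L) :
    g * h ∈ normalizer (K : Set G) := by
  rw [mem_normalizer_iff_cj, cj_mul, hh, b.cj_symm m hg]

theorem swap_norm (_b : TwoEq Om) (_m : Mate Om K L) {g h : G} (hg : cj g K = L) (hh : h ∈ normalizer (K : Set G)) :
    cj (g * h) K = L := by
  rw [cj_mul, mem_normalizer_iff_cj.1 hh, hg]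

theorem norm_swap (b : TwoEq Om) (m : Mate Om K L) {g h : G} (hg : g ∈ normalizer (K : Set G)) (hh : cj h K = L) :
    cj (g * h) K = L := by
  rw [cj_mul, hh, mem_normalizer_iff_cj.1 (b.mem_normalizer_mate m hg)]

/-- a square in the centraliser normalises -/
theorem sq_norm (b : TwoEq Om) (m : Mate Om K L) {g : G} (hg : g * zz K = zz K * g) :
    g * g ∈ normalizer (K : Set G) := by
  rcases b.norm_or m hg with h1 | h1
  · exact mul_mem h1 h1
  · exact b.swap_mul m h1 h1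

/-- `(B2)` -/
theorem syl_top (b : TwoEq Om) (hK : K ∈ Om) {R : Subgroup G} (hR : Syl R (centralizer {zz K})) : Syl R ⊤ := by
  haveI : Fact (Nat.Prime 2) := ⟨Nat.prime_two⟩
  obtain ⟨S, hKS, hS⟩ := b.hyp.exists_sylow hK
  have h1 : (S : Subgroup G) ≤ centralizer {zz K} := by
    intro s hs
    have h2 : cj s K ∈ OmS Om (S : Subgroup G) := cj_mem_OmS' b.hyp.conj (le_normalizer hs) hKS
    have h3 := b.same S _ h2 _ hKS
    rw [b.hyp.zz_cj hK] at h3
    rw [mem_centralizer_singleton_iff]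
    calc s * zz K = (s * zz K * s⁻¹) * s := by group
      _ = zz K * s := by rw [h3]
  rw [inf_eq_left.2 h1] at hS
  obtain ⟨g, -, hg⟩ := hS.exists_conj hR
  refine ⟨le_top, hR.2.1, ?_⟩
  rw [← hg, relIndex_top_right]
  have h2 : (cj g (S : Subgroup G)).index = (S : Subgroup G).index :=
    Subgroup.index_map_equiv _ (MulAut.conj g)
  rw [h2]
  exact S.not_dvd_index

theorem exists_sylow_eq {R : Subgroup G} (hR : Syl R ⊤) : ∃ S : Sylow 2 G, (S : Subgroup G) = R := by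
  haveI : Fact (Nat.Prime 2) := ⟨Nat.prime_two⟩
  refine ⟨hR.2.1.toSylow ?_, rfl⟩
  have := hR.2.2
  rwa [relIndex_top_right] at this

theorem mem_OmS (b : TwoEq Om) (hK : K ∈ Om) {R : Subgroup G} (hR : Syl R (centralizer {zz K})) : K ∈ OmS Om R :=
  b.hyp.mem_OmS_of_syl hK hR

theorem mem_OmS_mate (b : TwoEq Om) (m : Mate Om K L) {R : Subgroup G} (hR : Syl R (centralizer {zz K})) :
    L ∈ OmS Om R := b.hyp.mem_OmS_of_syl m.hL (by rw [← m.zz]; exact hR)

theorem syl_inf (b : TwoEq Om) (hK : K ∈ Om) {R : Subgroup G} (hR : Syl R (centralizer {zz K})) :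
    Syl (K ⊓ R) K := Cit.syl_inf hR.2.1 (b.mem_OmS hK hR)

/-- `(B3)` -/
theorem zz_eq_of_cent (b : TwoEq Om) (hK : K ∈ Om) (hM : M ∈ Om) {Q : Subgroup G} (hQ : Syl Q K)
    (hc : ∀ x ∈ Q, zz M * x = x * zz M) : zz M = zz K := by
  have h1 : Q ≤ centralizer {zz M} := fun x hx => mem_centralizer_singleton_iff.2 (hc x hx).symm
  obtain ⟨R, hR, hQR⟩ := OneBasic.exists_syl_ge hQ.2.1 h1
  obtain ⟨S, hS⟩ := exists_sylow_eq (b.syl_top hM hR)
  have h2 : K ∈ OmS Om (S : Subgroup G) := by rw [hS]; exact mem_OmS_of_le hK hQ hQR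
  have h3 : M ∈ OmS Om (S : Subgroup G) := by rw [hS]; exact b.mem_OmS hM hR
  exact b.same S _ h3 _ h2

theorem eq_of_cent (b : TwoEq Om) (hK : K ∈ Om) {t : G} (ht : t ∈ Zs Om) {Q : Subgroup G} (hQ : Syl Q K)
    (hc : ∀ x ∈ Q, t * x = x * t) : t = zz K := by
  obtain ⟨M, hM, rfl⟩ := ht
  exact b.zz_eq_of_cent hK hM hQ hc

/-- `(B4)` -/
theorem exists_swap (b : TwoEq Om) (m : Mate Om K L) : ∃ s, IsPGroup 2 (zpowers s) ∧ cj s K = L := by
  obtain ⟨g, hg⟩ := b.cls K m.hK L m.hL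
  obtain ⟨k, hk, hk2⟩ := OneFieldHom.exists_odd_pow g
  refine ⟨g ^ k, hk2, ?_⟩
  obtain ⟨j, rfl⟩ := hk
  have h1 : g * g ∈ normalizer (K : Set G) := b.swap_mul m hg hg
  rw [pow_succ', pow_mul, pow_two]
  exact b.swap_norm m hg (pow_mem h1 j)

theorem exists_Zs (b : TwoEq Om) (hne : Om.Nonempty) : (Zs Om).Nonempty := by
  obtain ⟨K, hK⟩ := hne
  exact ⟨_, zz_mem_Zs hK⟩

end TwoEq

end Cfsg.Agent.Cit.TwoFK
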