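import Cfsg.Agent.Cit.TwoFK.Base
import Cfsg.Agent.Cit.OneField

/-!
# Families of homomorphisms on the centralisers `C(z)`, `z ∈ Zs Om`

`Fam Om M`: an equivariant family of homomorphisms `psi z : C(z) → M` trivial on the 2-elements of the
members over `z` and on `Zs Om ∩ C(z)`.
`NInv F`: the two values at the commuting involutions `z ≠ t` agree if `t` normalises the members over `z`.
`xinv`: the same if `t` interchanges the members over `z` and `z` those over `t`.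
`gen`: if `G` has no subgroup of index 2 then `F` is trivial.
-/

set_option autoImplicit false
set_option linter.style.haveILetI false
set_option linter.unusedSectionVars false
set_option linter.unusedVariables false

namespace Cfsg.Agent.Cit.TwoFK

open Subgroup Cfsg Cit OneBasic OneFieldHom OneFieldPsi

variable {G : Type*} [Group G] [Finite G]

/-- families killing the members and the class -/
structure Fam (Om : Set (Subgroup G)) (M : Type*) [CommGroup M] where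
  /-- the value `psi z h`, meaningful for `z ∈ Zs Om`, `h ∈ C(z)` -/
  psi : G → G → M
  mul : ∀ z ∈ Zs Om, ∀ h k, h * z = z * h → k * z = z * k → psi z (h * k) = psi z h * psi z k
  conj : ∀ z ∈ Zs Om, ∀ g h, h * z = z * h → psi (g * z * g⁻¹) (g * h * g⁻¹) = psi z h
  killK : ∀ K ∈ Om, ∀ h ∈ K, IsPGroup 2 (zpowers h) → psi (zz K) h = 1
  killZ : ∀ z ∈ Zs Om, ∀ t ∈ Zs Om, t * z = z * t → psi z t = 1

/-- invariance for the pairs with `t ∈ N(K)` -/
def NInv {Om : Set (Subgroup G)} {M : Type*} [CommGroup M] (F : Fam Om M) : Prop :=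
  ∀ K ∈ Om, ∀ t ∈ Zs Om, t ≠ zz K → t ∈ normalizer (K : Set G) → ∀ h, IsPGroup 2 (zpowers h) →
    h * zz K = zz K * h → h * t = t * h → F.psi (zz K) h = F.psi t h

/-- symmetry of "`t` normalises the members over `z`" -/
def NSym (Om : Set (Subgroup G)) : Prop :=
  ∀ K ∈ Om, ∀ L ∈ Om, zz L ∈ normalizer (K : Set G) → zz K ∈ normalizer (L : Set G)

section order

variable {Om : Set (Subgroup G)}

theorem exists_ord (b : TwoEq Om) : ∃ n, Ord Om n := by
  by_cases hne : Om.Nonempty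
  · obtain ⟨K0, hK0⟩ := hne
    obtain ⟨Q0, hQ0⟩ := Hyp.exists_syl K0
    obtain ⟨c0, v0, n, g0⟩ := b.hyp.exists_gq hK0 hQ0
    refine ⟨n, fun K hK Q hQ => ?_⟩
    obtain ⟨c, v, m, g⟩ := b.hyp.exists_gq hK hQ
    have hmn : m = n := by
      refine gq_n g0 g ?_
      obtain ⟨k, hk⟩ := b.cls K0 hK0 K hK
      have h2 := hQ0.cj k
      rw [hk] at h2
      obtain ⟨l, -, hl⟩ := h2.exists_conj hQ
      rw [← hl, card_cj, card_cj]
    subst hmn
    exact ⟨c, v, zz K, g⟩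
  · exact ⟨0, fun K hK => absurd ⟨K, hK⟩ hne⟩

theorem exists_gq_n (b : TwoEq Om) {n : ℕ} (ho : Ord Om n) {K Q : Subgroup G} (hK : K ∈ Om) (hQ : Syl Q K) :
    ∃ c v, GQ Q c v (zz K) n := by
  obtain ⟨c, v, m, g⟩ := b.hyp.exists_gq hK hQ
  have := ho.eq hK hQ g
  subst this
  exact ⟨c, v, g⟩

end order

section coord

variable {Q : Subgroup G} {c v z : G} {n : ℕ}

theorem orderOf_conj (g x : G) : orderOf (g * x * g⁻¹) = orderOf x := by
  have := (MulAut.conj g).orderOf_eq x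
  rwa [MulAut.conj_apply] at this

/-- the cyclic subgroup of index two is invariant, if `|Q| ≥ 16` -/
theorem conj_c (g : GQ Q c v z n) (hn : n ≠ 0) {a : G} (ha : a ∈ normalizer (Q : Set G)) :
    ∃ k : ℤ, a * c * a⁻¹ = c ^ k := by
  have h1 : a * c * a⁻¹ ∈ zpowers c :=
    mem_zpowers_of_orderOf g hn (conj_mem_of ha g.c_mem) (by rw [orderOf_conj]; exact g.ord)
  obtain ⟨k, hk⟩ := h1
  exact ⟨k, hk.symm⟩

/-- the elements of order 4 of the cyclic subgroup -/
theorem conj_c0 (g : GQ Q c v z n) (hn : n ≠ 0) {a : G} (ha : a ∈ normalizer (Q : Set G))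
    (haz : a * z = z * a) : a * c ^ 2 ^ n * a⁻¹ = c ^ 2 ^ n ∨ a * c ^ 2 ^ n * a⁻¹ = c ^ 2 ^ n * z := by
  obtain ⟨k, hk⟩ := conj_c g hn ha
  apply g.eq_w_of_sq
  · refine ⟨k * (2 ^ n : ℕ), ?_⟩
    have := conj_zpow_pow hk (2 ^ n : ℕ)
    rw [zpow_natCast] at this
    exact this.symm
  · calc a * c ^ 2 ^ n * a⁻¹ * (a * c ^ 2 ^ n * a⁻¹) = a * (c ^ 2 ^ n * c ^ 2 ^ n) * a⁻¹ := by group
      _ = a * z * a⁻¹ := by rw [g.w_sq]
      _ = z := by rw [haz, mul_inv_cancel_right]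

end coord

/-! ### Pairs of involutions interchanging the members over each other -/

/-- see `exists_xp` -/
structure XP (Om : Set (Subgroup G)) (K L T : Subgroup G) (x y : G) : Prop where
  hK : K ∈ Om
  hL : L ∈ Om
  hx : x ∈ K
  hy : y ∈ L
  sx : x * x = zz K
  sy : y * y = zz L
  comm : zz K * zz L = zz L * zz K
  tz : ∀ a ∈ T, a * zz K = zz K * a
  tt : ∀ a ∈ T, a * zz L = zz L * a
  zK : zz K ∈ T
  zL : zz L ∈ T
  nK : zz L ∉ normalizer (K : Set G)
  nL : zz K ∉ normalizer (L : Set G)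
  cx : ∀ a ∈ T, a ∈ normalizer (K : Set G) → a * x * a⁻¹ = x ∨ a * x * a⁻¹ = x * zz K
  cy : ∀ a ∈ T, a ∈ normalizer (L : Set G) → a * y * a⁻¹ = y ∨ a * y * a⁻¹ = y * zz L
  ex : ∃ e ∈ T, e * e = x * (zz L * x * (zz L)⁻¹)
  ey : ∃ e ∈ T, e * e = y * (zz K * y * (zz K)⁻¹)
  xx : x * (zz L * x * (zz L)⁻¹) = (zz L * x * (zz L)⁻¹) * x
  yy : y * (zz K * y * (zz K)⁻¹) = (zz K * y * (zz K)⁻¹) * y

theorem XP.symm {Om : Set (Subgroup G)} {K L T : Subgroup G} {x y : G} (p : XP Om K L T x y) :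
    XP Om L K T y x :=
  ⟨p.hL, p.hK, p.hy, p.hx, p.sy, p.sx, p.comm.symm, p.tt, p.tz, p.zL, p.zK, p.nL, p.nK, p.cy, p.cx, p.ey, p.ex,
    p.yy, p.xx⟩

/-- one side of the construction -/
theorem exists_side {Om : Set (Subgroup G)} (b : TwoEq Om) {n : ℕ} (ho : Ord Om n) (hn : n ≠ 0)
    {K L T : Subgroup G} (hK : K ∈ Om) (hL : L ∈ Om) (hc : zz K * zz L = zz L * zz K)
    (nK : zz L ∉ normalizer (K : Set G)) (hT : Syl T (centralizer {zz K} ⊓ centralizer {zz L})) :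
    ∃ x ∈ K, x * x = zz K ∧
      (∀ a ∈ T, a ∈ normalizer (K : Set G) → a * x * a⁻¹ = x ∨ a * x * a⁻¹ = x * zz K) ∧
      (∃ e ∈ T, e * e = x * (zz L * x * (zz L)⁻¹)) ∧
      x * (zz L * x * (zz L)⁻¹) = (zz L * x * (zz L)⁻¹) * x := by
  obtain ⟨Kh, m, -⟩ := b.exists_mate hK
  have hcK : cj (zz L) K = Kh := (b.norm_or m hc.symm).resolve_left nK
  have hLL := b.hyp.zz_mul hL
  obtain ⟨R, hR, hTR⟩ := OneBasic.exists_syl_ge hT.2.1 (hT.1.trans inf_le_left)
  have hTe : T = R ⊓ centralizer {zz L} :=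
    syl_eq_of_le hT (hR.2.1.to_le inf_le_left) (le_inf (inf_le_left.trans hR.1) inf_le_right)
      (le_inf hTR (hT.1.trans inf_le_right))
  have hQ := b.syl_inf hK hR
  obtain ⟨c, v, g⟩ := exists_gq_n b ho hK hQ
  obtain ⟨m', rfl⟩ : ∃ m', n = m' + 1 := ⟨n - 1, by omega⟩
  -- `zz L` lies in `T`
  have hLT : zz L ∈ T := by
    have h1 : zpowers (zz L) ≤ T := by
      refine syl_le_of_normalizes' hT (isP_of_sq hLL) ?_ ?_
      · rw [zpowers_le]
        exact ⟨mem_centralizer_singleton_iff.2 hc.symm, mem_centralizer_singleton_iff.2 rfl⟩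
      · rw [zpowers_le, mem_normalizer_iff]
        intro a
        constructor
        · intro ha
          have h2 := mem_centralizer_singleton_iff.1 (hT.1 ha).2
          rw [← h2, mul_inv_cancel_right]
          exact ha
        · intro ha
          have h2 := mem_centralizer_singleton_iff.1 (hT.1 ha).2
          have h3 : a = zz L * a * (zz L)⁻¹ := by
            calc a = (zz L)⁻¹ * (zz L * a * (zz L)⁻¹ * zz L) := by group
              _ = (zz L)⁻¹ * (zz L * (zz L * a * (zz L)⁻¹)) := by rw [h2]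
              _ = _ := by group
          rw [h3]; exact ha
    exact h1 (mem_zpowers _)
  have hLR : zz L ∈ R := hTR hLT
  have hcQ : ∀ u ∈ K ⊓ R, zz L * u * (zz L)⁻¹ ∈ Kh ⊓ R := by
    intro u hu
    refine ⟨?_, R.mul_mem (R.mul_mem hLR hu.2) (R.inv_mem hLR)⟩
    rw [← hcK]
    exact conj_mem_cj hu.1
  have hcm : ∀ u ∈ K ⊓ R, ∀ w ∈ K ⊓ R, u * (zz L * w * (zz L)⁻¹) = (zz L * w * (zz L)⁻¹) * u := by
    intro u hu w hw
    exact m.comm b.hyp hR.2.1 hu.1 hu.2 (hcQ w hw).1 (hcQ w hw).2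
  have hx0 : c ^ 2 ^ (m' + 1) ∈ K ⊓ R := (K ⊓ R).pow_mem g.c_mem _
  have hv0 : c ^ 2 ^ m' ∈ K ⊓ R := (K ⊓ R).pow_mem g.c_mem _
  refine ⟨c ^ 2 ^ (m' + 1), hx0.1, g.w_sq, ?_, ?_, hcm _ hx0 _ hx0⟩
  · intro a haT haK
    refine conj_c0 g hn ?_ (b.hyp.comm_zz hK haK)
    rw [mem_normalizer_iff_cj, cj_inf, mem_normalizer_iff_cj.1 haK,
      mem_normalizer_iff_cj.1 (le_normalizer (hTR haT))]
  · obtain ⟨w, hw⟩ : ∃ w, w = c ^ 2 ^ m' := ⟨_, rfl⟩
    have hww : w * w = c ^ 2 ^ (m' + 1) := by rw [hw, ← pow_add, ← two_mul, ← pow_succ']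
    rw [← hw] at hv0
    refine ⟨w * (zz L * w * (zz L)⁻¹), ?_, ?_⟩
    · rw [hTe]
      refine mem_inf.2 ⟨R.mul_mem hv0.2 (hcQ _ hv0).2, mem_centralizer_singleton_iff.2 ?_⟩
      have h1 := hcm w hv0 w hv0
      have h2 : zz L * w * (zz L)⁻¹ * zz L = zz L * w := by group
      have h3 : zz L * (zz L * w * (zz L)⁻¹) = w * zz L := by
        rw [b.hyp.zz_inv hL]
        calc zz L * (zz L * w * zz L) = (zz L * zz L) * w * zz L := by group
          _ = _ := by rw [hLL, one_mul]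
      calc w * (zz L * w * (zz L)⁻¹) * zz L = (w * zz L) * w := by
            rw [mul_assoc, h2]; group
        _ = zz L * (zz L * w * (zz L)⁻¹) * w := by rw [h3]
        _ = zz L * (w * (zz L * w * (zz L)⁻¹)) := by rw [h1]; group
    · have h1 := hcm w hv0 w hv0
      rw [← hww]
      calc w * (zz L * w * (zz L)⁻¹) * (w * (zz L * w * (zz L)⁻¹))
          = w * ((zz L * w * (zz L)⁻¹) * w) * (zz L * w * (zz L)⁻¹) := by group
        _ = w * (w * (zz L * w * (zz L)⁻¹)) * (zz L * w * (zz L)⁻¹) := by rw [h1]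
        _ = _ := by group

theorem exists_xp {Om : Set (Subgroup G)} (b : TwoEq Om) {n : ℕ} (ho : Ord Om n) (hn : n ≠ 0)
    {K L : Subgroup G} (hK : K ∈ Om) (hL : L ∈ Om) (hc : zz K * zz L = zz L * zz K)
    (nK : zz L ∉ normalizer (K : Set G)) (nL : zz K ∉ normalizer (L : Set G)) {h : G}
    (h2 : IsPGroup 2 (zpowers h)) (hhK : h * zz K = zz K * h) (hhL : h * zz L = zz L * h) :
    ∃ T x y, h ∈ T ∧ XP Om K L T x y := by
  obtain ⟨T, hT, hhT⟩ := OneBasic.exists_syl_ge h2 (M := centralizer {zz K} ⊓ centralizer {zz L}) (by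
    rw [zpowers_le]
    exact ⟨mem_centralizer_singleton_iff.2 hhK, mem_centralizer_singleton_iff.2 hhL⟩)
  have hmem : ∀ u : G, u * u = 1 → (∀ a ∈ T, a * u = u * a) → u * zz K = zz K * u → u * zz L = zz L * u →
      u ∈ T := by
    intro u huu hu huK huL
    have h1 : zpowers u ≤ T := by
      refine syl_le_of_normalizes' hT (isP_of_sq huu) ?_ ?_
      · rw [zpowers_le]
        exact ⟨mem_centralizer_singleton_iff.2 huK, mem_centralizer_singleton_iff.2 huL⟩
      · rw [zpowers_le, mem_normalizer_iff_cj]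
        have h2 : ∀ a ∈ T, u * a * u⁻¹ = a := by
          intro a ha
          rw [← hu a ha, mul_inv_cancel_right]
        refine eq_of_le_of_card_ge ?_ (by rw [card_cj])
        rintro _ ⟨a, ha, rfl⟩
        change u * a * u⁻¹ ∈ T
        rw [h2 a ha]; exact ha
    exact h1 (mem_zpowers _)
  have tz : ∀ a ∈ T, a * zz K = zz K * a := fun a ha => mem_centralizer_singleton_iff.1 (hT.1 ha).1
  have tt : ∀ a ∈ T, a * zz L = zz L * a := fun a ha => mem_centralizer_singleton_iff.1 (hT.1 ha).2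
  obtain ⟨x, hx, sx, cx, ex, xx⟩ := exists_side b ho hn hK hL hc nK hT
  obtain ⟨y, hy, sy, cy, ey, yy⟩ := exists_side b ho hn hL hK hc.symm nL (by rw [inf_comm]; exact hT)
  exact ⟨T, x, y, hhT (mem_zpowers h), hK, hL, hx, hy, sx, sy, hc, tz, tt,
    hmem _ (b.hyp.zz_mul hK) tz rfl hc, hmem _ (b.hyp.zz_mul hL) tt hc.symm rfl, nK, nL, cx, cy, ex, ey, xx, yy⟩

namespace XP

variable {Om : Set (Subgroup G)} {K L T : Subgroup G} {x y : G}

/-- an element of `T` or its product with `zz L` normalises `K` -/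
theorem norm_or' (b : TwoEq Om) (p : XP Om K L T x y) {a : G} (ha : a ∈ T) :
    a ∈ normalizer (K : Set G) ∨ a * zz L ∈ normalizer (K : Set G) := by
  obtain ⟨Kh, m, -⟩ := b.exists_mate p.hK
  rcases b.norm_or m (p.tz a ha) with h1 | h1
  · exact Or.inl h1
  · exact Or.inr (b.swap_mul m h1 ((b.norm_or m p.comm.symm).resolve_left p.nK))

/-- squares of elements of `T` centralise `x` -/
theorem sq_comm (b : TwoEq Om) (p : XP Om K L T x y) {a : G} (ha : a ∈ T) : (a * a) * x = x * (a * a) := by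
  have key : ∀ a ∈ T, a ∈ normalizer (K : Set G) → (a * a) * x = x * (a * a) := by
    intro a ha haK
    have hz := p.tz a ha
    rw [← mul_inv_eq_iff_eq_mul]
    rcases p.cx a ha haK with h1 | h1
    · calc (a * a) * x * (a * a)⁻¹ = a * (a * x * a⁻¹) * a⁻¹ := by group
        _ = x := by rw [h1, h1]
    · calc (a * a) * x * (a * a)⁻¹ = a * (a * x * a⁻¹) * a⁻¹ := by group
        _ = a * (x * zz K) * a⁻¹ := by rw [h1]
        _ = (a * x * a⁻¹) * (a * zz K * a⁻¹) := by group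
        _ = x * (zz K * zz K) := by rw [h1, hz, mul_inv_cancel_right, mul_assoc]
        _ = x := by rw [b.hyp.zz_mul p.hK, mul_one]
  rcases p.norm_or' b ha with h1 | h1
  · exact key a ha h1
  · have h2 := key (a * zz L) (T.mul_mem ha p.zL) h1
    have h3 : (a * zz L) * (a * zz L) = a * a := by
      calc (a * zz L) * (a * zz L) = a * (zz L * a) * zz L := by group
        _ = a * (a * zz L) * zz L := by rw [p.tt a ha]
        _ = (a * a) * (zz L * zz L) := by group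
        _ = a * a := by rw [b.hyp.zz_mul p.hL, mul_one]
    rwa [h3] at h2

theorem xz (b : TwoEq Om) (p : XP Om K L T x y) : x * zz K = zz K * x :=
  b.hyp.comm_zz p.hK (le_normalizer p.hx)

theorem x_inv (b : TwoEq Om) (p : XP Om K L T x y) : x⁻¹ = x * zz K := by
  rw [inv_eq_iff_mul_eq_one, ← mul_assoc, p.sx, b.hyp.zz_mul p.hK]

/-- `d = x x^t` commutes with `zz L` -/
theorem d_comm_L (b : TwoEq Om) (p : XP Om K L T x y) :
    (x * (zz L * x * (zz L)⁻¹)) * zz L = zz L * (x * (zz L * x * (zz L)⁻¹)) := by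
  have hLL := b.hyp.zz_mul p.hL
  have h2 : zz L * x * (zz L)⁻¹ * zz L = zz L * x := by group
  have h3 : zz L * (zz L * x * (zz L)⁻¹) = x * zz L := by
    rw [b.hyp.zz_inv p.hL]
    calc zz L * (zz L * x * zz L) = (zz L * zz L) * x * zz L := by group
      _ = _ := by rw [hLL, one_mul]
  calc x * (zz L * x * (zz L)⁻¹) * zz L = (x * zz L) * x := by
        rw [mul_assoc, h2]; group
    _ = zz L * (zz L * x * (zz L)⁻¹) * x := by rw [h3]
    _ = zz L * (x * (zz L * x * (zz L)⁻¹)) := by rw [p.xx]; group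

/-- `d` is central in `T` -/
theorem d_comm (b : TwoEq Om) (p : XP Om K L T x y) {a : G} (ha : a ∈ T) :
    a * (x * (zz L * x * (zz L)⁻¹)) = (x * (zz L * x * (zz L)⁻¹)) * a := by
  have key : ∀ a ∈ T, a ∈ normalizer (K : Set G) →
      a * (x * (zz L * x * (zz L)⁻¹)) = (x * (zz L * x * (zz L)⁻¹)) * a := by
    intro a ha haK
    have hz := p.tz a ha
    have ht := p.tt a ha
    have h1 : a * (x * (zz L * x * (zz L)⁻¹)) * a⁻¹ =
        (a * x * a⁻¹) * (zz L * (a * x * a⁻¹) * (zz L)⁻¹) := by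
      calc a * (x * (zz L * x * (zz L)⁻¹)) * a⁻¹
          = (a * x * a⁻¹) * ((a * zz L) * x * (a * zz L)⁻¹) := by group
        _ = _ := by rw [ht]; group
    rw [← mul_inv_eq_iff_eq_mul, h1]
    rcases p.cx a ha haK with h2 | h2
    · rw [h2]
    · rw [h2]
      have h3 : zz L * (x * zz K) * (zz L)⁻¹ = (zz L * x * (zz L)⁻¹) * zz K := by
        calc zz L * (x * zz K) * (zz L)⁻¹ = (zz L * x * (zz L)⁻¹) * (zz L * zz K * (zz L)⁻¹) := by group
          _ = _ := by rw [← p.comm, mul_inv_cancel_right]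
      have h4 : zz K * (zz L * x * (zz L)⁻¹) = (zz L * x * (zz L)⁻¹) * zz K := by
        calc zz K * (zz L * x * (zz L)⁻¹) = (zz K * zz L) * x * (zz L)⁻¹ := by group
          _ = zz L * (zz K * x) * (zz L)⁻¹ := by rw [p.comm]; group
          _ = zz L * x * (zz K * (zz L)⁻¹) := by rw [← p.xz b]; group
          _ = zz L * x * ((zz L)⁻¹ * zz K) := by rw [b.hyp.zz_inv p.hL, p.comm]
          _ = _ := by group
      rw [h3]
      calc x * zz K * (zz L * x * (zz L)⁻¹ * zz K) = x * (zz K * (zz L * x * (zz L)⁻¹)) * zz K := by group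
        _ = x * (zz L * x * (zz L)⁻¹) * (zz K * zz K) := by rw [h4]; group
        _ = _ := by rw [b.hyp.zz_mul p.hK, mul_one]
  rcases p.norm_or' b ha with h1 | h1
  · exact key a ha h1
  · have h2 := key _ (T.mul_mem ha p.zL) h1
    have h3 := p.d_comm_L b
    have h4 : a * (x * (zz L * x * (zz L)⁻¹)) * zz L = (x * (zz L * x * (zz L)⁻¹)) * a * zz L := by
      calc a * (x * (zz L * x * (zz L)⁻¹)) * zz L = a * ((x * (zz L * x * (zz L)⁻¹)) * zz L) := by group
        _ = (a * zz L) * (x * (zz L * x * (zz L)⁻¹)) := by rw [h3]; group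
        _ = _ := by rw [h2]; group
    exact mul_right_cancel h4

/-- `d = x x^t` -/
theorem d_mul (b : TwoEq Om) (p : XP Om K L T x y) :
    (x * (zz L * x * (zz L)⁻¹)) * (x * (zz L * x * (zz L)⁻¹)) = 1 := by
  calc (x * (zz L * x * (zz L)⁻¹)) * (x * (zz L * x * (zz L)⁻¹))
      = x * ((zz L * x * (zz L)⁻¹) * x) * (zz L * x * (zz L)⁻¹) := by group
    _ = x * (x * (zz L * x * (zz L)⁻¹)) * (zz L * x * (zz L)⁻¹) := by rw [p.xx]
    _ = (x * x) * (zz L * (x * x) * (zz L)⁻¹) := by group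
    _ = 1 := by rw [p.sx, ← p.comm, mul_inv_cancel_right, b.hyp.zz_mul p.hK]

theorem d_mem (p : XP Om K L T x y) : x * (zz L * x * (zz L)⁻¹) ∈ T := by
  obtain ⟨e, he, hee⟩ := p.ex
  rw [← hee]
  exact T.mul_mem he he

/-- `t^x = z d t` -/
theorem zs_eq (b : TwoEq Om) (p : XP Om K L T x y) :
    x⁻¹ * zz L * x = zz K * (x * (zz L * x * (zz L)⁻¹)) * zz L := by
  rw [p.x_inv b, p.xz b]
  group

theorem zs_mem (b : TwoEq Om) (p : XP Om K L T x y) : x⁻¹ * zz L * x ∈ T := by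
  rw [p.zs_eq b]
  exact T.mul_mem (T.mul_mem p.zK p.d_mem) p.zL

theorem zs_comm (b : TwoEq Om) (p : XP Om K L T x y) {a : G} (ha : a ∈ T) :
    a * (x⁻¹ * zz L * x) = (x⁻¹ * zz L * x) * a := by
  rw [p.zs_eq b]
  calc a * (zz K * (x * (zz L * x * (zz L)⁻¹)) * zz L)
      = (a * zz K) * (x * (zz L * x * (zz L)⁻¹)) * zz L := by group
    _ = zz K * (a * (x * (zz L * x * (zz L)⁻¹))) * zz L := by rw [p.tz a ha]; group
    _ = zz K * (x * (zz L * x * (zz L)⁻¹)) * (a * zz L) := by rw [p.d_comm b ha]; group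
    _ = _ := by rw [p.tt a ha]; group

/-- `[a, x] ∈ ⟨z, d⟩` -/
theorem comm_x (b : TwoEq Om) (p : XP Om K L T x y) {a : G} (ha : a ∈ T) :
    x⁻¹ * a * x = a ∨ x⁻¹ * a * x = zz K * a ∨ x⁻¹ * a * x = (x * (zz L * x * (zz L)⁻¹)) * a ∨
      x⁻¹ * a * x = zz K * (x * (zz L * x * (zz L)⁻¹)) * a := by
  obtain ⟨d, hd⟩ : ∃ d, d = x * (zz L * x * (zz L)⁻¹) := ⟨_, rfl⟩
  have hdx : d * x = x * d := by
    rw [hd]
    calc x * (zz L * x * (zz L)⁻¹) * x = x * ((zz L * x * (zz L)⁻¹) * x) := by group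
      _ = _ := by rw [← p.xx]
  have hda : a * d = d * a := by rw [hd]; exact p.d_comm b ha
  have hdd : d * d = 1 := by rw [hd]; exact p.d_mul b
  have hdi : d⁻¹ = d := inv_eq_of_mul_eq_one_right hdd
  have hxz := p.xz b
  have hzz := b.hyp.zz_mul p.hK
  have hxi := p.x_inv b
  have hxx : x⁻¹ * x⁻¹ = zz K := by
    rw [← mul_inv_rev, p.sx, b.hyp.zz_inv p.hK]
  rw [← hd]
  have hxk : ∀ k : G, a * x * a⁻¹ = x * k → x⁻¹ * a * x = k * a := by
    intro k hk
    calc x⁻¹ * a * x = x⁻¹ * (a * x * a⁻¹) * a := by group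
      _ = k * a := by rw [hk]; group
  rcases p.norm_or' b ha with h1 | h1
  · rcases p.cx a ha h1 with h2 | h2
    · left
      rw [hxk 1 (by rw [h2, mul_one]), one_mul]
    · right; left
      exact hxk _ h2
  · have e1 : zz L * x * (zz L)⁻¹ = x⁻¹ * d := by rw [hd]; group
    have e2 : (a * zz L) * x * (a * zz L)⁻¹ = (a * x * a⁻¹)⁻¹ * d := by
      calc (a * zz L) * x * (a * zz L)⁻¹ = a * (zz L * x * (zz L)⁻¹) * a⁻¹ := by group
        _ = a * x⁻¹ * a⁻¹ * (a * d * a⁻¹) := by rw [e1]; group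
        _ = _ := by rw [hda]; group
    rcases p.cx _ (T.mul_mem ha p.zL) h1 with h2 | h2
    · right; right; right
      have e3 : a * x * a⁻¹ = d * x⁻¹ := by
        rw [e2] at h2
        calc a * x * a⁻¹ = d * ((a * x * a⁻¹)⁻¹ * d)⁻¹ := by group
          _ = _ := by rw [h2]
      calc x⁻¹ * a * x = x⁻¹ * (a * x * a⁻¹) * a := by group
        _ = x⁻¹ * (d * x⁻¹) * a := by rw [e3]
        _ = x⁻¹ * (x⁻¹ * (x * d) * x⁻¹) * a := by group
        _ = (x⁻¹ * x⁻¹) * d * a := by rw [← hdx]; group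
        _ = _ := by rw [hxx]
    · right; right; left
      have e3 : a * x * a⁻¹ = d * (zz K * x⁻¹) := by
        rw [e2] at h2
        have e4 : (x * zz K)⁻¹ = zz K * x⁻¹ := by rw [mul_inv_rev, b.hyp.zz_inv p.hK]
        calc a * x * a⁻¹ = d * ((a * x * a⁻¹)⁻¹ * d)⁻¹ := by group
          _ = _ := by rw [h2, e4]
      have e5 : zz K * x⁻¹ = x := by
        rw [hxi, hxz, ← mul_assoc, hzz, one_mul]
      calc x⁻¹ * a * x = x⁻¹ * (a * x * a⁻¹) * a := by group
        _ = x⁻¹ * (d * x) * a := by rw [e3, e5]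
        _ = d * a := by rw [hdx]; group

section fam

variable {M : Type*} [CommGroup M]

theorem step (b : TwoEq Om) (p : XP Om K L T x y) (F : Fam Om M) {a : G} (ha : a ∈ T) :
    F.psi (zz L) a = F.psi (x⁻¹ * zz L * x) a := by
  obtain ⟨d, hd⟩ : ∃ d, d = x * (zz L * x * (zz L)⁻¹) := ⟨_, rfl⟩
  obtain ⟨zs, hzs⟩ : ∃ zs, zs = x⁻¹ * zz L * x := ⟨_, rfl⟩
  have hdT : d ∈ T := by rw [hd]; exact p.d_mem
  have hzT : zs ∈ T := by rw [hzs]; exact p.zs_mem b
  have hcz : ∀ a ∈ T, a * zs = zs * a := fun a ha => by rw [hzs]; exact p.zs_comm b ha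
  have hzsZ : zs ∈ Zs Om := by rw [hzs]; exact Zs_cj' b.hyp (zz_mem_Zs p.hL) x
  have hLZ : zz L ∈ Zs Om := zz_mem_Zs p.hL
  have hKZ : zz K ∈ Zs Om := zz_mem_Zs p.hK
  have hz1 : F.psi zs (zz K) = 1 := F.killZ zs hzsZ _ hKZ (hcz _ p.zK)
  have ht1 : F.psi zs (zz L) = 1 := F.killZ zs hzsZ _ hLZ (hcz _ p.zL)
  have hs1 : F.psi zs zs = 1 := F.killZ zs hzsZ _ hzsZ rfl
  have hde : d = zz K * zs * zz L := by
    have h1 := p.zs_eq b
    rw [← hd, ← hzs] at h1
    rw [h1]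
    calc d = (zz K * zz K) * d * (zz L * zz L) := by rw [b.hyp.zz_mul p.hK, b.hyp.zz_mul p.hL]; group
      _ = _ := by group
  have hd1 : F.psi zs d = 1 := by
    rw [hde, F.mul zs hzsZ _ _ (hcz _ (T.mul_mem p.zK hzT)) (hcz _ p.zL),
      F.mul zs hzsZ _ _ (hcz _ p.zK) (hcz _ hzT), hz1, ht1, hs1, one_mul, one_mul]
  have hc := F.conj (zz L) hLZ x⁻¹ a (p.tt a ha)
  rw [inv_inv, ← hzs] at hc
  rw [← hc, ← hzs]
  rcases p.comm_x b ha with h1 | h1 | h1 | h1
  · rw [h1]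
  · rw [h1, F.mul zs hzsZ _ _ (hcz _ p.zK) (hcz _ ha), hz1, one_mul]
  · rw [h1, ← hd, F.mul zs hzsZ _ _ (hcz _ hdT) (hcz _ ha), hd1, one_mul]
  · rw [h1, ← hd, F.mul zs hzsZ _ _ (hcz _ (T.mul_mem p.zK hdT)) (hcz _ ha),
      F.mul zs hzsZ _ _ (hcz _ p.zK) (hcz _ hdT), hz1, hd1, one_mul, one_mul]

/-- the invariance for `XP` -/
theorem inv (b : TwoEq Om) (p : XP Om K L T x y) (F : Fam Om M) (hF : NInv F) {a : G} (ha : a ∈ T)
    (ha2 : IsPGroup 2 (zpowers a)) : F.psi (zz K) a = F.psi (zz L) a := by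
  obtain ⟨Kh, m, -⟩ := b.exists_mate p.hK
  have q := p.symm
  rw [p.step b F ha, q.step b F ha]
  obtain ⟨d, hd⟩ : ∃ d, d = x * (zz L * x * (zz L)⁻¹) := ⟨_, rfl⟩
  obtain ⟨d', hd'⟩ : ∃ d, d = y * (zz K * y * (zz K)⁻¹) := ⟨_, rfl⟩
  have h1 := p.zs_eq b
  have h2 := q.zs_eq b
  rw [← hd] at h1
  rw [← hd'] at h2
  have hzK := b.hyp.zz_mul p.hK
  have hzL := b.hyp.zz_mul p.hL
  have hyd : y * d = d * y := by
    obtain ⟨e, he, hee⟩ := p.ex
    rw [hd, ← hee]
    exact (q.sq_comm b he).symm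
  have hyL : y * zz L = zz L * y := q.xz b
  have hdT : d ∈ T := by rw [hd]; exact p.d_mem
  have hd'T : d' ∈ T := by rw [hd']; exact q.d_mem
  -- conjugation by `y`
  have e0 : y * zz K * y⁻¹ = zz L * d' * zz K := by
    rw [← h2]
    have h3 : y * zz K * y⁻¹ = y⁻¹ * ((y * y) * zz K * (y * y)⁻¹) * y := by group
    rw [h3, q.sx, ← p.comm, mul_inv_cancel_right]
  have e1 : y * (y⁻¹ * zz K * y) * y⁻¹ = zz K := by group
  have hdd' : d' * d = d * d' := by rw [hd]; exact p.d_comm b hd'T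
  have e2 : y * (x⁻¹ * zz L * x) * y⁻¹ = zz K * (d * d') := by
    rw [h1]
    calc y * (zz K * d * zz L) * y⁻¹ = (y * zz K * y⁻¹) * (y * d) * zz L * y⁻¹ := by group
      _ = (y * zz K * y⁻¹) * d * (y * zz L) * y⁻¹ := by rw [hyd]; group
      _ = (zz L * d' * zz K) * d * zz L := by rw [hyL, e0]; group
      _ = zz L * d' * (zz K * d) * zz L := by group
      _ = zz L * (d' * d) * (zz K * zz L) := by rw [← p.tz d hdT]; group
      _ = zz L * (d * d') * (zz L * zz K) := by rw [hdd', p.comm]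
      _ = zz L * ((d * d') * zz L) * zz K := by group
      _ = (zz L * zz L) * ((d * d') * zz K) := by rw [p.tt _ (T.mul_mem hdT hd'T)]; group
      _ = _ := by rw [hzL, one_mul, p.tz _ (T.mul_mem hdT hd'T)]
  obtain ⟨u, hu⟩ : ∃ u, u = zz K * (d * d') := ⟨_, rfl⟩
  rw [← hu] at e2
  have hsZ : x⁻¹ * zz L * x ∈ Zs Om := Zs_cj' b.hyp (zz_mem_Zs p.hL) x
  have hhZ : y⁻¹ * zz K * y ∈ Zs Om := Zs_cj' b.hyp (zz_mem_Zs p.hK) y
  have huZ : u ∈ Zs Om := by rw [← e2]; exact Zs_cj b.hyp hsZ y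
  have hsc := p.zs_comm b ha
  have hhc := q.zs_comm b ha
  by_cases huz : u = zz K
  · have h3 : x⁻¹ * zz L * x = y⁻¹ * zz K * y := by
      rw [huz] at e2
      calc x⁻¹ * zz L * x = y⁻¹ * (y * (x⁻¹ * zz L * x) * y⁻¹) * y := by group
        _ = _ := by rw [e2]
    rw [h3]
  · have huK : u ∈ normalizer (K : Set G) := by
      rw [hu]
      refine mul_mem (le_normalizer (b.hyp.zz_mem p.hK)) (mul_mem ?_ ?_)
      · obtain ⟨e, he, hee⟩ := p.ex
        rw [hd, ← hee]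
        exact b.sq_norm m (p.tz e he)
      · obtain ⟨e, he, hee⟩ := p.ey
        rw [hd', ← hee]
        exact b.sq_norm m (p.tz e he)
    have h3 := hF K p.hK u huZ huz huK (y * a * y⁻¹) (by
        obtain ⟨k, hk⟩ := isP_iff.1 ha2
        refine isP_iff.2 ⟨k, ?_⟩
        rw [conj_pow, hk]; group) (by
        calc y * a * y⁻¹ * zz K = y * (a * (y⁻¹ * zz K * y)) * y⁻¹ := by group
          _ = y * ((y⁻¹ * zz K * y) * a) * y⁻¹ := by rw [hhc]
          _ = _ := by group) (by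
        rw [← e2]
        calc y * a * y⁻¹ * (y * (x⁻¹ * zz L * x) * y⁻¹) = y * (a * (x⁻¹ * zz L * x)) * y⁻¹ := by group
          _ = y * ((x⁻¹ * zz L * x) * a) * y⁻¹ := by rw [hsc]
          _ = _ := by group)
    have h4 := F.conj _ hhZ y a hhc
    have h5 := F.conj _ hsZ y a hsc
    rw [e1] at h4
    rw [e2] at h5
    rw [← h4, ← h5, h3]

end fam

end XP

section

variable {Om : Set (Subgroup G)} {M : Type*} [CommGroup M]

/-- **X-INV** -/
theorem xinv (b : TwoEq Om) {n : ℕ} (ho : Ord Om n) (hn : n ≠ 0) (F : Fam Om M) (hF : NInv F)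
    {K L : Subgroup G} (hK : K ∈ Om) (hL : L ∈ Om) (hc : zz K * zz L = zz L * zz K)
    (nK : zz L ∉ normalizer (K : Set G)) (nL : zz K ∉ normalizer (L : Set G)) {h : G}
    (h2 : IsPGroup 2 (zpowers h)) (hhK : h * zz K = zz K * h) (hhL : h * zz L = zz L * h) :
    F.psi (zz K) h = F.psi (zz L) h := by
  obtain ⟨T, x, y, hT, p⟩ := exists_xp b ho hn hK hL hc nK nL h2 hhK hhL
  exact p.inv b F hF hT h2

/-- **INV** -/
theorem inv_all (b : TwoEq Om) {n : ℕ} (ho : Ord Om n) (hn : n ≠ 0) (hS : NSym Om) (F : Fam Om M) (hF : NInv F)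
    {z t : G} (hz : z ∈ Zs Om) (ht : t ∈ Zs Om) (hc : z * t = t * z) {h : G}
    (h2 : IsPGroup 2 (zpowers h)) (hhz : h * z = z * h) (hht : h * t = t * h) : F.psi z h = F.psi t h := by
  obtain ⟨K, hK, rfl⟩ := hz
  obtain ⟨L, hL, rfl⟩ := ht
  by_cases hne : zz L = zz K
  · rw [hne]
  by_cases h1 : zz L ∈ normalizer (K : Set G)
  · exact hF K hK _ (zz_mem_Zs hL) hne h1 h h2 hhz hht
  · exact xinv b ho hn F hF hK hL hc h1 (fun h3 => h1 (hS L hL K hK h3)) h2 hhz hht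

/-- the compatible family in the sense of `OneField` -/
def Fam.toPsi (b : TwoEq Om) {n : ℕ} (ho : Ord Om n) (hn : n ≠ 0) (hS : NSym Om) (F : Fam Om M) (hF : NInv F)
    (hM : ∃ s, Nat.card M = 2 ^ s) : OneField.Psi (Zs Om) M where
  psi := F.psi
  mul := F.mul
  conj := F.conj
  agree := by
    intro z hz w hw hc h hhz hhw
    obtain ⟨m, hm, hm2⟩ := exists_odd_pow h
    have hpow : ∀ z ∈ Zs Om, h * z = z * h → ∀ k : ℕ, F.psi z (h ^ k) = F.psi z h ^ k := by
      intro z hz hhz k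
      induction k with
      | zero =>
        rw [pow_zero, pow_zero]
        have h1 := F.mul z hz 1 1 (by simp) (by simp)
        rw [mul_one] at h1
        exact left_eq_mul.1 h1
      | succ k ih =>
        rw [pow_succ, pow_succ, F.mul z hz _ _ ((show Commute h z from hhz).pow_left k).eq hhz, ih]
    have h1 := inv_all b ho hn hS F hF hz hw hc hm2 ((show Commute h z from hhz).pow_left m).eq
      ((show Commute h w from hhw).pow_left m).eq
    rw [hpow z hz hhz, hpow w hw hhw] at h1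
    obtain ⟨s, hs⟩ := hM
    rw [← mul_inv_eq_one]
    apply eq_one_of_pow hs hm
    rw [mul_pow, inv_pow, h1, mul_inv_cancel]

/-- **GEN**: a family killing the members and the class is trivial -/
theorem gen (b : TwoEq Om) {n : ℕ} (ho : Ord Om n) (hn : n ≠ 0) (hS : NSym Om) (F : Fam Om M) (hF : NInv F)
    (hM : ∃ s, Nat.card M = 2 ^ s) (hidx : ∀ H : Subgroup G, H.index ≠ 2) {z h : G} (hz : z ∈ Zs Om)
    (hhz : h * z = z * h) : F.psi z h = 1 := by
  have key : ∀ h : G, h * z = z * h → IsPGroup 2 (zpowers h) → F.psi z h = 1 := by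
    intro h hhz h2
    obtain ⟨K, hK, rfl⟩ := hz
    obtain ⟨R, hR, -⟩ := OneBasic.exists_syl_ge h2 (M := centralizer {zz K}) (by
      rw [zpowers_le]; exact mem_centralizer_singleton_iff.2 hhz)
    exact (F.toPsi b ho hn hS hF hM).eq_one' (fun z hz g => Zs_cj b.hyp hz g) (fun z hz => Zs_isP b.hyp hz)
      (b.syl_top hK hR) (zz_mem_Zs hK) hR.1 (fun N hN k hk => index_eq_one hidx N hN k hk) (zz_mem_Zs hK) h2 hhz
  obtain ⟨m, hm, hm2⟩ := exists_odd_pow h
  have hpow : ∀ k : ℕ, F.psi z (h ^ k) = F.psi z h ^ k := by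
    intro k
    induction k with
    | zero =>
      rw [pow_zero, pow_zero]
      have h1 := F.mul z hz 1 1 (by simp) (by simp)
      rw [mul_one] at h1
      exact left_eq_mul.1 h1
    | succ k ih =>
      rw [pow_succ, pow_succ, F.mul z hz _ _ ((show Commute h z from hhz).pow_left k).eq hhz, ih]
  have h1 := key _ ((show Commute h z from hhz).pow_left m).eq hm2
  rw [hpow] at h1
  obtain ⟨s, hs⟩ := hM
  exact eq_one_of_pow hs hm h1

end

end Cfsg.Agent.Cit.TwoFK
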