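import Cfsg.Agent.Cit.TwoFK.Pair
import Cfsg.Agent.Cit.TwoFK.Fam

/-!
# N-pairs: LEMMA G and the invariance `NInv`

`NPair.lemmaG`: for an N-pair `(z,t)` a subgroup containing all `s ∈ Zs ∩ C(t)` contains `q q'` whenever
`q ∈ K ∩ R`, `q' ∈ K' ∩ R` and `q q'` commutes with `t`.
`ninv`: `NInv F` for all families.
-/

set_option autoImplicit false
set_option linter.style.haveILetI false
set_option linter.unusedSectionVars false
set_option linter.unusedVariables false

namespace Cfsg.Agent.Cit.TwoFK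

open Subgroup Cfsg Cit OneBasic

variable {G : Type*} [Group G] [Finite G] {Om : Set (Subgroup G)} {K K' L L' T R R' : Subgroup G}

namespace NPair

theorem inf_inf (p : NPair Om K K' L L' T R R') {a : G} (ha : a ∈ K ⊓ R) (ha' : a ∈ K') :
    a = 1 ∨ a = zz K := by
  rcases Cit.inf_inf_le p.b.hyp p.rp (p.b.mem_OmS p.m.hK p.hR) (p.b.mem_OmS_mate p.m p.hR) p.m.ne ha ha' with
    h | h
  · exact Or.inl h
  · exact Or.inr h.1

theorem zL_conj (p : NPair Om K K' L L' T R R') {q : G} (hq : q ∈ K ⊓ R) : zz L * q * (zz L)⁻¹ ∈ K ⊓ R :=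
  conj_mem_of (p.hTQ p.zL_T p.nK) hq

/-- an element `q q'` commuting with `t`: both factors commute with `t` or both are moved by `z` -/
theorem comm_or (p : NPair Om K K' L L' T R R') {q q' : G} (hq : q ∈ K ⊓ R) (hq' : q' ∈ K' ⊓ R)
    (h : (q * q') * zz L = zz L * (q * q')) :
    (zz L * q * (zz L)⁻¹ = q ∧ zz L * q' * (zz L)⁻¹ = q') ∨
    (zz L * q * (zz L)⁻¹ = q * zz K ∧ zz L * q' * (zz L)⁻¹ = q' * zz K) := by
  have hz := p.b.hyp.zz_mul p.m.hK
  have h1 : zz L * q * (zz L)⁻¹ ∈ K ⊓ R := p.zL_conj hq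
  have h2 : zz L * q' * (zz L)⁻¹ ∈ K' ⊓ R := p.mate.zL_conj hq'
  have h3 : (zz L * q * (zz L)⁻¹) * (zz L * q' * (zz L)⁻¹) = q * q' := by
    calc (zz L * q * (zz L)⁻¹) * (zz L * q' * (zz L)⁻¹) = (zz L * (q * q')) * (zz L)⁻¹ := by group
      _ = q * q' := by rw [← h]; group
  have h4 : q⁻¹ * (zz L * q * (zz L)⁻¹) = q' * (zz L * q' * (zz L)⁻¹)⁻¹ := by
    rw [eq_mul_inv_iff_mul_eq, mul_assoc, h3]; group
  rcases p.inf_inf (mul_mem (inv_mem hq) h1) (by rw [h4]; exact mul_mem hq'.1 (inv_mem h2.1)) with h5 | h5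
  · left
    have h6 := h5
    rw [h4] at h6
    exact ⟨(inv_mul_eq_one.1 h5).symm, (mul_inv_eq_one.1 h6).symm⟩
  · right
    have h6 := h5
    rw [h4] at h6
    rw [inv_mul_eq_iff_eq_mul] at h5
    refine ⟨h5, ?_⟩
    have h7 : q' = zz K * (zz L * q' * (zz L)⁻¹) := mul_inv_eq_iff_eq_mul.1 h6
    have h8 : q' * zz K = zz K * q' := by
      rw [p.m.zz]; exact p.b.hyp.comm_zz p.m.hL (le_normalizer hq'.1)
    have h9 : zz L * q' * (zz L)⁻¹ = zz K * q' := by
      calc zz L * q' * (zz L)⁻¹ = (zz K * zz K) * (zz L * q' * (zz L)⁻¹) := by rw [hz, one_mul]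
        _ = zz K * (zz K * (zz L * q' * (zz L)⁻¹)) := by group
        _ = zz K * q' := by rw [← h7]
    rw [h9, h8]

/-- **LEMMA G** -/
theorem lemmaG (p : NPair Om K K' L L' T R R') (hk : OneF.K1 Om) {N : Subgroup G}
    (hN : ∀ s ∈ Zs Om, s * zz L = zz L * s → s ∈ N) {q q' : G} (hq : q ∈ K ⊓ R) (hq' : q' ∈ K' ⊓ R)
    (h : (q * q') * zz L = zz L * (q * q')) : q * q' ∈ N := by
  obtain ⟨x, y, x2, y2, n, c⟩ := p.exists_co
  have hz := p.b.hyp.zz_mul p.m.hK
  have hzne := p.b.hyp.zz_ne p.m.hK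
  have htN : zz L ∈ N := hN _ (zz_mem_Zs p.m'.hK) rfl
  have g2' : GQ (K' ⊓ R) x2 y2 (zz K') n := by rw [← p.m.zz]; exact c.g2
  -- a product moved into `Zs`
  have hin : ∀ u, (zz L * u) ∈ Zs Om → u * zz L = zz L * u → u ∈ N := by
    intro u hu hut
    have h1 : zz L * u ∈ N := hN _ hu (by rw [mul_assoc, hut])
    have h2 := N.mul_mem (N.inv_mem htN) h1
    rwa [show (zz L)⁻¹ * (zz L * u) = u by group] at h2
  rcases c.kind with ⟨⟨hx, hy, hx2, hy2⟩, -⟩ | ⟨⟨⟨hx, j, hj, hy⟩, hx2, j2, hj2, hy2⟩, -⟩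
  · -- type W
    have hf : ∀ i k : ℤ, (y * x ^ i) * (y2 * x2 ^ k) ∈ N := by
      intro i k
      have hyx : y * x ^ i ∈ K ⊓ R := mul_mem c.g.v_mem (zpow_mem c.g.c_mem i)
      have hyx2 : y2 * x2 ^ k ∈ K' ⊓ R := mul_mem c.g2.v_mem (zpow_mem c.g2.c_mem k)
      have hs1 := zs_W p.b.hyp p.m.hK hk p.hQ c.g (zz_mem_Zs p.m'.hK) p.nK hx hy i
      have hc1 := p.comm_QQ hyx c.g2.c_mem
      have hc2 := p.comm_QQ hyx c.g2.v_mem
      have hs2 := zs_W p.b.hyp p.m.hL hk p.mate.hQ g2' hs1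
        (mul_mem p.mate.nK (p.m.le_normalizer p.b.hyp hyx.1))
        (by
          calc zz L * (y * x ^ i) * x2 = zz L * ((y * x ^ i) * x2) := by group
            _ = (zz L * x2) * (y * x ^ i) := by rw [hc1]; group
            _ = x2 * (zz L * (y * x ^ i)) := by rw [hx2]; group)
        (by
          calc zz L * (y * x ^ i) * y2 * (zz L * (y * x ^ i))⁻¹
              = zz L * ((y * x ^ i) * y2) * (y * x ^ i)⁻¹ * (zz L)⁻¹ := by group
            _ = zz L * y2 * (zz L)⁻¹ := by rw [hc2]; group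
            _ = y2 * zz K' := by rw [hy2, p.m.zz]) k
      refine hin _ (by rw [← mul_assoc]; exact hs2) ?_
      have h1 : zz L * (y * x ^ i) * (zz L)⁻¹ = (y * x ^ i) * zz K := by
        have h2 : zz L * x ^ i * (zz L)⁻¹ = x ^ i := by
          rw [((show Commute (zz L) x from hx).zpow_right i).eq, mul_inv_cancel_right]
        have h3 : x ^ i * zz K = zz K * x ^ i :=
          p.b.hyp.comm_zz p.m.hK (le_normalizer (zpow_mem c.g.c_mem i : x ^ i ∈ K ⊓ R).1)
        calc zz L * (y * x ^ i) * (zz L)⁻¹ = (zz L * y * (zz L)⁻¹) * (zz L * x ^ i * (zz L)⁻¹) := by group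
          _ = y * (zz K * x ^ i) := by rw [hy, h2, mul_assoc]
          _ = _ := by rw [← h3, mul_assoc]
      have h2 : zz L * (y2 * x2 ^ k) * (zz L)⁻¹ = (y2 * x2 ^ k) * zz K := by
        have h2 : zz L * x2 ^ k * (zz L)⁻¹ = x2 ^ k := by
          rw [((show Commute (zz L) x2 from hx2).zpow_right k).eq, mul_inv_cancel_right]
        have h3 : x2 ^ k * zz K = zz K * x2 ^ k := by
          rw [p.m.zz]
          exact p.b.hyp.comm_zz p.m.hL (le_normalizer (zpow_mem c.g2.c_mem k : x2 ^ k ∈ K' ⊓ R).1)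
        calc zz L * (y2 * x2 ^ k) * (zz L)⁻¹ = (zz L * y2 * (zz L)⁻¹) * (zz L * x2 ^ k * (zz L)⁻¹) := by group
          _ = y2 * (zz K * x2 ^ k) := by rw [hy2, h2, mul_assoc]
          _ = _ := by rw [← h3, mul_assoc]
      have h3 : (y2 * x2 ^ k) * zz K = zz K * (y2 * x2 ^ k) := by
        rw [p.m.zz]; exact p.b.hyp.comm_zz p.m.hL (le_normalizer hyx2.1)
      have h4 : zz L * ((y * x ^ i) * (y2 * x2 ^ k)) * (zz L)⁻¹ = (y * x ^ i) * (y2 * x2 ^ k) := by
        calc zz L * ((y * x ^ i) * (y2 * x2 ^ k)) * (zz L)⁻¹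
            = (zz L * (y * x ^ i) * (zz L)⁻¹) * (zz L * (y2 * x2 ^ k) * (zz L)⁻¹) := by group
          _ = (y * x ^ i) * (zz K * (y2 * x2 ^ k)) * zz K := by rw [h1, h2]; group
          _ = (y * x ^ i) * (y2 * x2 ^ k) * (zz K * zz K) := by rw [← h3]; group
          _ = _ := by rw [hz, mul_one]
      rw [mul_inv_eq_iff_eq_mul] at h4
      exact h4.symm
    rcases p.comm_or hq hq' h with ⟨h1, h2⟩ | ⟨h1, h2⟩
    · -- both commute with `t`
      have e1 : q ∈ zpowers x := by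
        rcases c.g.covZ hq with h3 | ⟨i, rfl⟩
        · exact h3
        · exfalso
          have h4 : zz L * x ^ i * (zz L)⁻¹ = x ^ i := by
            rw [((show Commute (zz L) x from hx).zpow_right i).eq, mul_inv_cancel_right]
          have h5 : zz L * (y * x ^ i) * (zz L)⁻¹ = y * zz K * x ^ i := by
            calc zz L * (y * x ^ i) * (zz L)⁻¹ = (zz L * y * (zz L)⁻¹) * (zz L * x ^ i * (zz L)⁻¹) := by group
              _ = _ := by rw [hy, h4]
          rw [h5, mul_assoc] at h1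
          have h6 := mul_left_cancel h1
          exact hzne (mul_eq_right.1 h6)
      have e2 : q' ∈ zpowers x2 := by
        rcases c.g2.covZ hq' with h3 | ⟨i, rfl⟩
        · exact h3
        · exfalso
          have h4 : zz L * x2 ^ i * (zz L)⁻¹ = x2 ^ i := by
            rw [((show Commute (zz L) x2 from hx2).zpow_right i).eq, mul_inv_cancel_right]
          have h5 : zz L * (y2 * x2 ^ i) * (zz L)⁻¹ = y2 * zz K * x2 ^ i := by
            calc zz L * (y2 * x2 ^ i) * (zz L)⁻¹ = (zz L * y2 * (zz L)⁻¹) * (zz L * x2 ^ i * (zz L)⁻¹) := by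
                  group
              _ = _ := by rw [hy2, h4]
          rw [h5, mul_assoc] at h2
          have h6 := mul_left_cancel h2
          exact hzne (mul_eq_right.1 h6)
      obtain ⟨i, rfl⟩ := e1
      obtain ⟨k, rfl⟩ := e2
      have h3 := N.mul_mem (N.inv_mem (hf 0 0)) (hf i k)
      rw [zpow_zero, zpow_zero, mul_one, mul_one] at h3
      have h4 : x ^ i * y2 = y2 * x ^ i := p.comm_QQ (zpow_mem c.g.c_mem i) c.g2.v_mem
      have h5 : (y * y2)⁻¹ * (y * x ^ i * (y2 * x2 ^ k)) = x ^ i * x2 ^ k := by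
        calc (y * y2)⁻¹ * (y * x ^ i * (y2 * x2 ^ k)) = y2⁻¹ * (x ^ i * y2) * x2 ^ k := by group
          _ = x ^ i * x2 ^ k := by rw [h4]; group
      rwa [h5] at h3
    · -- both are moved
      have e1 : ∃ i : ℤ, q = y * x ^ i := by
        rcases c.g.covZ hq with ⟨i, rfl⟩ | h3
        · exfalso
          have h4 : zz L * x ^ i * (zz L)⁻¹ = x ^ i := by
            rw [((show Commute (zz L) x from hx).zpow_right i).eq, mul_inv_cancel_right]
          change zz L * x ^ i * (zz L)⁻¹ = x ^ i * zz K at h1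
          rw [h4] at h1
          exact hzne (mul_eq_left.1 h1.symm)
        · exact h3
      have e2 : ∃ i : ℤ, q' = y2 * x2 ^ i := by
        rcases c.g2.covZ hq' with ⟨i, rfl⟩ | h3
        · exfalso
          have h4 : zz L * x2 ^ i * (zz L)⁻¹ = x2 ^ i := by
            rw [((show Commute (zz L) x2 from hx2).zpow_right i).eq, mul_inv_cancel_right]
          change zz L * x2 ^ i * (zz L)⁻¹ = x2 ^ i * zz K at h2
          rw [h4] at h2
          exact hzne (mul_eq_left.1 h2.symm)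
        · exact h3
      obtain ⟨i, rfl⟩ := e1
      obtain ⟨k, rfl⟩ := e2
      exact hf i k
  · -- type SD
    have key : ∀ {X Y q z : G} {Q : Subgroup G} {n : ℕ} {j : ℤ} (_ : GQ Q X Y z n) (_ : q ∈ Q)
        (_ : zz L * X * (zz L)⁻¹ = X⁻¹) (_ : Odd j) (_ : zz L * Y * (zz L)⁻¹ = Y * X ^ j)
        (_ : zz L * q * (zz L)⁻¹ = q ∨ zz L * q * (zz L)⁻¹ = q * z), q ∈ zpowers X := by
      intro X Y q z Q n j g hq hX hj hY hor
      rcases g.covZ hq with h3 | ⟨i, rfl⟩
      · exact h3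
      · exfalso
        have h4 : zz L * X ^ i * (zz L)⁻¹ = X ^ (-i) := by
          rw [← conj_zpow, hX, inv_zpow, zpow_neg]
        have h5 : zz L * (Y * X ^ i) * (zz L)⁻¹ = Y * X ^ (j - i) := by
          calc zz L * (Y * X ^ i) * (zz L)⁻¹ = (zz L * Y * (zz L)⁻¹) * (zz L * X ^ i * (zz L)⁻¹) := by group
            _ = Y * (X ^ j * X ^ (-i)) := by rw [hY, h4, mul_assoc]
            _ = _ := by rw [← zpow_add, sub_eq_add_neg]
        rw [h5] at hor
        have h6 : X ^ (j - 2 * i) = 1 ∨ X ^ (j - 2 * i - 2 ^ (n + 1)) = 1 := by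
          rcases hor with h7 | h7
          · left
            have h8 := mul_left_cancel h7
            rw [show j - 2 * i = (j - i) - i by ring, zpow_sub, h8, mul_inv_cancel]
          · right
            rw [mul_assoc] at h7
            have h8 := mul_left_cancel h7
            rw [show j - 2 * i - 2 ^ (n + 1) = (j - i) - (i + 2 ^ (n + 1)) by ring, zpow_sub, h8, zpow_add,
              g.z_zpow, mul_inv_cancel]
        rcases h6 with h6 | h6
        · rw [g.zpow_eq_one_iff] at h6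
          have h7 : (2 : ℤ) ∣ j - 2 * i := (dvd_pow_self 2 (by omega)).trans h6
          rw [Int.odd_iff] at hj
          omega
        · rw [g.zpow_eq_one_iff] at h6
          have h7 : (2 : ℤ) ∣ j - 2 * i - 2 ^ (n + 1) := (dvd_pow_self 2 (by omega)).trans h6
          have h8 : (2 : ℤ) ∣ 2 ^ (n + 1) := dvd_pow_self 2 (by omega)
          rw [Int.odd_iff] at hj
          omega
    have h1 : q ∈ zpowers x := key c.g hq hx hj hy ((p.comm_or hq hq' h).imp (fun h => h.1) (fun h => h.1))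
    have h2 : q' ∈ zpowers x2 := key c.g2 hq' hx2 hj2 hy2 ((p.comm_or hq hq' h).imp (fun h => h.2) (fun h => h.2))
    obtain ⟨i, rfl⟩ := h1
    obtain ⟨k, rfl⟩ := h2
    refine hin _ ?_ h
    change zz L * (x ^ i * x2 ^ k) ∈ Zs Om
    have hs1 := zs_SD p.b.hyp (zz_mem_Zs p.m'.hK) hx hj hy i
    have hc1 : x ^ i * x2 = x2 * x ^ i := p.comm_QQ (zpow_mem c.g.c_mem i) c.g2.c_mem
    have hc2 : x ^ i * y2 = y2 * x ^ i := p.comm_QQ (zpow_mem c.g.c_mem i) c.g2.v_mem
    have hs2 := zs_SD p.b.hyp hs1 (x := x2) (y := y2) (j := j2)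
      (by
        calc zz L * x ^ i * x2 * (zz L * x ^ i)⁻¹ = zz L * (x ^ i * x2) * (x ^ i)⁻¹ * (zz L)⁻¹ := by group
          _ = zz L * x2 * (zz L)⁻¹ := by rw [hc1]; group
          _ = x2⁻¹ := hx2) hj2
      (by
        calc zz L * x ^ i * y2 * (zz L * x ^ i)⁻¹ = zz L * (x ^ i * y2) * (x ^ i)⁻¹ * (zz L)⁻¹ := by group
          _ = zz L * y2 * (zz L)⁻¹ := by rw [hc2]; group
          _ = _ := hy2) k
    rwa [mul_assoc] at hs2

end NPair

section fam

variable {M : Type*} [CommGroup M]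

theorem Fam.psi_one (F : Fam Om M) {t : G} (ht : t ∈ Zs Om) : F.psi t 1 = 1 := by
  have h1 := F.mul t ht 1 1 (by rw [one_mul, mul_one]) (by rw [one_mul, mul_one])
  rw [one_mul] at h1
  exact (mul_eq_left.1 h1.symm)

/-- the kernel of `psi t` -/
def Fam.ker (F : Fam Om M) {t : G} (ht : t ∈ Zs Om) : Subgroup G where
  carrier := {a | a * t = t * a ∧ F.psi t a = 1}
  one_mem' := ⟨by rw [one_mul, mul_one], F.psi_one ht⟩
  mul_mem' := by
    rintro a b ⟨ha, ha1⟩ ⟨hb, hb1⟩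
    refine ⟨by rw [mul_assoc, hb, ← mul_assoc, ha, mul_assoc], ?_⟩
    rw [F.mul t ht a b ha hb, ha1, hb1, one_mul]
  inv_mem' := by
    rintro a ⟨ha, ha1⟩
    have h1 : a⁻¹ * t = t * a⁻¹ := ((show Commute a t from ha).inv_left).eq
    refine ⟨h1, ?_⟩
    have h2 := F.mul t ht a a⁻¹ ha h1
    rw [mul_inv_cancel, F.psi_one ht, ha1, one_mul] at h2
    exact h2.symm

theorem Fam.mem_ker (F : Fam Om M) {t : G} (ht : t ∈ Zs Om) {a : G} :
    a ∈ F.ker ht ↔ a * t = t * a ∧ F.psi t a = 1 := Iff.rfl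

theorem Fam.psi_conj (F : Fam Om M) {t : G} (ht : t ∈ Zs Om) {g a : G} (hg : g * t = t * g)
    (ha : a * t = t * a) : F.psi t (g * a * g⁻¹) = F.psi t a := by
  have h1 : g⁻¹ * t = t * g⁻¹ := ((show Commute g t from hg).inv_left).eq
  have h2 := F.mul t ht g g⁻¹ hg h1
  rw [mul_inv_cancel, F.psi_one ht] at h2
  have h3 : (g * a) * t = t * (g * a) := by rw [mul_assoc, ha, ← mul_assoc, hg, mul_assoc]
  rw [F.mul t ht (g * a) g⁻¹ h3 h1, F.mul t ht g a hg ha, mul_comm (F.psi t g), mul_assoc, ← h2, mul_one]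

/-- the invariance for an N-pair -/
theorem NPair.inv (p : NPair Om K K' L L' T R R') (hk : OneF.K1 Om) (F : Fam Om M) {h : G} (hh : h ∈ T) :
    F.psi (zz K) h = F.psi (zz L) h := by
  have ht : zz L ∈ Zs Om := zz_mem_Zs p.m'.hK
  have hz : zz K ∈ Zs Om := zz_mem_Zs p.m.hK
  obtain ⟨u, hu, hu2⟩ := p.symm.hp.exists_swap
  obtain ⟨q, hq, hq2⟩ := p.hp.exists_swap
  -- `g = q⁻¹ u` maps `z` to `t`
  have hg : (q⁻¹ * u) * zz K * (q⁻¹ * u)⁻¹ = zz L := by
    calc (q⁻¹ * u) * zz K * (q⁻¹ * u)⁻¹ = q⁻¹ * (u * zz K * u⁻¹) * q := by group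
      _ = q⁻¹ * (q * zz L * q⁻¹) * q := by rw [hu2, ← p.comm, hq2]
      _ = zz L := by group
  have hhz := p.tz hh
  have hht := p.tt hh
  have h1 := F.conj (zz K) hz (q⁻¹ * u) h hhz
  rw [hg] at h1
  rw [← h1]
  have hut : u * zz L = zz L * u := p.b.hyp.comm_zz p.m'.hK (le_normalizer hu.1)
  obtain ⟨c, hc⟩ : ∃ c, c = u * h * u⁻¹ := ⟨_, rfl⟩
  have hcR : c ∈ R' := by rw [hc]; exact mul_mem (mul_mem hu.2 (p.TR' hh)) (inv_mem hu.2)
  have hcz : c * zz K = zz K * c := by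
    have h2 : c * (zz L * zz K) = (zz L * zz K) * c := by
      rw [← hu2, hc]
      exact OneF.commute_conj u hhz
    have h3 : c * zz L = zz L * c := by
      rw [hc]
      have := OneF.commute_conj u hht
      rwa [hut, mul_inv_cancel_right] at this
    have h4 : zz L * (c * zz K) = zz L * (zz K * c) := by
      calc zz L * (c * zz K) = (zz L * c) * zz K := by group
        _ = c * (zz L * zz K) := by rw [← h3]; group
        _ = zz L * (zz K * c) := by rw [h2]; group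
    exact mul_left_cancel h4
  have hcT : c ∈ T := p.symm.mem_T hcR hcz
  have hct : c * zz L = zz L * c := p.tt hcT
  have hcpsi : F.psi (zz L) c = F.psi (zz L) h := by rw [hc]; exact F.psi_conj ht hut hht
  -- `γ`
  obtain ⟨γ, hγ⟩ : ∃ γ, γ = q⁻¹ * (c * q * c⁻¹) := ⟨_, rfl⟩
  have he : (q⁻¹ * u) * h * (q⁻¹ * u)⁻¹ = γ * c := by rw [hγ, hc]; group
  have het : (γ * c) * zz L = zz L * (γ * c) := by
    have h2 := OneF.commute_conj (q⁻¹ * u) hhz
    rwa [hg, he] at h2
  have hγt : γ * zz L = zz L * γ := by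
    have h2 : (γ * zz L) * c = (zz L * γ) * c := by
      calc (γ * zz L) * c = γ * (c * zz L) := by rw [hct]; group
        _ = (γ * c) * zz L := by group
        _ = (zz L * γ) * c := by rw [het]; group
    exact mul_right_cancel h2
  have hγN : γ ∈ F.ker ht := by
    have hN : ∀ s ∈ Zs Om, s * zz L = zz L * s → s ∈ F.ker ht := fun s hs hst => ⟨hst, F.killZ _ ht s hs hst⟩
    rcases p.b.norm_or p.m (p.tz hcT) with h2 | h2
    · have h3 : c * q * c⁻¹ ∈ K ⊓ R := conj_mem_of (p.hTQ hcT h2) hq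
      have h4 := p.lemmaG hk hN (q := γ) (q' := 1) (by rw [hγ]; exact mul_mem (inv_mem hq) h3) (one_mem _)
        (by rw [mul_one]; exact hγt)
      rwa [mul_one] at h4
    · have h3 : c * q * c⁻¹ ∈ K' ⊓ R := by
        refine ⟨?_, mul_mem (mul_mem (p.TR hcT) hq.2) (R.inv_mem (p.TR hcT))⟩
        rw [← h2]
        exact conj_mem_cj hq.1
      have h4 := p.lemmaG hk hN (q := q⁻¹) (q' := c * q * c⁻¹) (inv_mem hq) h3 (by rw [← hγ]; exact hγt)
      rwa [← hγ] at h4
  rw [he, F.mul _ ht γ c hγt hct, hγN.2, one_mul, hcpsi]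

/-- **N-INV** -/
theorem ninv (b : TwoEq Om) (hk : OneF.K1 Om) (hS : NSym Om) (F : Fam Om M) : NInv F := by
  rintro K hK t ⟨L, hL, rfl⟩ htz htK h h2 hhz hht
  obtain ⟨K', L', T, R, R', p, hA⟩ := b.exists_npair hK hL (Ne.symm htz) htK (hS K hK L hL htK) h2 (by
    rw [zpowers_le]
    exact ⟨mem_centralizer_singleton_iff.2 hhz, mem_centralizer_singleton_iff.2 hht⟩)
  exact p.inv hk F (hA (mem_zpowers h))

end fam

end Cfsg.Agent.Cit.TwoFK
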