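import Cfsg.Agent.Cit.TwoFK.Fam

/-!
# The three families

`Sgn` (the sign of the action on the two members over `z`), `Nrm` (the norm of the field homomorphisms) and
`Chi`; consequence: the field homomorphisms `psiK K n` are trivial, given the facts `P0`, `ClaimE`.
-/

set_option autoImplicit false
set_option linter.style.haveILetI false
set_option linter.unusedSectionVars false
set_option linter.unusedVariables false

namespace Cfsg.Agent.Cit.TwoFK

open Subgroup Cfsg Cit OneBasic OneFieldHom OneFieldPsi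

variable {G : Type*} [Group G] [Finite G]

/-! ### Families from data indexed by the members -/

section famOf

variable {Om : Set (Subgroup G)} {M : Type*} [CommGroup M]

open Classical in
/-- the value at `z` -/
noncomputable def pick (Om : Set (Subgroup G)) (f : Subgroup G → G → M) (z g : G) : M :=
  if hz : ∃ K ∈ Om, zz K = z then f hz.choose g else 1

theorem pick_zz (b : TwoEq Om) {f : Subgroup G → G → M}
    (hmate : ∀ K L, Mate Om K L → ∀ g, g * zz K = zz K * g → f K g = f L g) {K : Subgroup G} (hK : K ∈ Om)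
    {g : G} (hg : g * zz K = zz K * g) : pick Om f (zz K) g = f K g := by
  have hz : ∃ L ∈ Om, zz L = zz K := ⟨K, hK, rfl⟩
  unfold pick
  rw [dif_pos hz]
  obtain ⟨L, m, h⟩ := b.exists_mate hK
  rcases h _ hz.choose_spec.1 hz.choose_spec.2 with h1 | h1
  · rw [h1]
  · rw [h1]; exact (hmate K L m g hg).symm

/-- families from data indexed by the members -/
noncomputable def famOf (b : TwoEq Om) (f : Subgroup G → G → M)
    (hmate : ∀ K L, Mate Om K L → ∀ g, g * zz K = zz K * g → f K g = f L g)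
    (hmul : ∀ K ∈ Om, ∀ g h, g * zz K = zz K * g → h * zz K = zz K * h → f K (g * h) = f K g * f K h)
    (hconj : ∀ K ∈ Om, ∀ a g, g * zz K = zz K * g → f (cj a K) (a * g * a⁻¹) = f K g)
    (hkK : ∀ K ∈ Om, ∀ h ∈ K, IsPGroup 2 (zpowers h) → f K h = 1)
    (hkZ : ∀ K ∈ Om, ∀ t ∈ Zs Om, t * zz K = zz K * t → f K t = 1) : Fam Om M where
  psi := pick Om f
  mul := by
    rintro _ ⟨K, hK, rfl⟩ g h hg hh
    have hgh : (g * h) * zz K = zz K * (g * h) := by
      rw [mul_assoc, hh, ← mul_assoc, hg, mul_assoc]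
    rw [pick_zz b hmate hK hg, pick_zz b hmate hK hh, pick_zz b hmate hK hgh]
    exact hmul K hK g h hg hh
  conj := by
    rintro _ ⟨K, hK, rfl⟩ a g hg
    have h1 : (a * g * a⁻¹) * zz (cj a K) = zz (cj a K) * (a * g * a⁻¹) := by
      rw [b.hyp.zz_cj hK]
      calc a * g * a⁻¹ * (a * zz K * a⁻¹) = a * (g * zz K) * a⁻¹ := by group
        _ = _ := by rw [hg]; group
    rw [← b.hyp.zz_cj hK a, pick_zz b hmate (b.hyp.conj K hK a) h1, pick_zz b hmate hK hg]
    exact hconj K hK a g hg
  killK := by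
    intro K hK h hh h2
    rw [pick_zz b hmate hK (b.hyp.comm_zz hK (le_normalizer hh))]
    exact hkK K hK h hh h2
  killZ := by
    rintro _ ⟨K, hK, rfl⟩ t ht htz
    rw [pick_zz b hmate hK htz]
    exact hkZ K hK t ht htz

end famOf

/-! ### The sign -/

section sgn

variable {Om : Set (Subgroup G)}

open Classical in
/-- the sign of the action on the members over `zz K` -/
noncomputable def sg (K : Subgroup G) (g : G) : ℤˣ := if g ∈ normalizer (K : Set G) then 1 else -1

theorem sg_of_mem {K : Subgroup G} {g : G} (hg : g ∈ normalizer (K : Set G)) : sg K g = 1 := by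
  unfold sg; rw [if_pos hg]

theorem sg_of_not {K : Subgroup G} {g : G} (hg : g ∉ normalizer (K : Set G)) : sg K g = -1 := by
  unfold sg; rw [if_neg hg]

/-- **(1)** some element of the class interchanges the members over a commuting one -/
theorem exists_Zs_swap (b : TwoEq Om) {n : ℕ} (ho : Ord Om n) (hn : n ≠ 0) (hS : NSym Om)
    (hNI : ∀ (M : Type) [CommGroup M] (F : Fam Om M), NInv F) (hidx : ∀ H : Subgroup G, H.index ≠ 2)
    {K L : Subgroup G} (m : Mate Om K L) :
    ∃ t ∈ Zs Om, cj t K = L := by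
  by_contra hcon
  push Not at hcon
  have hno : ∀ J ∈ Om, ∀ t ∈ Zs Om, t * zz J = zz J * t → t ∈ normalizer (J : Set G) := by
    intro J hJ t ht htJ
    obtain ⟨g, hg⟩ := b.cls K m.hK J hJ
    obtain ⟨J', m', -⟩ := b.exists_mate hJ
    rcases b.norm_or m' htJ with h1 | h1
    · exact h1
    · exfalso
      apply hcon (g⁻¹ * t * g) (Zs_cj' b.hyp ht g)
      have h2 : cj g L = J' := by
        have h3 := m.cj b.hyp g
        rw [hg] at h3
        exact b.mate_unique h3 m'
      rw [cj_mul, cj_mul, hg, h1, ← h2, cj_inv_cj]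
  have f1 : ∀ K L, Mate Om K L → ∀ g, g * zz K = zz K * g → sg K g = sg L g := by
    intro K L m g hg
    by_cases h3 : g ∈ normalizer (K : Set G)
    · rw [sg_of_mem h3, sg_of_mem (b.mem_normalizer_mate m h3)]
    · rw [sg_of_not h3, sg_of_not (fun h4 => h3 (b.mem_normalizer_mate m.symm h4))]
  have f2 : ∀ J ∈ Om, ∀ g h, g * zz J = zz J * g → h * zz J = zz J * h → sg J (g * h) = sg J g * sg J h := by
    intro J hJ g h hg hh
    obtain ⟨J', m', -⟩ := b.exists_mate hJ
    rcases b.norm_or m' hg with h1 | h1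
    · rcases b.norm_or m' hh with h2 | h2
      · rw [sg_of_mem h1, sg_of_mem h2, sg_of_mem (mul_mem h1 h2), one_mul]
      · rw [sg_of_mem h1, sg_of_not (b.not_norm m' h2), sg_of_not (b.not_norm m' (b.norm_swap m' h1 h2)), one_mul]
    · rcases b.norm_or m' hh with h2 | h2
      · rw [sg_of_mem h2, sg_of_not (b.not_norm m' h1), sg_of_not (b.not_norm m' (b.swap_norm m' h1 h2)), mul_one]
      · rw [sg_of_not (b.not_norm m' h1), sg_of_not (b.not_norm m' h2), sg_of_mem (b.swap_mul m' h1 h2)]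
        decide
  have f3 : ∀ J ∈ Om, ∀ a g, g * zz J = zz J * g → sg (cj a J) (a * g * a⁻¹) = sg J g := by
    intro J hJ a g hg
    have h1 : a * g * a⁻¹ ∈ normalizer (cj a J : Set G) ↔ g ∈ normalizer (J : Set G) := by
      rw [mem_normalizer_iff_cj, mem_normalizer_iff_cj, cj_mul, cj_mul, cj_inv_cj, cj_inj]
    by_cases h3 : g ∈ normalizer (J : Set G)
    · rw [sg_of_mem h3, sg_of_mem (h1.2 h3)]
    · rw [sg_of_not h3, sg_of_not (fun h4 => h3 (h1.1 h4))]
  obtain ⟨F, hF⟩ : ∃ F : Fam Om ℤˣ, F.psi = pick Om sg := ⟨famOf b sg f1 f2 f3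
    (fun J hJ h hh _ => sg_of_mem (le_normalizer hh)) (fun J hJ t ht htJ => sg_of_mem (hno J hJ t ht htJ)), rfl⟩
  obtain ⟨s, -, hs⟩ := b.exists_swap m
  have hsK := b.comm_of_swap m hs
  have h2 := gen b ho hn hS F (hNI _ F) ⟨1, by simp⟩ hidx (zz_mem_Zs m.hK) hsK
  rw [hF, pick_zz b f1 m.hK hsK, sg_of_not (b.not_norm m hs)] at h2
  exact absurd h2 (by decide)

end sgn

/-! ### The norm -/

section norm

variable {Om : Set (Subgroup G)} {n : ℕ}

/-- the facts about the field homomorphisms that are proved elsewhere -/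
def P0 (Om : Set (Subgroup G)) (n : ℕ) : Prop :=
  ∀ K ∈ Om, ∀ y ∈ Zs Om, y ∈ normalizer (K : Set G) → psiK K n y = 1

/-- `CLAIM E` -/
def ClaimE (Om : Set (Subgroup G)) (n : ℕ) : Prop :=
  ∀ K L, Mate Om K L → ∀ R : Subgroup G, IsPGroup 2 R → R ≤ centralizer {zz K} → ∀ t₁ ∈ Zs Om, ∀ t₂ ∈ Zs Om,
    t₁ ∈ R → t₂ ∈ R → cj t₁ K = L → cj t₂ K = L → psiK K n (t₁ * t₂) = 1

/-- 2-elements of `K` have trivial field part on the mate -/
theorem psiK_mate (b : TwoEq Om) (ho : Ord Om n) (hn : n ≠ 0) {K L : Subgroup G} (m : Mate Om K L) {h : G}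
    (hh : h ∈ K) (h2 : IsPGroup 2 (zpowers h)) : psiK L n h = 1 := by
  obtain ⟨Q, hQ, hc⟩ := m.exists_cent b.hyp hh h2
  obtain ⟨c, v, g⟩ := exists_gq_n b ho m.hL hQ
  have hc1 : c ^ 2 ^ (n + 2) = 1 := pow_eq_one g.ord
  have h3 : R L n h 1 := R_of_one (ho L m.hL) hn (m.le_normalizer b.hyp hh) (hQ.1 g.c_mem) g.ord L.one_mem (by
    rw [hc c g.c_mem, Units.val_one, cp_one hc1]; group)
  rw [psiK_eq (ho L m.hL) hn h3, map_one]

theorem psiK_swap (b : TwoEq Om) (ho : Ord Om n) (hn : n ≠ 0) {K L : Subgroup G} (m : Mate Om K L) {s a : G}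
    (hs : cj s K = L) (ha : a ∈ normalizer (K : Set G)) : psiK L n (s * a * s⁻¹) = psiK K n a := by
  rw [← hs]
  exact psiK_conj (ho K m.hK) (fun g => ho _ (b.hyp.conj K m.hK g)) hn ha s

open Classical in
/-- the mate, as a function -/
noncomputable def mt (b : TwoEq Om) (K : Subgroup G) : Subgroup G :=
  if h : K ∈ Om then (b.exists_mate h).choose else K

theorem mt_mate (b : TwoEq Om) {K : Subgroup G} (hK : K ∈ Om) : Mate Om K (mt b K) := by
  unfold mt
  rw [dif_pos hK]
  exact (b.exists_mate hK).choose_spec.1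

theorem mt_eq (b : TwoEq Om) {K L : Subgroup G} (m : Mate Om K L) : mt b K = L :=
  b.mate_unique (mt_mate b m.hK) m

open Classical in
/-- the norm -/
noncomputable def nrm (b : TwoEq Om) (n : ℕ) (K : Subgroup G) (g : G) : M n :=
  if g ∈ normalizer (K : Set G) then psiK K n g * psiK (mt b K) n g else psiK K n (g * g)

theorem nrm_of_mem (b : TwoEq Om) {K L : Subgroup G} (m : Mate Om K L) {g : G}
    (hg : g ∈ normalizer (K : Set G)) : nrm b n K g = psiK K n g * psiK L n g := by
  unfold nrm; rw [if_pos hg, mt_eq b m]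

theorem nrm_of_swap (b : TwoEq Om) {K L : Subgroup G} (m : Mate Om K L) {g : G}
    (hg : cj g K = L) : nrm b n K g = psiK K n (g * g) := by
  unfold nrm; rw [if_neg (b.not_norm m hg)]

theorem nrm_mate (b : TwoEq Om) (ho : Ord Om n) (hn : n ≠ 0) {K L : Subgroup G} (m : Mate Om K L) {g : G}
    (hg : g * zz K = zz K * g) : nrm b n K g = nrm b n L g := by
  rcases b.norm_or m hg with h1 | h1
  · rw [nrm_of_mem b m h1, nrm_of_mem b m.symm (b.mem_normalizer_mate m h1), mul_comm]
  · rw [nrm_of_swap b m h1, nrm_of_swap b m.symm (b.cj_symm m h1)]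
    rw [← psiK_swap b ho hn m h1 (b.swap_mul m h1 h1)]
    congr 1
    group

theorem nrm_mul (b : TwoEq Om) (ho : Ord Om n) (hn : n ≠ 0) {K L : Subgroup G} (m : Mate Om K L) {g h : G}
    (hg : g * zz K = zz K * g) (hh : h * zz K = zz K * h) :
    nrm b n K (g * h) = nrm b n K g * nrm b n K h := by
  have hoK := ho K m.hK
  have hoL := ho L m.hL
  rcases b.norm_or m hg with h1 | h1
  · rcases b.norm_or m hh with h2 | h2
    · rw [nrm_of_mem b m h1, nrm_of_mem b m h2, nrm_of_mem b m (mul_mem h1 h2), psiK_mul hoK hn h1 h2,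
        psiK_mul hoL hn (b.mem_normalizer_mate m h1) (b.mem_normalizer_mate m h2)]
      exact mul_mul_mul_comm _ _ _ _
    · rw [nrm_of_mem b m h1, nrm_of_swap b m h2, nrm_of_swap b m (b.norm_swap m h1 h2)]
      have h1' := b.mem_normalizer_mate m h1
      have h3 : h * g * h⁻¹ ∈ normalizer (K : Set G) := by
        have h5 := b.swap_norm m h2 h1
        have h6 := b.swap_mul m h5 (b.cj_inv_swap m h2)
        exact h6
      have h4 : psiK K n (h * g * h⁻¹) = psiK L n g := psiK_swap b ho hn m.symm (b.cj_symm m h2) h1'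
      have h5 : g * h * (g * h) = g * (h * g * h⁻¹) * (h * h) := by group
      rw [h5, psiK_mul hoK hn (mul_mem h1 h3) (b.swap_mul m h2 h2), psiK_mul hoK hn h1 h3, h4]
  · rcases b.norm_or m hh with h2 | h2
    · rw [nrm_of_mem b m h2, nrm_of_swap b m h1, nrm_of_swap b m (b.swap_norm m h1 h2)]
      have h2' := b.mem_normalizer_mate m h2
      have h3 : g * h * g⁻¹ ∈ normalizer (K : Set G) := b.swap_mul m (b.swap_norm m h1 h2) (b.cj_inv_swap m h1)
      have h4 : psiK K n (g * h * g⁻¹) = psiK L n h := psiK_swap b ho hn m.symm (b.cj_symm m h1) h2'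
      have h5 : g * h * (g * h) = (g * h * g⁻¹) * (g * g) * h := by group
      rw [h5, psiK_mul hoK hn (mul_mem h3 (b.swap_mul m h1 h1)) h2, psiK_mul hoK hn h3 (b.swap_mul m h1 h1), h4]
      rw [mul_comm (psiK L n h), mul_assoc, mul_comm (psiK L n h)]
    · rw [nrm_of_swap b m h1, nrm_of_swap b m h2, nrm_of_mem b m (b.swap_mul m h1 h2)]
      have h3 : g * h ∈ normalizer (K : Set G) := b.swap_mul m h1 h2
      have h3' := b.mem_normalizer_mate m h3
      have h4 : psiK K n (g * (g * h) * g⁻¹) = psiK L n (g * h) :=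
        psiK_swap b ho hn m.symm (b.cj_symm m h1) h3'
      have h5 : g * (g * h) * g⁻¹ ∈ normalizer (K : Set G) := by
        have h6 : g * (g * h) * g⁻¹ = (g * g) * (h * g⁻¹) := by group
        rw [h6]
        exact mul_mem (b.swap_mul m h1 h1) (b.swap_mul m h2 (b.cj_inv_swap m h1))
      rw [← h4, mul_comm, ← psiK_mul hoK hn h5 h3, ← psiK_mul hoK hn (b.swap_mul m h1 h1) (b.swap_mul m h2 h2)]
      congr 1
      group

/-- the norm as a family -/
noncomputable def nrmFam (b : TwoEq Om) (ho : Ord Om n) (hn : n ≠ 0) (hP : P0 Om n) : Fam Om (M n) :=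
  famOf b (nrm b n) (fun K L m g hg => nrm_mate b ho hn m hg)
    (fun K hK g h hg hh => nrm_mul b ho hn (mt_mate b hK) hg hh)
    (by
      intro K hK a g hg
      have m := mt_mate b hK
      have m' := m.cj b.hyp a
      have hq : ∀ J ∈ Om, ∀ g, QK (cj g J) n := fun J hJ g => ho _ (b.hyp.conj J hJ g)
      have h1 : ∀ g, g ∈ normalizer (K : Set G) → a * g * a⁻¹ ∈ normalizer (cj a K : Set G) := by
        intro g hg
        rw [mem_normalizer_iff_cj] at hg ⊢
        rw [cj_mul, cj_mul, cj_inv_cj, hg]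
      rcases b.norm_or m hg with h2 | h2
      · rw [nrm_of_mem b m h2, nrm_of_mem b m' (h1 g h2), psiK_conj (ho K hK) (hq K hK) hn h2,
          psiK_conj (ho _ m.hL) (hq _ m.hL) hn (b.mem_normalizer_mate m h2)]
      · have h3 : cj (a * g * a⁻¹) (cj a K) = cj a (mt b K) := by
          rw [cj_mul, cj_mul, cj_inv_cj, h2]
        rw [nrm_of_swap b m h2, nrm_of_swap b m' h3, ← psiK_conj (ho K hK) (hq K hK) hn (b.swap_mul m h2 h2) a]
        congr 1
        group)
    (by
      intro K hK h hh h2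
      have m := mt_mate b hK
      rw [nrm_of_mem b m (le_normalizer hh), psiK_self (ho K hK) hn hh, psiK_mate b ho hn m hh h2, one_mul])
    (by
      intro K hK t ht htK
      have m := mt_mate b hK
      rcases b.norm_or m htK with h2 | h2
      · rw [nrm_of_mem b m h2, hP K hK t ht h2, hP _ m.hL t ht (b.mem_normalizer_mate m h2), one_mul]
      · rw [nrm_of_swap b m h2, Zs_mul b.hyp ht, psiK_self (ho K hK) hn K.one_mem])

end norm

/-! ### The conclusion -/

section main

variable {Om : Set (Subgroup G)} {n : ℕ}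

/-- the hypotheses of the final step -/
structure In (Om : Set (Subgroup G)) (n : ℕ) : Prop where
  b : TwoEq Om
  ho : Ord Om n
  hn : n ≠ 0
  hS : NSym Om
  hNI : ∀ (M : Type) [CommGroup M] (F : Fam Om M), NInv F
  hidx : ∀ H : Subgroup G, H.index ≠ 2
  hP : P0 Om n

theorem In.nrm (i : In Om n) {K L : Subgroup G} (m : Mate Om K L) {g : G} (hg : g * zz K = zz K * g) :
    TwoFK.nrm i.b n K g = 1 := by
  have h1 := gen i.b i.ho i.hn i.hS (nrmFam i.b i.ho i.hn i.hP) (i.hNI _ _) (card_M n) i.hidx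
    (zz_mem_Zs m.hK) hg
  rw [← pick_zz i.b (f := TwoFK.nrm i.b n) (fun K L m g hg => nrm_mate i.b i.ho i.hn m hg) m.hK hg]
  exact h1

theorem In.mate (i : In Om n) {K L : Subgroup G} (m : Mate Om K L) {g : G} (hg : g ∈ normalizer (K : Set G)) :
    psiK K n g * psiK L n g = 1 := by
  rw [← nrm_of_mem i.b m hg]
  exact i.nrm m (i.b.hyp.comm_zz m.hK hg)

theorem In.exists_Zs_swap (i : In Om n) {K L : Subgroup G} (m : Mate Om K L) : ∃ t ∈ Zs Om, cj t K = L :=
  TwoFK.exists_Zs_swap i.b i.ho i.hn i.hS i.hNI i.hidx m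

/-- two elements of the class interchanging the members can be moved into one Sylow 2-subgroup -/
theorem exists_common {K L R : Subgroup G} (b : TwoEq Om) (m : Mate Om K L)
    (hR : Syl R (centralizer {zz K})) {t : G} (ht : t ∈ Zs Om) (hts : cj t K = L) :
    ∃ c ∈ normalizer (K : Set G), c * t * c⁻¹ ∈ R ∧ cj (c * t * c⁻¹) K = L := by
  have htz := b.comm_of_swap m hts
  obtain ⟨R', hR', htR⟩ := OneBasic.exists_syl_ge (Zs_isP b.hyp ht) (M := centralizer {zz K}) (by
    rw [zpowers_le]; exact mem_centralizer_singleton_iff.2 htz)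
  obtain ⟨c, hc, hcR⟩ := hR'.exists_conj hR
  have hcz := mem_centralizer_singleton_iff.1 hc
  have key : ∀ c : G, c ∈ normalizer (K : Set G) → cj (c * t * c⁻¹) K = L := by
    intro c hc
    exact b.swap_norm m (b.norm_swap m hc hts) (inv_mem hc)
  have h1 : c * t * c⁻¹ ∈ R := by rw [← hcR]; exact conj_mem_cj (htR (mem_zpowers t))
  rcases b.norm_or m hcz with h2 | h2
  · exact ⟨c, h2, h1, key c h2⟩
  · have h3 : c * t * t * (c * t)⁻¹ = c * t * c⁻¹ := by group
    refine ⟨c * t, b.swap_mul m h2 hts, by rw [h3]; exact h1, ?_⟩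
    exact key _ (b.swap_mul m h2 hts)

theorem In.sq (i : In Om n) (hE : ClaimE Om n) {K L : Subgroup G} (m : Mate Om K L) {g : G}
    (hg : g ∈ normalizer (K : Set G)) : psiK K n g * psiK K n g = 1 := by
  have b := i.b
  have hoK := i.ho K m.hK
  have hoL := i.ho L m.hL
  have key : ∀ a : G, a ∈ normalizer (K : Set G) → IsPGroup 2 (zpowers a) → psiK K n a * psiK K n a = 1 := by
    intro a ha ha2
    obtain ⟨R, hR, haR⟩ := OneBasic.exists_syl_ge ha2 (M := centralizer {zz K}) (by
      rw [zpowers_le]; exact b.hyp.normalizer_le m.hK ha)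
    have haR' := haR (mem_zpowers a)
    obtain ⟨t0, ht0, ht0s⟩ := i.exists_Zs_swap m
    obtain ⟨c, -, hcR, hcs⟩ := exists_common b m hR ht0 ht0s
    obtain ⟨t, ht⟩ : ∃ t, t = c * t0 * c⁻¹ := ⟨_, rfl⟩
    have htZ : t ∈ Zs Om := by rw [ht]; exact Zs_cj b.hyp ht0 c
    rw [← ht] at hcR hcs
    have h1 : cj (a⁻¹ * t * a) K = L := b.swap_norm m (b.norm_swap m (inv_mem ha) hcs) ha
    have h2 := hE K L m R hR.2.1 hR.1 t htZ (a⁻¹ * t * a) (Zs_cj' b.hyp htZ a) hcR
      (R.mul_mem (R.mul_mem (R.inv_mem haR') hcR) haR') hcs h1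
    have h3 : t * (a⁻¹ * t * a) = (t * a⁻¹ * t⁻¹) * a := by
      calc t * (a⁻¹ * t * a) = (t * a⁻¹ * t⁻¹) * (t * t) * a := by group
        _ = _ := by rw [Zs_mul b.hyp htZ, mul_one]
    have h4 : t * a⁻¹ * t⁻¹ ∈ normalizer (K : Set G) :=
      b.swap_mul m (b.swap_norm m hcs (inv_mem ha)) (b.cj_inv_swap m hcs)
    have ha' := b.mem_normalizer_mate m ha
    have h5 : psiK K n (t * a⁻¹ * t⁻¹) = psiK L n a⁻¹ :=
      psiK_swap b i.ho i.hn m.symm (b.cj_symm m hcs) (inv_mem ha')
    have h6 : psiK L n a⁻¹ = psiK K n a := by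
      have h7 : psiK L n a⁻¹ * psiK L n a = 1 := by
        rw [← psiK_mul hoL i.hn (inv_mem ha') ha', inv_mul_cancel, psiK_self hoL i.hn L.one_mem]
      have h8 := i.mate m ha
      have h9 : psiK L n a⁻¹ = (psiK L n a)⁻¹ := eq_inv_of_mul_eq_one_left h7
      rw [h9]
      exact (eq_inv_of_mul_eq_one_left h8).symm
    rw [h3, psiK_mul hoK i.hn h4 ha, h5, h6] at h2
    exact h2
  obtain ⟨k, hk, hk2⟩ := exists_odd_pow g
  have h1 := key _ (pow_mem hg k) hk2
  rw [psiK_pow hoK i.hn hg, ← mul_pow] at h1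
  obtain ⟨s, hs⟩ := card_M n
  exact eq_one_of_pow hs hk h1

/-- the field homomorphisms of the mates agree -/
theorem In.eq (i : In Om n) (hE : ClaimE Om n) {K L : Subgroup G} (m : Mate Om K L) {g : G}
    (hg : g ∈ normalizer (K : Set G)) : psiK K n g = psiK L n g := by
  have h1 := i.mate m hg
  have h2 := i.sq hE m hg
  rw [← h2] at h1
  exact (mul_left_cancel h1).symm

theorem In.swap (i : In Om n) (hE : ClaimE Om n) {K L : Subgroup G} (m : Mate Om K L) {s a : G}
    (hs : cj s K = L) (ha : a ∈ normalizer (K : Set G)) : psiK K n (s * a * s⁻¹) = psiK K n a := by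
  have b := i.b
  rw [psiK_swap b i.ho i.hn m.symm (b.cj_symm m hs) (b.mem_normalizer_mate m ha), ← i.eq hE m ha]

theorem In.two (i : In Om n) (hE : ClaimE Om n) {K L : Subgroup G} (m : Mate Om K L) {t₁ t₂ : G}
    (h1 : t₁ ∈ Zs Om) (h2 : t₂ ∈ Zs Om) (h1s : cj t₁ K = L) (h2s : cj t₂ K = L) : psiK K n (t₁ * t₂) = 1 := by
  have b := i.b
  have hoK := i.ho K m.hK
  obtain ⟨R, hR, htR⟩ := OneBasic.exists_syl_ge (Zs_isP b.hyp h1) (M := centralizer {zz K}) (by
    rw [zpowers_le]; exact mem_centralizer_singleton_iff.2 (b.comm_of_swap m h1s))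
  obtain ⟨c, hc, hcR, hcs⟩ := exists_common b m hR h2 h2s
  have h3 := hE K L m R hR.2.1 hR.1 t₁ h1 _ (Zs_cj b.hyp h2 c) (htR (mem_zpowers _)) hcR h1s hcs
  have h4 : t₁ * (c * t₂ * c⁻¹) = (t₁ * c * t₁⁻¹) * (t₁ * t₂) * c⁻¹ := by group
  have h5 : t₁ * c * t₁⁻¹ ∈ normalizer (K : Set G) :=
    b.swap_mul m (b.swap_norm m h1s hc) (b.cj_inv_swap m h1s)
  have h6 := b.swap_mul m h1s h2s
  have h7 : psiK K n c * psiK K n c⁻¹ = 1 := by
    rw [← psiK_mul hoK i.hn hc (inv_mem hc), mul_inv_cancel, psiK_self hoK i.hn K.one_mem]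
  rw [h4, psiK_mul hoK i.hn (mul_mem h5 h6) (inv_mem hc), psiK_mul hoK i.hn h5 h6, i.swap hE m h1s hc,
    mul_comm (psiK K n c), mul_assoc, h7, mul_one] at h3
  exact h3

open Classical in
/-- the chosen element of the class -/
noncomputable def tK (b : TwoEq Om) (K : Subgroup G) : G :=
  if h : ∃ t ∈ Zs Om, cj t K = mt b K then h.choose else 1

theorem In.tK (i : In Om n) {K L : Subgroup G} (m : Mate Om K L) : tK i.b K ∈ Zs Om ∧ cj (tK i.b K) K = L := by
  have h : ∃ t ∈ Zs Om, cj t K = mt i.b K := by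
    obtain ⟨t, ht, hts⟩ := i.exists_Zs_swap m
    exact ⟨t, ht, by rw [mt_eq i.b m, hts]⟩
  unfold TwoFK.tK
  rw [dif_pos h]
  exact ⟨h.choose_spec.1, h.choose_spec.2.trans (mt_eq i.b m)⟩

open Classical in
/-- the third family -/
noncomputable def chi (b : TwoEq Om) (n : ℕ) (K : Subgroup G) (g : G) : M n :=
  if g ∈ normalizer (K : Set G) then psiK K n g else psiK K n (g * tK b K)

theorem chi_of_mem (b : TwoEq Om) {K : Subgroup G} {g : G} (hg : g ∈ normalizer (K : Set G)) :
    chi b n K g = psiK K n g := by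
  unfold chi; rw [if_pos hg]

theorem In.chi_swap (i : In Om n) (hE : ClaimE Om n) {K L : Subgroup G} (m : Mate Om K L) {g t : G}
    (hg : cj g K = L) (ht : t ∈ Zs Om) (hts : cj t K = L) : chi i.b n K g = psiK K n (g * t) := by
  have b := i.b
  unfold chi
  rw [if_neg (b.not_norm m hg)]
  obtain ⟨h1, h2⟩ := i.tK m
  have h3 : g * TwoFK.tK i.b K = (g * t) * (t * TwoFK.tK i.b K) := by
    calc g * TwoFK.tK i.b K = g * (1 * TwoFK.tK i.b K) := by rw [one_mul]
      _ = g * (t * t * TwoFK.tK i.b K) := by rw [Zs_mul b.hyp ht]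
      _ = _ := by group
  rw [h3, psiK_mul (i.ho K m.hK) i.hn (b.swap_mul m hg hts) (b.swap_mul m hts h2), i.two hE m ht h1 hts h2, mul_one]

/-- the third family -/
noncomputable def chiFam (i : In Om n) (hE : ClaimE Om n) : Fam Om (M n) :=
  famOf i.b (chi i.b n)
    (by
      intro K L m g hg
      have b := i.b
      obtain ⟨t, ht, hts⟩ := i.exists_Zs_swap m
      rcases b.norm_or m hg with h1 | h1
      · rw [chi_of_mem _ h1, chi_of_mem _ (b.mem_normalizer_mate m h1), i.eq hE m h1]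
      · rw [i.chi_swap hE m h1 ht hts, i.chi_swap hE m.symm (b.cj_symm m h1) ht (b.cj_symm m hts),
          i.eq hE m (b.swap_mul m h1 hts)])
    (by
      intro K hK g h hg hh
      have b := i.b
      have m := mt_mate b hK
      have hoK := i.ho K hK
      obtain ⟨t, ht, hts⟩ := i.exists_Zs_swap m
      have hti := Zs_inv b.hyp ht
      rcases b.norm_or m hg with h1 | h1
      · rcases b.norm_or m hh with h2 | h2
        · rw [chi_of_mem _ h1, chi_of_mem _ h2, chi_of_mem _ (mul_mem h1 h2), psiK_mul hoK i.hn h1 h2]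
        · rw [chi_of_mem _ h1, i.chi_swap hE m h2 ht hts, i.chi_swap hE m (b.norm_swap m h1 h2) ht hts, mul_assoc,
            psiK_mul hoK i.hn h1 (b.swap_mul m h2 hts)]
      · rcases b.norm_or m hh with h2 | h2
        · have h3 : g * h * t = (g * t) * (t * h * t⁻¹) := by
            rw [hti]
            calc g * h * t = g * (1 * h) * t := by rw [one_mul]
              _ = g * (t * t * h) * t := by rw [Zs_mul b.hyp ht]
              _ = _ := by group
          have h4 : t * h * t⁻¹ ∈ normalizer (K : Set G) :=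
            b.swap_mul m (b.swap_norm m hts h2) (b.cj_inv_swap m hts)
          rw [chi_of_mem _ h2, i.chi_swap hE m h1 ht hts, i.chi_swap hE m (b.swap_norm m h1 h2) ht hts, h3,
            psiK_mul hoK i.hn (b.swap_mul m h1 hts) h4, i.swap hE m hts h2]
        · have h3 : g * h = (g * t) * (t * (h * t) * t⁻¹) := by
            rw [hti]
            calc g * h = g * (1 * h) * 1 := by rw [one_mul, mul_one]
              _ = g * (t * t * h) * (t * t) := by rw [Zs_mul b.hyp ht]
              _ = _ := by group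
          have h5 := b.swap_mul m h2 hts
          have h4 : t * (h * t) * t⁻¹ ∈ normalizer (K : Set G) :=
            b.swap_mul m (b.swap_norm m hts h5) (b.cj_inv_swap m hts)
          rw [chi_of_mem _ (b.swap_mul m h1 h2), i.chi_swap hE m h1 ht hts, i.chi_swap hE m h2 ht hts]
          conv_lhs => rw [h3]
          rw [psiK_mul hoK i.hn (b.swap_mul m h1 hts) h4, i.swap hE m hts h5])
    (by
      intro K hK a g hg
      have b := i.b
      have m := mt_mate b hK
      have m' := m.cj b.hyp a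
      obtain ⟨t, ht, hts⟩ := i.exists_Zs_swap m
      have hq : ∀ g, QK (cj g K) n := fun g => i.ho _ (b.hyp.conj K hK g)
      rcases b.norm_or m hg with h2 | h2
      · have h1 : a * g * a⁻¹ ∈ normalizer (cj a K : Set G) := by
          rw [mem_normalizer_iff_cj] at h2 ⊢
          rw [cj_mul, cj_mul, cj_inv_cj, h2]
        rw [chi_of_mem _ h2, chi_of_mem _ h1, psiK_conj (i.ho K hK) hq i.hn h2]
      · have h3 : ∀ g, cj g K = mt b K → cj (a * g * a⁻¹) (cj a K) = cj a (mt b K) := by
          intro g h2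
          rw [cj_mul, cj_mul, cj_inv_cj, h2]
        rw [i.chi_swap hE m h2 ht hts, i.chi_swap hE m' (h3 g h2) (Zs_cj b.hyp ht a) (h3 t hts),
          ← psiK_conj (i.ho K hK) hq i.hn (b.swap_mul m h2 hts) a]
        congr 1
        group)
    (by
      intro K hK h hh h2
      rw [chi_of_mem _ (le_normalizer hh), psiK_self (i.ho K hK) i.hn hh])
    (by
      intro K hK t ht htK
      have b := i.b
      have m := mt_mate b hK
      rcases b.norm_or m htK with h2 | h2
      · rw [chi_of_mem _ h2, i.hP K hK t ht h2]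
      · rw [i.chi_swap hE m h2 ht h2, Zs_mul b.hyp ht, psiK_self (i.ho K hK) i.hn K.one_mem])

/-- **THEOREM FK**, from `CLAIM E` -/
theorem In.fk (i : In Om n) (hE : ClaimE Om n) {K : Subgroup G} (hK : K ∈ Om) {g : G}
    (hg : g ∈ normalizer (K : Set G)) : psiK K n g = 1 := by
  have hgz := i.b.hyp.comm_zz hK hg
  have h1 := gen i.b i.ho i.hn i.hS (chiFam i hE) (i.hNI _ _) (card_M n) i.hidx (zz_mem_Zs hK) hgz
  rw [← chi_of_mem i.b hg, ← pick_zz i.b (f := chi i.b n) ?_ hK hgz]
  · exact h1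
  · intro K L m g hg
    have b := i.b
    obtain ⟨t, ht, hts⟩ := i.exists_Zs_swap m
    rcases b.norm_or m hg with h1 | h1
    · rw [chi_of_mem _ h1, chi_of_mem _ (b.mem_normalizer_mate m h1), i.eq hE m h1]
    · rw [i.chi_swap hE m h1 ht hts, i.chi_swap hE m.symm (b.cj_symm m h1) ht (b.cj_symm m hts),
        i.eq hE m (b.swap_mul m h1 hts)]

end main

end Cfsg.Agent.Cit.TwoFK
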