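import Cfsg.Agent.Cit.TwoFK.NInv
import Cfsg.Agent.Cit.TwoFK.Field
import Cfsg.Agent.Cit.TwoBasic

/-!
# `|Om(S)| = 2`, equal involutions: SYM and (P0)

`Zs_mul_mem` : `t ∈ Zs ∩ N(K)`, `t ≠ z` ⟹ `z t ∈ Zs`.
`act_pm`     : such a `t` acts on the cyclic maximal subgroup of `Q` as `± 1` (`|Q| ≥ 16`).
`nsym`       : `t ∈ N(K)` ⟹ `z ∈ N(L)` (`z = zz K`, `t = zz L`).
`p0`         : `psiK K n y = 1` for `y ∈ Zs ∩ N(K)`.
-/

set_option autoImplicit false
set_option linter.style.haveILetI false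
set_option linter.unusedSectionVars false
set_option linter.unusedVariables false

namespace Cfsg.Agent.Cit.TwoFK

open Subgroup Cfsg Cit OneBasic OneFieldHom OneFieldPsi

variable {G : Type*} [Group G] [Finite G]

/-- an involution `t` normalising `Q` and `⟨x⟩` with `C_Q(t) ≤ {1,z}` inverts `x` -/
theorem _root_.Cfsg.Agent.Cit.GQ.inv_of_cent {Q : Subgroup G} {x y z : G} {n : ℕ} (g : GQ Q x y z n) {t : G}
    (ht2 : t * t = 1) (htQ : t ∈ normalizer (Q : Set G)) (htz : t * z = z * t) {a : ℤ} (ha : t * x * t⁻¹ = x ^ a)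
    (hS : ∀ u ∈ Q, u * t = t * u → u = 1 ∨ u = z) : t * x * t⁻¹ = x⁻¹ := by
  obtain ⟨j, hj⟩ := g.exists_act htQ (by
    have hti : t⁻¹ = t := inv_eq_of_mul_eq_one_right ht2
    have : t⁻¹ * x * t = t * x * t⁻¹ := by rw [hti]
    rw [this, ha]; exact zpow_mem (mem_zpowers x) a)
  have hz1 : z * z = 1 := g.z_mul
  have htw : t * x ^ 2 ^ n * t⁻¹ = x ^ 2 ^ n * z := by
    have h1 : t * x ^ 2 ^ n * t⁻¹ ∈ zpowers x := by
      rw [← conj_pow, ha]; exact pow_mem (zpow_mem (mem_zpowers x) a) _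
    have h2 : (t * x ^ 2 ^ n * t⁻¹) * (t * x ^ 2 ^ n * t⁻¹) = z := by
      calc (t * x ^ 2 ^ n * t⁻¹) * (t * x ^ 2 ^ n * t⁻¹) = t * (x ^ 2 ^ n * x ^ 2 ^ n) * t⁻¹ := by group
        _ = z := by rw [g.w_sq, htz, mul_inv_cancel_right]
    rcases g.eq_w_of_sq h1 h2 with h3 | h3
    · exfalso
      rw [mul_inv_eq_iff_eq_mul] at h3
      have h4 := g.orderOf_w
      rcases hS _ (Q.pow_mem g.c_mem _) h3.symm with h5 | h5
      · rw [h5, orderOf_one] at h4; omega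
      · have h6 : orderOf (x ^ 2 ^ n) ∣ 2 := orderOf_dvd_of_pow_eq_one (by rw [h5, pow_two, hz1])
        rw [h4] at h6
        omega
    · exact h3
  -- `a^2 = 1`
  have h1 : (2 : ℤ) ^ (n + 2) ∣ a * a - 1 := by
    rw [← g.zpow_eq_one_iff, zpow_sub, zpow_one, mul_inv_eq_one]
    have e1 : t * (t * x ^ (1 : ℤ) * t⁻¹) * t⁻¹ = x := by
      calc t * (t * x ^ (1 : ℤ) * t⁻¹) * t⁻¹ = (t * t) * x * (t * t)⁻¹ := by group
        _ = x := by rw [ht2]; group
    rw [conj_zpow_pow ha, conj_zpow_pow ha, mul_one] at e1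
    exact e1
  -- `j (1 + a) = 0`
  have h2 : (2 : ℤ) ^ (n + 2) ∣ j + a * j := by
    rw [← g.zpow_eq_one_iff]
    have e1 : t * (t * y * t⁻¹) * t⁻¹ = y := by
      calc t * (t * y * t⁻¹) * t⁻¹ = (t * t) * y * (t * t)⁻¹ := by group
        _ = y := by rw [ht2]; group
    have e2 : t * (t * y * t⁻¹) * t⁻¹ = y * (x ^ (j + a * j)) := by
      calc t * (t * y * t⁻¹) * t⁻¹ = t * (y * x ^ j) * t⁻¹ := by rw [hj]
        _ = (t * y * t⁻¹) * (t * x ^ j * t⁻¹) := by group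
        _ = y * (x ^ (j + a * j)) := by rw [hj, conj_zpow_pow ha, mul_assoc, ← zpow_add]
    rw [e1] at e2
    exact left_eq_mul.1 e2
  -- `a = 3` modulo `4`
  have h3 : (4 : ℤ) ∣ a - 3 := by
    have e1 : x ^ (a * (2 : ℤ) ^ n) = x ^ ((2 : ℤ) ^ n) * x ^ ((2 : ℤ) ^ (n + 1)) := by
      have e2 : x ^ ((2 : ℤ) ^ n) = x ^ 2 ^ n := by
        rw [← zpow_natCast x (2 ^ n)]
        push_cast
        rfl
      rw [← conj_zpow_pow ha, e2, g.z_zpow]
      exact htw
    rw [← zpow_add] at e1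
    have e3 : x ^ (a * (2 : ℤ) ^ n - ((2 : ℤ) ^ n + (2 : ℤ) ^ (n + 1))) = 1 := by
      rw [zpow_sub, e1, mul_inv_cancel]
    rw [g.zpow_eq_one_iff] at e3
    have e4 : a * (2 : ℤ) ^ n - ((2 : ℤ) ^ n + (2 : ℤ) ^ (n + 1)) = (2 : ℤ) ^ n * (a - 3) := by ring
    have e5 : (2 : ℤ) ^ (n + 2) = (2 : ℤ) ^ n * 4 := by ring
    rw [e4, e5] at e3
    exact (mul_dvd_mul_iff_left (by positivity)).1 e3
  obtain ⟨b, hb⟩ : ∃ b, a - 3 = 4 * b := h3
  have hab : a = 4 * b + 3 := by linarith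
  -- `2^(n+1)` divides `a + 1`
  have h4 : (2 : ℤ) ^ (n + 1) ∣ a + 1 := by
    have e1 : a * a - 1 = 2 * ((a + 1) * (2 * b + 1)) := by rw [hab]; ring
    rw [e1, pow_succ'] at h1
    have e2 := (mul_dvd_mul_iff_left (by norm_num : (2 : ℤ) ≠ 0)).1 h1
    have e3 : IsCoprime ((2 : ℤ) ^ (n + 1)) (2 * b + 1) := by
      apply IsCoprime.pow_left
      exact ⟨-b, 1, by ring⟩
    exact e3.dvd_of_dvd_mul_right e2
  obtain ⟨e, he⟩ := h4
  rcases Int.even_or_odd e with hev | hod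
  · obtain ⟨f, hf⟩ := hev
    rw [ha]
    have e1 : x ^ (a + 1) = 1 := by
      rw [g.zpow_eq_one_iff, he, hf]
      exact ⟨f, by ring⟩
    rw [zpow_add, zpow_one, mul_eq_one_iff_eq_inv] at e1
    exact e1
  · exfalso
    -- `j` is even
    have h5 : (2 : ℤ) ∣ j := by
      have e1 : j + a * j = (2 : ℤ) ^ (n + 1) * (e * j) := by
        have : j + a * j = (a + 1) * j := by ring
        rw [this, he]; ring
      have e2 : (2 : ℤ) ^ (n + 2) = (2 : ℤ) ^ (n + 1) * 2 := by ring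
      rw [e1, e2] at h2
      have e3 := (mul_dvd_mul_iff_left (by positivity)).1 h2
      have e4 : IsCoprime (2 : ℤ) e := by
        obtain ⟨m, rfl⟩ := hod
        exact ⟨-m, 1, by ring⟩
      exact e4.dvd_of_dvd_mul_left e3
    obtain ⟨j', hj'⟩ := h5
    -- solve `(2b+1) i = -j'`
    obtain ⟨r, s, hrs⟩ : IsCoprime (2 * b + 1) ((2 : ℤ) ^ (n + 1)) := by
      apply IsCoprime.pow_right
      exact ⟨1, -b, by ring⟩
    obtain ⟨i, hi⟩ : ∃ i : ℤ, i = -(r * j') := ⟨_, rfl⟩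
    have h6 : x ^ (j + (a - 1) * i) = 1 := by
      rw [g.zpow_eq_one_iff]
      refine ⟨s * j', ?_⟩
      rw [hab, hi, hj']
      linear_combination (-(2 : ℤ) * j') * hrs
    have h7 : t * (y * x ^ i) * t⁻¹ = y * x ^ i := by
      calc t * (y * x ^ i) * t⁻¹ = (t * y * t⁻¹) * (t * x ^ i * t⁻¹) := by group
        _ = y * (x ^ j * x ^ (a * i)) := by rw [hj, conj_zpow_pow ha, mul_assoc]
        _ = y * (x ^ (j + (a - 1) * i) * x ^ i) := by
            rw [← zpow_add, ← zpow_add]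
            congr 2
            ring
        _ = y * x ^ i := by rw [h6, one_mul]
    have h8 := hS (y * x ^ i) (Q.mul_mem g.v_mem (Q.zpow_mem g.c_mem i)) (by
      rw [mul_inv_eq_iff_eq_mul] at h7
      exact h7.symm)
    apply g.vc_not_mem i
    rcases h8 with h8 | h8
    · rw [h8]; exact one_mem _
    · rw [h8, ← g.z_eq]; exact pow_mem (mem_zpowers x) _

variable {Om : Set (Subgroup G)} {K L Q : Subgroup G}

/-- the involutions of a 2-group are not of order ≥ 4 -/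
theorem sq_eq_one_of_lt {u : G} (hu : IsPGroup 2 (zpowers u)) (h4 : ¬ 4 ≤ orderOf u) : u * u = 1 := by
  obtain ⟨m, hm⟩ := isP_iff.1 hu
  have h1 : orderOf u ∣ 2 ^ m := orderOf_dvd_of_pow_eq_one hm
  obtain ⟨k, -, hk⟩ := (Nat.dvd_prime_pow Nat.prime_two).1 h1
  have hk2 : k < 2 := by
    by_contra hk2
    apply h4
    rw [hk]
    calc 4 = 2 ^ 2 := by norm_num
      _ ≤ 2 ^ k := Nat.pow_le_pow_right (by norm_num) (by omega)
  interval_cases k
  · rw [pow_zero, orderOf_eq_one_iff] at hk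
    rw [hk, one_mul]
  · rw [pow_one] at hk
    rw [← pow_two, ← hk, pow_orderOf_eq_one]

/-- **(0.4)** `z t ∈ Zs` -/
theorem Zs_mul_mem (b : TwoEq Om) (hK : K ∈ Om) {t : G} (ht : t ∈ Zs Om) (hne : t ≠ zz K)
    (htK : t ∈ normalizer (K : Set G)) : zz K * t ∈ Zs Om := by
  obtain ⟨Q, hQ, htQ⟩ := exists_syl_normalized (Zs_isP b.hyp ht) (zpowers_le.2 htK)
  have h1 : ∃ q ∈ Q, t * q ≠ q * t := by
    by_contra hcon
    push Not at hcon
    exact hne (b.eq_of_cent hK ht hQ hcon)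
  obtain ⟨q, -, hq, -⟩ := exists_conj_mul hQ.2.1 (z := zz K) (fun s hs hs2 hs1 => b.hyp.eq_zz hK (hQ.1 hs) hs2 hs1)
    (Zs_mul b.hyp ht) (htQ (mem_zpowers t)) h1
  rw [← hq]
  exact Zs_cj b.hyp ht q

/-- if `z` does not normalise `M`, then `t = zz M` centralises no element of order 4 of `K` -/
theorem cent_of_not (b : TwoEq Om) (hK : K ∈ Om) (hQ : Syl Q K) (hL : L ∈ Om)
    (hn : zz K ∉ normalizer (L : Set G)) {u : G} (hu : u ∈ Q) (hut : u * zz L = zz L * u) : u = 1 ∨ u = zz K := by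
  by_cases h4 : 4 ≤ orderOf u
  · exfalso
    have h1 := b.hyp.h3 K hK L hL u (hQ.1 hu) (isP_of_mem hQ.2.1 hu) h4 hut
    apply hn
    have h2 : zz K ∈ zpowers u := by
      obtain ⟨m, hm⟩ := isP_iff.1 (isP_of_mem hQ.2.1 hu)
      obtain ⟨k, -, hk⟩ := (Nat.dvd_prime_pow Nat.prime_two).1 (orderOf_dvd_of_pow_eq_one hm)
      have hk2 : 2 ≤ k := by
        by_contra hk2
        have h5 : 2 ^ k ≤ 2 ^ 1 := Nat.pow_le_pow_right (by norm_num) (by omega)
        omega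
      obtain ⟨l, rfl⟩ : ∃ l, k = l + 1 := ⟨k - 1, by omega⟩
      have h5 : u ^ 2 ^ l * u ^ 2 ^ l = 1 := by
        rw [← pow_add, ← two_mul, ← pow_succ', ← hk, pow_orderOf_eq_one]
      have h6 : u ^ 2 ^ l ≠ 1 := by
        intro h7
        have h8 := Nat.le_of_dvd (by positivity) (orderOf_dvd_of_pow_eq_one h7)
        rw [hk] at h8
        have h9 : 2 ^ l < 2 ^ (l + 1) := Nat.pow_lt_pow_right (by norm_num) (by omega)
        omega
      rw [← b.hyp.eq_zz hK (K.pow_mem (hQ.1 hu) _) h5 h6]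
      exact pow_mem (mem_zpowers u) _
    exact (zpowers_le.2 h1) h2
  · have h1 := sq_eq_one_of_lt (isP_of_mem hQ.2.1 hu) h4
    by_cases hu1 : u = 1
    · exact Or.inl hu1
    · exact Or.inr (b.hyp.eq_zz hK (hQ.1 hu) h1 hu1)

/-- the action of the elements of `Zs ∩ N(K)` on the members over `z` -/
theorem exists_R_pm (b : TwoEq Om) {n : ℕ} (ho : Ord Om n) (hn : n ≠ 0) (hK : K ∈ Om) {f : G} (hf : f ∈ Zs Om)
    (hfK : f ∈ normalizer (K : Set G)) :
    ∃ e : (ZMod (2 ^ (n + 2)))ˣ, (e = 1 ∨ e = -1) ∧ R K n f e := by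
  obtain ⟨M, hM, rfl⟩ := hf
  by_cases hne : zz K = zz M
  · refine ⟨1, Or.inl rfl, R_self ?_⟩
    rw [← hne]; exact b.hyp.zz_mem hK
  have key : ∀ {Q : Subgroup G} {x : G}, Syl Q K → x ∈ Q → orderOf x = 2 ^ (n + 2) →
      (zz M * x * (zz M)⁻¹ = x ∨ zz M * x * (zz M)⁻¹ = x⁻¹) →
      ∃ e : (ZMod (2 ^ (n + 2)))ˣ, (e = 1 ∨ e = -1) ∧ R K n (zz M) e := by
    intro Q x hQ hx hox hor
    have hc1 : x ^ 2 ^ (n + 2) = 1 := pow_eq_one hox
    rcases hor with h1 | h1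
    · refine ⟨1, Or.inl rfl, R_of_one (ho K hK) hn hfK (hQ.1 hx) hox K.one_mem ?_⟩
      rw [h1, Units.val_one, cp_one hc1]; group
    · refine ⟨-1, Or.inr rfl, R_of_one (ho K hK) hn hfK (hQ.1 hx) hox K.one_mem ?_⟩
      rw [h1, Units.val_neg, Units.val_one, cp_neg_one hc1]; group
  by_cases hs : zz K ∈ normalizer (M : Set G)
  · obtain ⟨K', M', T, R, R', p, -⟩ := b.exists_npair hK hM hne hfK hs (A := ⊥) IsPGroup.of_bot bot_le
    obtain ⟨x, y, x2, y2, m, c⟩ := p.exists_co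
    have hm := ho.eq hK p.hQ c.g
    subst hm
    refine key p.hQ c.g.c_mem c.g.ord ?_
    rcases c.kind with ⟨⟨h1, -⟩, -⟩ | ⟨⟨⟨h1, -⟩, -⟩, -⟩
    · left; rw [h1, mul_inv_cancel_right]
    · right; exact h1
  · obtain ⟨Q, hQ, hfQ⟩ := exists_syl_normalized (Zs_isP b.hyp (zz_mem_Zs hM)) (zpowers_le.2 hfK)
    obtain ⟨x, y, g⟩ := exists_gq_n b ho hK hQ
    obtain ⟨a, ha⟩ := conj_c g hn (hfQ (mem_zpowers _))
    refine key hQ g.c_mem g.ord (Or.inr ?_)
    exact g.inv_of_cent (b.hyp.zz_mul hM) (hfQ (mem_zpowers _)) (b.hyp.comm_zz hK hfK) ha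
      (fun u hu hut => cent_of_not b hK hQ hM hs hu hut)

/-- **(P0)** -/
theorem p0 (b : TwoEq Om) {n : ℕ} (ho : Ord Om n) (hn : n ≠ 0) : P0 Om n := by
  intro K hK f hf hfK
  obtain ⟨e, he, hR⟩ := exists_R_pm b ho hn hK hf hfK
  rw [psiK_eq (ho K hK) hn hR, q_eq_one]
  exact he

/-- the elements of `Zs ∩ N(K) ∩ N(Q)` act on the cyclic maximal subgroup of `Q` as `± 1` -/
theorem act_pm (b : TwoEq Om) {n : ℕ} (hn : n ≠ 0) (hK : K ∈ Om) (hQ : Syl Q K) {x y : G}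
    (g : GQ Q x y (zz K) n) {f : G} (hf : f ∈ Zs Om) (hfK : f ∈ normalizer (K : Set G))
    (hfQ : f ∈ normalizer (Q : Set G)) : f * x * f⁻¹ = x ∨ f * x * f⁻¹ = x⁻¹ := by
  obtain ⟨n', ho⟩ := exists_ord b
  have := ho.eq hK hQ g
  subst this
  obtain ⟨e, he, hR⟩ := exists_R_pm b ho hn hK hf hfK
  have hc1 : x ^ 2 ^ (n + 2) = 1 := pow_eq_one g.ord
  have h2 : f * x * f⁻¹ ∈ zpowers x := by
    obtain ⟨a, ha⟩ := conj_c g hn hfQ
    rw [ha]; exact zpow_mem (mem_zpowers x) a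
  obtain ⟨a, ha⟩ := exists_unit g.ord (by rw [orderOf_conj]; exact g.ord) h2
  have h3 : R K n f a := R_of_one (ho K hK) hn hfK (hQ.1 g.c_mem) g.ord K.one_mem (by rw [ha]; group)
  have h4 : a = 1 ∨ a = -1 := by
    rcases R_unique (ho K hK) hn h3 hR with h5 | h5
    · rw [h5]; exact he
    · rcases he with h6 | h6
      · right; rw [h5, h6]
      · left; rw [h5, h6, neg_neg]
  rcases h4 with h5 | h5
  · left; rw [ha, h5, Units.val_one, cp_one hc1]
  · right; rw [ha, h5, Units.val_neg, Units.val_one, cp_neg_one hc1]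

/-- two commuting elements of `Zs ∩ N(K)` centralising `x`, with product in `Zs`: impossible -/
theorem two_plus (b : TwoEq Om) (hK : K ∈ Om) (hQ : Syl Q K) {x y : G} {n : ℕ}
    (g : GQ Q x y (zz K) n) {f f' : G} (hf : f ∈ Zs Om) (hf' : f' ∈ Zs Om) (hff : f * f' ∈ Zs Om)
    (hne : f ≠ zz K) (hne' : f' ≠ zz K) (hnn : f * f' ≠ zz K) (hfQ : f ∈ normalizer (Q : Set G))
    (hfQ' : f' ∈ normalizer (Q : Set G)) (hx : f * x * f⁻¹ = x) (hx' : f' * x * f'⁻¹ = x) : False := by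
  have key : ∀ f ∈ Zs Om, f ≠ zz K → f ∈ normalizer (Q : Set G) → f * x * f⁻¹ = x → f * y * f⁻¹ = y * zz K := by
    intro f hf hne hfQ hx
    have hff := Zs_mul b.hyp hf
    have hfi : f⁻¹ = f := Zs_inv b.hyp hf
    obtain ⟨j, hj⟩ := g.exists_act hfQ (by
      have : f⁻¹ * x * f = f * x * f⁻¹ := by rw [hfi]
      rw [this, hx]; exact mem_zpowers x)
    have h1 : f * x ^ j * f⁻¹ = x ^ j := by rw [← conj_zpow, hx]
    have h2 : y = y * (x ^ j * x ^ j) := by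
      calc y = f * (f * y * f⁻¹) * f⁻¹ := by
            have : f * (f * y * f⁻¹) * f⁻¹ = (f * f) * y * (f * f)⁻¹ := by group
            rw [this, hff]; group
        _ = f * (y * x ^ j) * f⁻¹ := by rw [hj]
        _ = (f * y * f⁻¹) * (f * x ^ j * f⁻¹) := by group
        _ = _ := by rw [hj, h1, mul_assoc]
    have h3 : x ^ (2 * j) = 1 := by
      rw [two_mul, zpow_add]
      exact (left_eq_mul.1 h2)
    rcases g.zpow_sq h3 with h4 | h4
    · exfalso
      rw [h4, mul_one] at hj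
      rw [mul_inv_eq_iff_eq_mul] at hj hx
      have h5 : Q ≤ centralizer {f} :=
        g.le_of_mem (mem_centralizer_singleton_iff.2 hx.symm) g.v_mem g.v_not_mem
          (mem_centralizer_singleton_iff.2 hj.symm)
      exact hne (b.eq_of_cent hK hf hQ (fun q hq => (mem_centralizer_singleton_iff.1 (h5 hq)).symm))
    · rw [hj, h4]
  have h1 := key f hf hne hfQ hx
  have h2 := key f' hf' hne' hfQ' hx'
  have h3 := key (f * f') hff hnn (mul_mem hfQ hfQ') (by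
    calc f * f' * x * (f * f')⁻¹ = f * (f' * x * f'⁻¹) * f⁻¹ := by group
      _ = x := by rw [hx', hx])
  have h4 : f * zz K * f⁻¹ = zz K := by
    have h5 : zz K ∈ zpowers x := by rw [← g.z_eq]; exact pow_mem (mem_zpowers x) _
    obtain ⟨i, hi⟩ := h5
    have hi' : x ^ i = zz K := hi
    rw [← hi', ← conj_zpow, hx]
  have h5 : f * f' * y * (f * f')⁻¹ = y := by
    calc f * f' * y * (f * f')⁻¹ = f * (f' * y * f'⁻¹) * f⁻¹ := by group
      _ = (f * y * f⁻¹) * (f * zz K * f⁻¹) := by rw [h2]; group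
      _ = y * (zz K * zz K) := by rw [h1, h4, mul_assoc]
      _ = y := by rw [b.hyp.zz_mul hK, mul_one]
  rw [h5] at h3
  exact b.hyp.zz_ne hK (left_eq_mul.1 h3)

/-- three commuting elements generating a group of order 8 in `Zs ∪ {1}`, all normalising `K`: impossible -/
theorem no_eight (b : TwoEq Om) (hK : K ∈ Om) {A : Subgroup G} (hA : IsPGroup 2 A)
    (hAK : A ≤ normalizer (K : Set G)) {S : Set G} (hS : ∀ f ∈ S, f ∈ Zs Om ∧ f ≠ zz K ∧ f ∈ A) {f g h : G}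
    (hfg : f * g = g * f) (hf : f ∈ S) (hg : g ∈ S) (hh : h ∈ S) (h1 : f * g ∈ S) (h2 : f * h ∈ S)
    (h3 : g * h ∈ S) (h4 : f * (g * h) ∈ S) : False := by
  obtain ⟨Q, hQ, hAQ⟩ := exists_syl_normalized hA hAK
  obtain ⟨x, y, n, gq, hAx⟩ := b.hyp.exists_gq_cyclic hK hQ hA hAQ
  have hpm : ∀ f ∈ S, f * x * f⁻¹ = x ∨ f * x * f⁻¹ = x⁻¹ := by
    intro f hf
    obtain ⟨hfZ, hfz, hfA⟩ := hS f hf
    by_cases hn : n = 0
    · subst hn
      have e1 := hAx f hfA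
      have e2 : (f * x * f⁻¹) * (f * x * f⁻¹) = zz K := by
        calc (f * x * f⁻¹) * (f * x * f⁻¹) = f * (x * x) * f⁻¹ := by group
          _ = f * zz K * f⁻¹ := by
            have := gq.w_sq
            rw [pow_zero, pow_one] at this
            rw [this]
          _ = zz K := by rw [b.hyp.comm_zz hK (hAK hfA), mul_inv_cancel_right]
      rcases gq.eq_w_of_sq e1 e2 with e3 | e3
      · left; rw [e3, pow_zero, pow_one]
      · right
        rw [e3, pow_zero, pow_one, eq_inv_iff_mul_eq_one, mul_assoc]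
        have e4 := gq.w_sq
        rw [pow_zero, pow_one] at e4
        have e5 : zz K * x = x * zz K := by rw [← e4, mul_assoc]
        rw [e5, ← mul_assoc, e4, b.hyp.zz_mul hK]
    · exact act_pm b hn hK hQ gq hfZ (hAK hfA) (hAQ hfA)
  have tp : ∀ f g : G, f ∈ S → g ∈ S → f * g ∈ S → f * x * f⁻¹ = x → g * x * g⁻¹ = x → False := by
    intro f g hf hg hfg hx hx'
    exact two_plus b hK hQ gq (hS f hf).1 (hS g hg).1 (hS _ hfg).1 (hS f hf).2.1 (hS g hg).2.1 (hS _ hfg).2.1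
      (hAQ (hS f hf).2.2) (hAQ (hS g hg).2.2) hx hx'
  have mm : ∀ f g : G, f * x * f⁻¹ = x⁻¹ → g * x * g⁻¹ = x⁻¹ → (f * g) * x * (f * g)⁻¹ = x := by
    intro f g hf hg
    calc (f * g) * x * (f * g)⁻¹ = f * (g * x * g⁻¹) * f⁻¹ := by group
      _ = (f * x * f⁻¹)⁻¹ := by rw [hg]; group
      _ = x := by rw [hf, inv_inv]
  rcases hpm f hf with e1 | e1
  · rcases hpm g hg with e2 | e2
    · exact tp f g hf hg h1 e1 e2
    · rcases hpm h hh with e3 | e3
      · exact tp f h hf hh h2 e1 e3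
      · exact tp f (g * h) hf h3 h4 e1 (mm _ _ e2 e3)
  · rcases hpm g hg with e2 | e2
    · rcases hpm h hh with e3 | e3
      · exact tp g h hg hh h3 e2 e3
      · refine tp g (f * h) hg h2 ?_ e2 (mm _ _ e1 e3)
        rwa [← mul_assoc, ← hfg, mul_assoc]
    · rcases hpm h hh with e3 | e3
      · exact tp (f * g) h h1 hh (by rwa [mul_assoc]) (mm _ _ e1 e2) e3
      · refine tp (f * g) (f * h) h1 h2 ?_ (mm _ _ e1 e2) (mm _ _ e1 e3)
        have e4 : (f * g) * (f * h) = g * h := by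
          calc (f * g) * (f * h) = (g * f) * (f * h) := by rw [hfg]
            _ = g * (f * f) * h := by group
            _ = g * h := by rw [Zs_mul b.hyp (hS f hf).1, mul_one]
        rw [e4]; exact h3

/-- **SYM** -/
theorem nsym (b : TwoEq Om) (hk1 : OneF.K1 Om) : NSym Om := by
  intro K hK L hL nK
  by_contra nL
  have hzz : zz K * zz K = 1 := b.hyp.zz_mul hK
  have htt : zz L * zz L = 1 := b.hyp.zz_mul hL
  have comm : zz L * zz K = zz K * zz L := b.hyp.comm_zz hK nK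
  have hne : zz K ≠ zz L := by
    intro h; apply nL; rw [h]; exact le_normalizer (b.hyp.zz_mem hL)
  obtain ⟨K', m, -⟩ := b.exists_mate hK
  obtain ⟨L', m', -⟩ := b.exists_mate hL
  have hsw : cj (zz K) L = L' := (b.norm_or m' comm.symm).resolve_left nL
  -- a Sylow 2-subgroup of `C(t)` containing `z`
  obtain ⟨R, hR, hzR⟩ := OneBasic.exists_syl_ge (Zs_isP b.hyp (zz_mem_Zs hK)) (M := centralizer {zz L}) (by
    rw [zpowers_le]; exact mem_centralizer_singleton_iff.2 comm.symm)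
  have hzR' : zz K ∈ R := hzR (mem_zpowers _)
  have hQ := b.syl_inf hL hR
  obtain ⟨x, y, n, g⟩ := b.hyp.exists_gq hL hQ
  have hcon : ∀ a ∈ L ⊓ R, zz K * a * (zz K)⁻¹ ∈ L' ⊓ R := by
    intro a ha
    refine ⟨?_, R.mul_mem (R.mul_mem hzR' ha.2) (R.inv_mem hzR')⟩
    rw [← hsw]; exact conj_mem_cj ha.1
  have hcm : ∀ a ∈ L ⊓ R, ∀ c ∈ L ⊓ R, a * (zz K * c * (zz K)⁻¹) = (zz K * c * (zz K)⁻¹) * a := by
    intro a ha c hc
    exact m'.comm b.hyp hR.2.1 ha.1 ha.2 (hcon c hc).1 (hcon c hc).2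
  obtain ⟨D, hD⟩ : ∃ D : G → G, ∀ a, D a = a * (zz K * a * (zz K)⁻¹) := ⟨fun a => _, fun a => rfl⟩
  have hzi : (zz K)⁻¹ = zz K := b.hyp.zz_inv hK
  have hDz : ∀ a ∈ L ⊓ R, D a * zz K = zz K * D a := by
    intro a ha
    have h3 : zz K * (zz K * a * (zz K)⁻¹) = a * zz K := by
      rw [hzi]
      calc zz K * (zz K * a * zz K) = (zz K * zz K) * a * zz K := by group
        _ = _ := by rw [hzz, one_mul]
    rw [hD]
    calc a * (zz K * a * (zz K)⁻¹) * zz K = (a * zz K) * a := by group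
      _ = zz K * (zz K * a * (zz K)⁻¹) * a := by rw [h3]
      _ = zz K * (a * (zz K * a * (zz K)⁻¹)) := by rw [hcm a ha a ha]; group
  have hDmul : ∀ a ∈ L ⊓ R, ∀ c ∈ L ⊓ R, D (a * c) = D a * D c := by
    intro a ha c hc
    rw [hD, hD, hD]
    calc a * c * (zz K * (a * c) * (zz K)⁻¹)
        = a * (c * (zz K * a * (zz K)⁻¹)) * (zz K * c * (zz K)⁻¹) := by group
      _ = a * (zz K * a * (zz K)⁻¹) * (c * (zz K * c * (zz K)⁻¹)) := by rw [hcm c hc a ha]; group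
  have hDR : ∀ a ∈ L ⊓ R, D a ∈ R := by
    intro a ha
    rw [hD]; exact R.mul_mem ha.2 (hcon a ha).2
  have hDL : ∀ a ∈ L ⊓ R, D a ∈ normalizer (L : Set G) := by
    intro a ha
    rw [hD]; exact mul_mem (le_normalizer ha.1) (m'.symm.le_normalizer b.hyp (hcon a ha).1)
  have hDt : ∀ a ∈ L ⊓ R, D a * zz L = zz L * D a := fun a ha => b.hyp.comm_zz hL (hDL a ha)
  -- elements of order 4
  have hord : ∀ a ∈ L ⊓ R, a * a = zz L → orderOf a = 4 := fun a _ haa =>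
    GQ.orderOf_of_sq haa htt (b.hyp.zz_ne hL)
  have hnot : ∀ a ∈ L ⊓ R, a * a = zz L → a ∉ L' := by
    intro a ha haa haL
    rcases Cit.inf_inf_le b.hyp hR.2.1 (b.mem_OmS hL hR) (b.mem_OmS_mate m' hR) m'.ne ha haL with h1 | h1
    · rw [h1, one_mul] at haa
      exact b.hyp.zz_ne hL haa.symm
    · rw [h1.1, htt] at haa
      exact b.hyp.zz_ne hL haa.symm
  have hDne : ∀ a ∈ L ⊓ R, a * a = zz L → D a ≠ 1 := by
    intro a ha haa h1
    apply hnot a ha haa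
    rw [hD] at h1
    have h2 : a = (zz K * a * (zz K)⁻¹)⁻¹ := mul_eq_one_iff_eq_inv.1 h1
    rw [h2]; exact L'.inv_mem (hcon a ha).1
  have hDnt : ∀ a ∈ L ⊓ R, a * a = zz L → D a ≠ zz L := by
    intro a ha haa h1
    apply hnot a ha haa
    rw [hD, ← haa] at h1
    rw [← mul_left_cancel h1]; exact (hcon a ha).1
  -- DC
  have hdc : ∀ a ∈ L ⊓ R, ∀ c ∈ L ⊓ R, a * a = zz L → c * c = zz L → D a ∈ normalizer (K : Set G) →
      D c ∈ normalizer (K : Set G) := by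
    intro a ha c hc haa hcc hDa
    obtain ⟨k, -, hkz, hkD⟩ := dc b.hyp hL m'.hL m'.ne m'.zz (hk1 L hL) hzz hsw hQ.1 hQ.2.1 (by
      intro u hu w hw
      rw [mem_cj] at hw
      have h1 := hcm u hu _ hw
      rwa [show zz K * ((zz K)⁻¹ * w * zz K) * (zz K)⁻¹ = w by group] at h1) ha hc (hord a ha haa)
      (hord c hc hcc)
    rw [← hD, ← hD] at hkD
    rw [← hkD, mem_normalizer_iff_cj, cj_mul, cj_mul]
    rcases b.cj_or m hkz with h1 | h1
    · have h2 : cj k⁻¹ K = K := by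
        have := congrArg (cj k⁻¹) h1.1
        rw [cj_inv_cj] at this
        exact this.symm
      rw [h2, mem_normalizer_iff_cj.1 hDa, h1.1]
    · have h2 : cj k⁻¹ K = K' := b.cj_inv_swap m h1.1
      rw [h2, mem_normalizer_iff_cj.1 (b.mem_normalizer_mate m hDa), h1.2]
  have hw : x ^ 2 ^ n ∈ L ⊓ R := pow_mem g.c_mem _
  obtain ⟨k, hk⟩ : ∃ k, k = x ^ 2 ^ n := ⟨_, rfl⟩
  rw [← hk] at hw
  have hkk : k * k = zz L := by rw [hk]; exact g.w_sq
  have hyy : y * y = zz L := g.v_sq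
  have hyk : y * k = k⁻¹ * y := by
    have h1 := g.conj_pow (2 ^ n)
    rwa [← hk] at h1
  have hky : (k * y) * (k * y) = zz L := by
    calc (k * y) * (k * y) = k * (y * k) * y := by group
      _ = y * y := by rw [hyk]; group
      _ = zz L := hyy
  have hkyR : k * y ∈ L ⊓ R := mul_mem hw g.v_mem
  have hDk : ∀ a ∈ L ⊓ R, a * a = zz L → D a ∈ normalizer (K : Set G) := by
    intro a ha haa
    by_contra hcon'
    have h1 : ∀ c ∈ L ⊓ R, c * c = zz L → cj (D c) K = K' := by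
      intro c hc hcc
      rcases b.norm_or m (hDz c hc) with h2 | h2
      · exact absurd (hdc c hc a ha hcc haa h2) hcon'
      · exact h2
    have h2 := b.swap_mul m (h1 k hw hkk) (h1 y g.v_mem hyy)
    rw [← hDmul k hw y g.v_mem] at h2
    exact hcon' (hdc _ hkyR a ha hky haa h2)
  -- the elements `t D a`
  have htD : ∀ a ∈ L ⊓ R, a * a = zz L → zz L * D a ∈ Zs Om ∧ D a ∈ Zs Om ∧ zz L * D a ≠ zz K ∧ D a ≠ zz K := by
    intro a ha haa
    have hta : a * zz L = zz L * a := by rw [← haa, mul_assoc]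
    have e1 : a⁻¹ * zz K * a = zz K * (zz L * D a) := by
      have e2 : a⁻¹ = zz L * a := by
        rw [inv_eq_iff_mul_eq_one, ← mul_assoc, hta, mul_assoc, haa, htt]
      calc a⁻¹ * zz K * a = a⁻¹ * (zz K * a * (zz K)⁻¹) * zz K := by group
        _ = zz L * (a * (zz K * a * (zz K)⁻¹)) * zz K := by rw [e2]; group
        _ = zz L * (D a * zz K) := by rw [← hD]; group
        _ = (zz L * zz K) * D a := by rw [hDz a ha]; group
        _ = zz K * (zz L * D a) := by rw [comm]; group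
    have e2 : zz K * (zz L * D a) ∈ Zs Om := by
      rw [← e1]; exact Zs_cj' b.hyp (zz_mem_Zs hK) a
    have e3 : zz K * (zz L * D a) ≠ zz K := by
      intro e4
      have e5 : zz L * D a = 1 := mul_eq_left.1 e4
      apply hDnt a ha haa
      calc D a = (zz L * zz L) * D a := by rw [htt, one_mul]
        _ = zz L * (zz L * D a) := by group
        _ = zz L := by rw [e5, mul_one]
    have e4 := Zs_mul_mem b hK e2 e3 (mul_mem (le_normalizer (b.hyp.zz_mem hK)) (mul_mem nK (hDk a ha haa)))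
    have e5 : zz K * (zz K * (zz L * D a)) = zz L * D a := by rw [← mul_assoc, hzz, one_mul]
    rw [e5] at e4
    have e6 := Zs_mul_mem b hL e4 (by
      intro e7
      exact hDne a ha haa (mul_eq_left.1 e7)) (mul_mem (le_normalizer (b.hyp.zz_mem hL)) (hDL a ha))
    rw [← mul_assoc, htt, one_mul] at e6
    refine ⟨e4, e6, ?_, ?_⟩
    · intro e7
      rw [e7, hzz] at e2
      exact Zs_ne b.hyp e2 rfl
    · intro e7
      rw [e7, comm, ← mul_assoc, hzz, one_mul] at e1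
      apply hne
      calc zz K = a * (a⁻¹ * zz K * a) * a⁻¹ := by group
        _ = zz L := by rw [e1, hta, mul_inv_cancel_right]
  -- the group of order 8
  have hLR : zz L ∈ R := by rw [← hkk]; exact R.mul_mem hw.2 hw.2
  obtain ⟨S, hSdef⟩ : ∃ S : Set G, S = {f | f ∈ Zs Om ∧ f ≠ zz K ∧ f ∈ R ⊓ normalizer (K : Set G)} := ⟨_, rfl⟩
  have hSD : ∀ a ∈ L ⊓ R, a * a = zz L → D a ∈ S := by
    intro a ha haa
    rw [hSdef]
    exact ⟨(htD a ha haa).2.1, (htD a ha haa).2.2.2, hDR a ha, hDk a ha haa⟩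
  have hStD : ∀ a ∈ L ⊓ R, a * a = zz L → zz L * D a ∈ S := by
    intro a ha haa
    rw [hSdef]
    exact ⟨(htD a ha haa).1, (htD a ha haa).2.2.1, R.mul_mem hLR (hDR a ha), mul_mem nK (hDk a ha haa)⟩
  have hSt : zz L ∈ S := by
    rw [hSdef]
    exact ⟨zz_mem_Zs hL, hne.symm, hLR, nK⟩
  have hm := hDmul k hw y g.v_mem
  refine no_eight b hK (hR.2.1.to_le inf_le_left) inf_le_right (S := S) (by rw [hSdef]; exact fun f hf => hf)
    (f := zz L) (g := D k) (h := D y) (hDt k hw).symm hSt (hSD k hw hkk) (hSD y g.v_mem hyy)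
    (hStD k hw hkk) (hStD y g.v_mem hyy) ?_ ?_
  · rw [← hm]; exact hSD _ hkyR hky
  · rw [← hm]; exact hStD _ hkyR hky

/-- **(P1)** 2-elements of `K ∩ C(zz E)`, `zz E ∈ N(K)`, have trivial field part on `E` -/
theorem p1 (b : TwoEq Om) (hk1 : OneF.K1 Om) {n : ℕ} (ho : Ord Om n) (hn : n ≠ 0) :
    ∀ K ∈ Om, ∀ E ∈ Om, zz E ∈ normalizer (K : Set G) → ∀ γ ∈ K, IsPGroup 2 (zpowers γ) →
      γ * zz E = zz E * γ → psiK E n γ = 1 := by
  intro K hK E hE hEK γ hγ h2 hc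
  by_cases hz : zz K = zz E
  · by_cases hKE : K = E
    · subst hKE
      exact psiK_self (ho K hK) hn hγ
    · exact psiK_mate b ho hn ⟨hK, hE, hKE, hz⟩ hγ h2
  · obtain ⟨K', E', T, R, R', p, hA⟩ := b.exists_npair hK hE hz hEK (nsym b hk1 K hK E hE hEK) h2 (by
      rw [zpowers_le]
      exact ⟨mem_centralizer_singleton_iff.2 (b.hyp.comm_zz hK (le_normalizer hγ)),
        mem_centralizer_singleton_iff.2 hc⟩)
    have hγT : γ ∈ T := hA (mem_zpowers γ)
    have hγQ : γ ∈ K ⊓ R := ⟨hγ, p.TR hγT⟩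
    obtain ⟨x, y, x', y', m, c⟩ := p.hp.exists_co
    have hm := ho.eq hE p.symm.hQ c.gq'
    subst hm
    rcases c.dich with h1 | h1
    · have h3 : x' ∈ T ⊓ (normalizer (K : Set G) ⊓ normalizer (E : Set G)) :=
        c.pair.symm.mem_T c.gq'.c_mem h1.1.symm
      have h4 := c.pair.commute_R hγQ (c.pair.mem_T hγQ hc) c.gq'.c_mem h3
      have hc1 : x' ^ 2 ^ (m + 2) = 1 := pow_eq_one c.gq'.ord
      have h5 : OneFieldHom.R E m γ 1 := R_of_one (ho E hE) hn (p.mem_normalizer hγQ hc) c.gq'.c_mem.1 c.gq'.ord E.one_mem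
        (by rw [h4, mul_inv_cancel_right, Units.val_one, cp_one hc1]; group)
      rw [psiK_eq (ho E hE) hn h5, map_one]
    · rcases h1.1 γ hγQ hc with h3 | h3
      · rw [h3]; exact psiK_self (ho E hE) hn E.one_mem
      · rw [h3]
        exact p0 b ho hn E hE _ (zz_mem_Zs hK) p.nL

end Cfsg.Agent.Cit.TwoFK
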