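import Cfsg.Agent.Cit.TwoFK.ClaimE
import Cfsg.Agent.Cit.TwoFK.NInv
import Cfsg.Agent.Cit.TwoFK.Sym

/-!
# THEOREM INV, THEOREM GEN, THEOREM FK: final forms

`|Om(S)| = 2` with equal involutions, elements of order 4 of a member conjugate in it (`OneF.K1`).
The invariance for pairs interchanging each other's members is proved here without restriction on `|Q|`.
-/

set_option autoImplicit false
set_option linter.style.haveILetI false
set_option linter.unusedSectionVars false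
set_option linter.unusedVariables false

namespace Cfsg.Agent.Cit.TwoFK

open Subgroup Cfsg Cit OneBasic OneFieldHom OneFieldPsi

variable {G : Type*} [Group G] [Finite G] {Om : Set (Subgroup G)}

/-- `d_k = k k^t` normalises the members over `t` -/
theorem dk_norm (b : TwoEq Om) (hk1 : OneF.K1 Om) {K L R : Subgroup G} (hK : K ∈ Om) (hL : L ∈ Om)
    (hR : Syl R (centralizer {zz K})) (hLR : zz L ∈ R) (nK : zz L ∉ normalizer (K : Set G)) {k : G}
    (hk : k ∈ K ⊓ R) (hk4 : orderOf k = 4) : k * (zz L * k * (zz L)⁻¹) ∈ normalizer (L : Set G) := by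
  obtain ⟨Kh, m, -⟩ := b.exists_mate hK
  obtain ⟨Lh, m', -⟩ := b.exists_mate hL
  have hc : zz L * zz K = zz K * zz L := mem_centralizer_singleton_iff.1 (hR.1 hLR)
  have hcK : cj (zz L) K = Kh := (b.norm_or m hc).resolve_left nK
  have hQ := b.syl_inf hK hR
  obtain ⟨c, v, n, g⟩ := b.hyp.exists_gq hK hQ
  have hcQ : ∀ u ∈ K ⊓ R, zz L * u * (zz L)⁻¹ ∈ Kh ⊓ R := by
    intro u hu
    refine ⟨?_, R.mul_mem (R.mul_mem hLR hu.2) (R.inv_mem hLR)⟩
    rw [← hcK]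
    exact conj_mem_cj hu.1
  have hcm : ∀ u ∈ K ⊓ R, ∀ w ∈ K ⊓ R, u * (zz L * w * (zz L)⁻¹) = (zz L * w * (zz L)⁻¹) * u := by
    intro u hu w hw
    exact m.comm b.hyp hR.2.1 hu.1 hu.2 (hcQ w hw).1 (hcQ w hw).2
  have hcomm : ∀ a ∈ K ⊓ R, ∀ w ∈ cj (zz L) (K ⊓ R), a * w = w * a := by
    rintro a ha _ ⟨w, hw, rfl⟩
    exact hcm a ha w hw
  -- `d_k` commutes with `zz L`
  have hdL : ∀ u ∈ K ⊓ R, (u * (zz L * u * (zz L)⁻¹)) * zz L = zz L * (u * (zz L * u * (zz L)⁻¹)) := by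
    intro u hu
    have h1 := hcm u hu u hu
    have h2 : zz L * u * (zz L)⁻¹ * zz L = zz L * u := by group
    have h3 : zz L * (zz L * u * (zz L)⁻¹) = u * zz L := by
      rw [b.hyp.zz_inv hL]
      calc zz L * (zz L * u * zz L) = (zz L * zz L) * u * zz L := by group
        _ = _ := by rw [b.hyp.zz_mul hL, one_mul]
    calc u * (zz L * u * (zz L)⁻¹) * zz L = (u * zz L) * u := by
          rw [mul_assoc, h2]; group
      _ = zz L * (zz L * u * (zz L)⁻¹) * u := by rw [h3]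
      _ = zz L * (u * (zz L * u * (zz L)⁻¹)) := by rw [h1]; group
  -- all have the same status
  have hsame : ∀ u ∈ K ⊓ R, ∀ w ∈ K ⊓ R, orderOf u = 4 → orderOf w = 4 →
      u * (zz L * u * (zz L)⁻¹) ∈ normalizer (L : Set G) → w * (zz L * w * (zz L)⁻¹) ∈ normalizer (L : Set G) := by
    intro u hu w hw hu4 hw4 hn
    obtain ⟨g, -, hg, hgd⟩ := dc b.hyp hK m.hL m.ne m.zz (hk1 K hK) (b.hyp.zz_mul hL) hcK inf_le_left hQ.2.1
      hcomm hu hw hu4 hw4
    rw [← hgd]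
    rcases b.norm_or m' hg with h1 | h1
    · exact mul_mem (mul_mem h1 hn) (inv_mem h1)
    · exact b.swap_mul m' (b.swap_norm m' h1 hn) (b.cj_inv_swap m' h1)
  obtain ⟨q1, hq1, q2, hq2, h14, h24, h34, -⟩ := g.exists_pair
  by_contra hcon
  have hall : ∀ u ∈ K ⊓ R, orderOf u = 4 → cj (u * (zz L * u * (zz L)⁻¹)) L = Lh := by
    intro u hu hu4
    refine (b.norm_or m' (hdL u hu)).resolve_left ?_
    intro h1
    exact hcon (hsame u hu k hk hu4 hk4 h1)
  have h1 := b.swap_mul m' (hall q1 hq1 h14) (hall q2 hq2 h24)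
  have h2 := hall (q1 * q2) ((K ⊓ R).mul_mem hq1 hq2) h34
  have h3 : (q1 * (zz L * q1 * (zz L)⁻¹)) * (q2 * (zz L * q2 * (zz L)⁻¹)) =
      (q1 * q2) * (zz L * (q1 * q2) * (zz L)⁻¹) := by
    have h4 := hcm q2 hq2 q1 hq1
    calc (q1 * (zz L * q1 * (zz L)⁻¹)) * (q2 * (zz L * q2 * (zz L)⁻¹))
        = q1 * ((zz L * q1 * (zz L)⁻¹) * q2) * (zz L * q2 * (zz L)⁻¹) := by group
      _ = q1 * (q2 * (zz L * q1 * (zz L)⁻¹)) * (zz L * q2 * (zz L)⁻¹) := by rw [h4]
      _ = _ := by group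
  rw [h3] at h1
  exact b.not_norm m' h2 h1

/-- see `exists_xq` -/
structure XQ (Om : Set (Subgroup G)) (K L T : Subgroup G) (x y : G) : Prop where
  hK : K ∈ Om
  hL : L ∈ Om
  hx : x ∈ K
  hy : y ∈ L
  sx : x * x = zz K
  sy : y * y = zz L
  comm : zz K * zz L = zz L * zz K
  tz : ∀ a ∈ T, a * zz K = zz K * a
  tt : ∀ a ∈ T, a * zz L = zz L * a
  zK : zz K ∈ T
  zL : zz L ∈ T
  nK : zz L ∉ normalizer (K : Set G)
  nL : zz K ∉ normalizer (L : Set G)
  cx : ∀ a ∈ T, a ∈ normalizer (K : Set G) → a * x * a⁻¹ = x ∨ a * x * a⁻¹ = x * zz K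
  cy : ∀ a ∈ T, a ∈ normalizer (L : Set G) → a * y * a⁻¹ = y ∨ a * y * a⁻¹ = y * zz L
  dT : x * (zz L * x * (zz L)⁻¹) ∈ T
  dT' : y * (zz K * y * (zz K)⁻¹) ∈ T
  dL : x * (zz L * x * (zz L)⁻¹) ∈ normalizer (L : Set G)
  dK' : y * (zz K * y * (zz K)⁻¹) ∈ normalizer (K : Set G)
  dK : x * (zz L * x * (zz L)⁻¹) ∈ normalizer (K : Set G)
  dL' : y * (zz K * y * (zz K)⁻¹) ∈ normalizer (L : Set G)
  xx : x * (zz L * x * (zz L)⁻¹) = (zz L * x * (zz L)⁻¹) * x
  yy : y * (zz K * y * (zz K)⁻¹) = (zz K * y * (zz K)⁻¹) * y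

theorem XQ.symm {K L T : Subgroup G} {x y : G} (p : XQ Om K L T x y) : XQ Om L K T y x :=
  ⟨p.hL, p.hK, p.hy, p.hx, p.sy, p.sx, p.comm.symm, p.tt, p.tz, p.zL, p.zK, p.nL, p.nK, p.cy, p.cx, p.dT', p.dT,
    p.dK', p.dL, p.dL', p.dK, p.yy, p.xx⟩

/-- one side -/
theorem exists_side' (b : TwoEq Om) (hk1 : OneF.K1 Om)
    {K L T : Subgroup G} (hK : K ∈ Om) (hL : L ∈ Om) (hc : zz K * zz L = zz L * zz K)
    (nK : zz L ∉ normalizer (K : Set G)) (hT : Syl T (centralizer {zz K} ⊓ centralizer {zz L})) :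
    ∃ x ∈ K, x * x = zz K ∧
      (∀ a ∈ T, a ∈ normalizer (K : Set G) → a * x * a⁻¹ = x ∨ a * x * a⁻¹ = x * zz K) ∧
      x * (zz L * x * (zz L)⁻¹) ∈ T ∧ x * (zz L * x * (zz L)⁻¹) ∈ normalizer (L : Set G) ∧
      x * (zz L * x * (zz L)⁻¹) ∈ normalizer (K : Set G) ∧
      x * (zz L * x * (zz L)⁻¹) = (zz L * x * (zz L)⁻¹) * x := by
  obtain ⟨Kh, m, -⟩ := b.exists_mate hK
  have hcK : cj (zz L) K = Kh := (b.norm_or m hc.symm).resolve_left nK
  have hLL := b.hyp.zz_mul hL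
  obtain ⟨R, hR, hTR⟩ := OneBasic.exists_syl_ge hT.2.1 (hT.1.trans inf_le_left)
  have hTe : T = R ⊓ centralizer {zz L} :=
    syl_eq_of_le hT (hR.2.1.to_le inf_le_left) (le_inf (inf_le_left.trans hR.1) inf_le_right)
      (le_inf hTR (hT.1.trans inf_le_right))
  have hQ := b.syl_inf hK hR
  have hLT : zz L ∈ T := mem_of_central hT (isP_of_sq hLL)
    ⟨mem_centralizer_singleton_iff.2 hc.symm, mem_centralizer_singleton_iff.2 rfl⟩
    (fun a ha => mem_centralizer_singleton_iff.1 (hT.1 ha).2)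
  have hLR : zz L ∈ R := hTR hLT
  obtain ⟨c, v, n, g, hcv⟩ := b.hyp.exists_gq_cyclic hK hQ (T := T ⊓ normalizer (K : Set G))
    (hT.2.1.to_le inf_le_left) (by
      intro a ha
      rw [mem_normalizer_iff_cj, cj_inf, mem_normalizer_iff_cj.1 ha.2,
        mem_normalizer_iff_cj.1 (le_normalizer (hTR ha.1))])
  have hcQ : ∀ u ∈ K ⊓ R, zz L * u * (zz L)⁻¹ ∈ Kh ⊓ R := by
    intro u hu
    refine ⟨?_, R.mul_mem (R.mul_mem hLR hu.2) (R.inv_mem hLR)⟩
    rw [← hcK]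
    exact conj_mem_cj hu.1
  have hx0 : c ^ 2 ^ n ∈ K ⊓ R := (K ⊓ R).pow_mem g.c_mem _
  have hcm : c ^ 2 ^ n * (zz L * c ^ 2 ^ n * (zz L)⁻¹) = (zz L * c ^ 2 ^ n * (zz L)⁻¹) * c ^ 2 ^ n :=
    m.comm b.hyp hR.2.1 hx0.1 hx0.2 (hcQ _ hx0).1 (hcQ _ hx0).2
  refine ⟨c ^ 2 ^ n, hx0.1, g.w_sq, ?_, ?_, dk_norm b hk1 hK hL hR hLR nK hx0 g.orderOf_w, ?_, hcm⟩
  · intro a haT haK
    have haz := b.hyp.comm_zz hK haK
    apply g.eq_w_of_sq
    · obtain ⟨k, hk⟩ := hcv a ⟨haT, haK⟩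
      refine ⟨k * (2 ^ n : ℕ), ?_⟩
      have := conj_zpow_pow hk.symm (2 ^ n : ℕ)
      rw [zpow_natCast] at this
      exact this.symm
    · calc a * c ^ 2 ^ n * a⁻¹ * (a * c ^ 2 ^ n * a⁻¹) = a * (c ^ 2 ^ n * c ^ 2 ^ n) * a⁻¹ := by group
        _ = a * zz K * a⁻¹ := by rw [g.w_sq]
        _ = zz K := by rw [haz, mul_inv_cancel_right]
  · rw [hTe]
    refine mem_inf.2 ⟨R.mul_mem hx0.2 (hcQ _ hx0).2, mem_centralizer_singleton_iff.2 ?_⟩
    have h2 : zz L * c ^ 2 ^ n * (zz L)⁻¹ * zz L = zz L * c ^ 2 ^ n := by group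
    have h3 : zz L * (zz L * c ^ 2 ^ n * (zz L)⁻¹) = c ^ 2 ^ n * zz L := by
      rw [b.hyp.zz_inv hL]
      calc zz L * (zz L * c ^ 2 ^ n * zz L) = (zz L * zz L) * c ^ 2 ^ n * zz L := by group
        _ = _ := by rw [hLL, one_mul]
    calc c ^ 2 ^ n * (zz L * c ^ 2 ^ n * (zz L)⁻¹) * zz L = (c ^ 2 ^ n * zz L) * c ^ 2 ^ n := by
          rw [mul_assoc, h2]; group
      _ = zz L * (zz L * c ^ 2 ^ n * (zz L)⁻¹) * c ^ 2 ^ n := by rw [h3]
      _ = zz L * (c ^ 2 ^ n * (zz L * c ^ 2 ^ n * (zz L)⁻¹)) := by rw [hcm]; group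
  · exact mul_mem (le_normalizer hx0.1) (m.symm.le_normalizer b.hyp (hcQ _ hx0).1)

theorem exists_xq (b : TwoEq Om) (hk1 : OneF.K1 Om) {K L : Subgroup G} (hK : K ∈ Om) (hL : L ∈ Om)
    (hc : zz K * zz L = zz L * zz K)
    (nK : zz L ∉ normalizer (K : Set G)) (nL : zz K ∉ normalizer (L : Set G)) {h : G}
    (h2 : IsPGroup 2 (zpowers h)) (hhK : h * zz K = zz K * h) (hhL : h * zz L = zz L * h) :
    ∃ T x y, h ∈ T ∧ XQ Om K L T x y := by
  obtain ⟨T, hT, hhT⟩ := OneBasic.exists_syl_ge h2 (M := centralizer {zz K} ⊓ centralizer {zz L}) (by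
    rw [zpowers_le]
    exact ⟨mem_centralizer_singleton_iff.2 hhK, mem_centralizer_singleton_iff.2 hhL⟩)
  have tz : ∀ a ∈ T, a * zz K = zz K * a := fun a ha => mem_centralizer_singleton_iff.1 (hT.1 ha).1
  have tt : ∀ a ∈ T, a * zz L = zz L * a := fun a ha => mem_centralizer_singleton_iff.1 (hT.1 ha).2
  obtain ⟨x, hx, sx, cx, dT, dL, dK, xx⟩ := exists_side' b hk1 hK hL hc nK hT
  obtain ⟨y, hy, sy, cy, dT', dK', dL', yy⟩ := exists_side' b hk1 hL hK hc.symm nL (by rw [inf_comm]; exact hT)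
  exact ⟨T, x, y, hhT (mem_zpowers h), hK, hL, hx, hy, sx, sy, hc, tz, tt,
    mem_of_central hT (isP_of_sq (b.hyp.zz_mul hK))
      ⟨mem_centralizer_singleton_iff.2 rfl, mem_centralizer_singleton_iff.2 hc⟩ tz,
    mem_of_central hT (isP_of_sq (b.hyp.zz_mul hL))
      ⟨mem_centralizer_singleton_iff.2 hc.symm, mem_centralizer_singleton_iff.2 rfl⟩ tt,
    nK, nL, cx, cy, dT, dT', dL, dK', dK, dL', xx, yy⟩

namespace XQ

variable {K L T : Subgroup G} {x y : G}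

/-- an element of `T` or its product with `zz L` normalises `K` -/
theorem norm_or' (b : TwoEq Om) (p : XQ Om K L T x y) {a : G} (ha : a ∈ T) :
    a ∈ normalizer (K : Set G) ∨ a * zz L ∈ normalizer (K : Set G) := by
  obtain ⟨Kh, m, -⟩ := b.exists_mate p.hK
  rcases b.norm_or m (p.tz a ha) with h1 | h1
  · exact Or.inl h1
  · exact Or.inr (b.swap_mul m h1 ((b.norm_or m p.comm.symm).resolve_left p.nK))

theorem xz (b : TwoEq Om) (p : XQ Om K L T x y) : x * zz K = zz K * x :=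
  b.hyp.comm_zz p.hK (le_normalizer p.hx)

theorem x_inv (b : TwoEq Om) (p : XQ Om K L T x y) : x⁻¹ = x * zz K := by
  rw [inv_eq_iff_mul_eq_one, ← mul_assoc, p.sx, b.hyp.zz_mul p.hK]

/-- `d` is central in `T` -/
theorem d_comm (b : TwoEq Om) (p : XQ Om K L T x y) {a : G} (ha : a ∈ T) :
    a * (x * (zz L * x * (zz L)⁻¹)) = (x * (zz L * x * (zz L)⁻¹)) * a := by
  have key : ∀ a ∈ T, a ∈ normalizer (K : Set G) →
      a * (x * (zz L * x * (zz L)⁻¹)) = (x * (zz L * x * (zz L)⁻¹)) * a := by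
    intro a ha haK
    have hz := p.tz a ha
    have ht := p.tt a ha
    have h1 : a * (x * (zz L * x * (zz L)⁻¹)) * a⁻¹ =
        (a * x * a⁻¹) * (zz L * (a * x * a⁻¹) * (zz L)⁻¹) := by
      calc a * (x * (zz L * x * (zz L)⁻¹)) * a⁻¹
          = (a * x * a⁻¹) * ((a * zz L) * x * (a * zz L)⁻¹) := by group
        _ = _ := by rw [ht]; group
    rw [← mul_inv_eq_iff_eq_mul, h1]
    rcases p.cx a ha haK with h2 | h2
    · rw [h2]
    · rw [h2]
      have h3 : zz L * (x * zz K) * (zz L)⁻¹ = (zz L * x * (zz L)⁻¹) * zz K := by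
        calc zz L * (x * zz K) * (zz L)⁻¹ = (zz L * x * (zz L)⁻¹) * (zz L * zz K * (zz L)⁻¹) := by group
          _ = _ := by rw [← p.comm, mul_inv_cancel_right]
      have h4 : zz K * (zz L * x * (zz L)⁻¹) = (zz L * x * (zz L)⁻¹) * zz K := by
        calc zz K * (zz L * x * (zz L)⁻¹) = (zz K * zz L) * x * (zz L)⁻¹ := by group
          _ = zz L * (zz K * x) * (zz L)⁻¹ := by rw [p.comm]; group
          _ = zz L * x * (zz K * (zz L)⁻¹) := by rw [← p.xz b]; group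
          _ = zz L * x * ((zz L)⁻¹ * zz K) := by rw [b.hyp.zz_inv p.hL, p.comm]
          _ = _ := by group
      rw [h3]
      calc x * zz K * (zz L * x * (zz L)⁻¹ * zz K) = x * (zz K * (zz L * x * (zz L)⁻¹)) * zz K := by group
        _ = x * (zz L * x * (zz L)⁻¹) * (zz K * zz K) := by rw [h4]; group
        _ = _ := by rw [b.hyp.zz_mul p.hK, mul_one]
  rcases p.norm_or' b ha with h1 | h1
  · exact key a ha h1
  · have h2 := key _ (T.mul_mem ha p.zL) h1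
    have h3 := p.tt _ p.dT
    have h4 : a * (x * (zz L * x * (zz L)⁻¹)) * zz L = (x * (zz L * x * (zz L)⁻¹)) * a * zz L := by
      calc a * (x * (zz L * x * (zz L)⁻¹)) * zz L = a * ((x * (zz L * x * (zz L)⁻¹)) * zz L) := by group
        _ = (a * zz L) * (x * (zz L * x * (zz L)⁻¹)) := by rw [h3]; group
        _ = _ := by rw [h2]; group
    exact mul_right_cancel h4

/-- `d = x x^t` -/
theorem d_mul (b : TwoEq Om) (p : XQ Om K L T x y) :
    (x * (zz L * x * (zz L)⁻¹)) * (x * (zz L * x * (zz L)⁻¹)) = 1 := by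
  calc (x * (zz L * x * (zz L)⁻¹)) * (x * (zz L * x * (zz L)⁻¹))
      = x * ((zz L * x * (zz L)⁻¹) * x) * (zz L * x * (zz L)⁻¹) := by group
    _ = x * (x * (zz L * x * (zz L)⁻¹)) * (zz L * x * (zz L)⁻¹) := by rw [p.xx]
    _ = (x * x) * (zz L * (x * x) * (zz L)⁻¹) := by group
    _ = 1 := by rw [p.sx, ← p.comm, mul_inv_cancel_right, b.hyp.zz_mul p.hK]

/-- `t^x = z d t` -/
theorem zs_eq (b : TwoEq Om) (p : XQ Om K L T x y) :
    x⁻¹ * zz L * x = zz K * (x * (zz L * x * (zz L)⁻¹)) * zz L := by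
  rw [p.x_inv b, p.xz b]
  group

theorem zs_mem (b : TwoEq Om) (p : XQ Om K L T x y) : x⁻¹ * zz L * x ∈ T := by
  rw [p.zs_eq b]
  exact T.mul_mem (T.mul_mem p.zK p.dT) p.zL

theorem zs_comm (b : TwoEq Om) (p : XQ Om K L T x y) {a : G} (ha : a ∈ T) :
    a * (x⁻¹ * zz L * x) = (x⁻¹ * zz L * x) * a := by
  rw [p.zs_eq b]
  calc a * (zz K * (x * (zz L * x * (zz L)⁻¹)) * zz L)
      = (a * zz K) * (x * (zz L * x * (zz L)⁻¹)) * zz L := by group
    _ = zz K * (a * (x * (zz L * x * (zz L)⁻¹))) * zz L := by rw [p.tz a ha]; group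
    _ = zz K * (x * (zz L * x * (zz L)⁻¹)) * (a * zz L) := by rw [p.d_comm b ha]; group
    _ = _ := by rw [p.tt a ha]; group

/-- `[a, x] ∈ ⟨z, d⟩` -/
theorem comm_x (b : TwoEq Om) (p : XQ Om K L T x y) {a : G} (ha : a ∈ T) :
    ∃ k ∈ T, x⁻¹ * a * x = k * a ∧ (k = 1 ∨ k = zz K ∨ k = x * (zz L * x * (zz L)⁻¹) ∨
      k = zz K * (x * (zz L * x * (zz L)⁻¹))) := by
  obtain ⟨d, hd⟩ : ∃ d, d = x * (zz L * x * (zz L)⁻¹) := ⟨_, rfl⟩
  have hdT : d ∈ T := by rw [hd]; exact p.dT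
  have hdx : d * x = x * d := by
    rw [hd]
    calc x * (zz L * x * (zz L)⁻¹) * x = x * ((zz L * x * (zz L)⁻¹) * x) := by group
      _ = _ := by rw [← p.xx]
  have hda : a * d = d * a := by rw [hd]; exact p.d_comm b ha
  have hdd : d * d = 1 := by rw [hd]; exact p.d_mul b
  have hdi : d⁻¹ = d := inv_eq_of_mul_eq_one_right hdd
  have hxz := p.xz b
  have hzz := b.hyp.zz_mul p.hK
  have hxi := p.x_inv b
  have hxx : x⁻¹ * x⁻¹ = zz K := by
    rw [← mul_inv_rev, p.sx, b.hyp.zz_inv p.hK]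
  rw [← hd]
  have hxk : ∀ k : G, a * x * a⁻¹ = x * k → x⁻¹ * a * x = k * a := by
    intro k hk
    calc x⁻¹ * a * x = x⁻¹ * (a * x * a⁻¹) * a := by group
      _ = k * a := by rw [hk]; group
  rcases p.norm_or' b ha with h1 | h1
  · rcases p.cx a ha h1 with h2 | h2
    · exact ⟨1, T.one_mem, hxk 1 (by rw [h2, mul_one]), Or.inl rfl⟩
    · exact ⟨_, p.zK, hxk _ h2, Or.inr (Or.inl rfl)⟩
  · have e1 : zz L * x * (zz L)⁻¹ = x⁻¹ * d := by rw [hd]; group
    have e2 : (a * zz L) * x * (a * zz L)⁻¹ = (a * x * a⁻¹)⁻¹ * d := by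
      calc (a * zz L) * x * (a * zz L)⁻¹ = a * (zz L * x * (zz L)⁻¹) * a⁻¹ := by group
        _ = a * x⁻¹ * a⁻¹ * (a * d * a⁻¹) := by rw [e1]; group
        _ = _ := by rw [hda]; group
    rcases p.cx _ (T.mul_mem ha p.zL) h1 with h2 | h2
    · refine ⟨zz K * d, T.mul_mem p.zK hdT, ?_, Or.inr (Or.inr (Or.inr rfl))⟩
      have e3 : a * x * a⁻¹ = d * x⁻¹ := by
        rw [e2] at h2
        calc a * x * a⁻¹ = d * ((a * x * a⁻¹)⁻¹ * d)⁻¹ := by group
          _ = _ := by rw [h2]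
      calc x⁻¹ * a * x = x⁻¹ * (a * x * a⁻¹) * a := by group
        _ = x⁻¹ * (d * x⁻¹) * a := by rw [e3]
        _ = x⁻¹ * (x⁻¹ * (x * d) * x⁻¹) * a := by group
        _ = (x⁻¹ * x⁻¹) * d * a := by rw [← hdx]; group
        _ = _ := by rw [hxx]
    · refine ⟨d, hdT, ?_, Or.inr (Or.inr (Or.inl rfl))⟩
      have e3 : a * x * a⁻¹ = d * (zz K * x⁻¹) := by
        rw [e2] at h2
        have e4 : (x * zz K)⁻¹ = zz K * x⁻¹ := by rw [mul_inv_rev, b.hyp.zz_inv p.hK]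
        calc a * x * a⁻¹ = d * ((a * x * a⁻¹)⁻¹ * d)⁻¹ := by group
          _ = _ := by rw [h2, e4]
      have e5 : zz K * x⁻¹ = x := by
        rw [hxi, hxz, ← mul_assoc, hzz, one_mul]
      calc x⁻¹ * a * x = x⁻¹ * (a * x * a⁻¹) * a := by group
        _ = x⁻¹ * (d * x) * a := by rw [e3, e5]
        _ = d * a := by rw [hdx]; group

section fam

variable {M : Type*} [CommGroup M]

/-- transport along `x`: if `v^x` is in the class and commutes with `T`, and kills `d`, then the values at `v`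
and `v^x` agree on `T` -/
theorem trans (b : TwoEq Om) (p : XQ Om K L T x y) (F : Fam Om M) {v : G} (hv : v ∈ Zs Om)
    (hvT : ∀ a ∈ T, a * v = v * a) (hcv : ∀ a ∈ T, a * (x⁻¹ * v * x) = (x⁻¹ * v * x) * a)
    (hd : F.psi (x⁻¹ * v * x) (x * (zz L * x * (zz L)⁻¹)) = 1) {a : G} (ha : a ∈ T) :
    F.psi v a = F.psi (x⁻¹ * v * x) a := by
  obtain ⟨s, hs⟩ : ∃ s, s = x⁻¹ * v * x := ⟨_, rfl⟩
  have hsZ : s ∈ Zs Om := by rw [hs]; exact Zs_cj' b.hyp hv x
  rw [← hs] at hd hcv ⊢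
  have hz1 : F.psi s (zz K) = 1 := F.killZ s hsZ _ (zz_mem_Zs p.hK) (hcv _ p.zK)
  have hc := F.conj v hv x⁻¹ a (hvT a ha)
  rw [inv_inv, ← hs] at hc
  obtain ⟨k, hkT, hk, hk'⟩ := p.comm_x b ha
  have hk1 : F.psi s k = 1 := by
    rcases hk' with h | h | h | h
    · rw [h]
      have h1 := F.mul s hsZ 1 1 (by simp) (by simp)
      rw [mul_one] at h1
      exact left_eq_mul.1 h1
    · rw [h]; exact hz1
    · rw [h]; exact hd
    · rw [h, F.mul s hsZ _ _ (hcv _ p.zK) (hcv _ p.dT), hz1, hd, one_mul]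
  rw [← hc, hk, F.mul s hsZ _ _ (hcv _ hkT) (hcv _ ha), hk1, one_mul]

/-- if `v, w` are in the class, commute with `T` and `v w ∈ {d, z d, ...}` then `d` is killed -/
theorem kill (b : TwoEq Om) (p : XQ Om K L T x y) (F : Fam Om M) {s : G} (hs : s ∈ Zs Om)
    (hcs : ∀ a ∈ T, a * s = s * a) : F.psi s (x * (zz L * x * (zz L)⁻¹)) = 1 := by
  -- `d = z * (t^x) * t`
  have hzs : x⁻¹ * zz L * x ∈ Zs Om := Zs_cj' b.hyp (zz_mem_Zs p.hL) x
  have hzsT := p.zs_mem b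
  have hde : x * (zz L * x * (zz L)⁻¹) = zz K * (x⁻¹ * zz L * x) * zz L := by
    rw [p.zs_eq b]
    calc x * (zz L * x * (zz L)⁻¹) = (zz K * zz K) * (x * (zz L * x * (zz L)⁻¹)) * (zz L * zz L) := by
          rw [b.hyp.zz_mul p.hK, b.hyp.zz_mul p.hL]; group
      _ = _ := by group
  rw [hde, F.mul s hs _ _ (hcs _ (T.mul_mem p.zK hzsT)) (hcs _ p.zL), F.mul s hs _ _ (hcs _ p.zK) (hcs _ hzsT),
    F.killZ s hs _ (zz_mem_Zs p.hK) (hcs _ p.zK), F.killZ s hs _ hzs (hcs _ hzsT),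
    F.killZ s hs _ (zz_mem_Zs p.hL) (hcs _ p.zL), one_mul, one_mul]

theorem step (b : TwoEq Om) (p : XQ Om K L T x y) (F : Fam Om M) {a : G} (ha : a ∈ T) :
    F.psi (zz L) a = F.psi (x⁻¹ * zz L * x) a :=
  p.trans b F (zz_mem_Zs p.hL) p.tt (fun a ha => p.zs_comm b ha)
    (p.kill b F (Zs_cj' b.hyp (zz_mem_Zs p.hL) x) (fun a ha => p.zs_comm b ha)) ha

/-- the case where `y` commutes with `d` -/
theorem inv_one (b : TwoEq Om) (p : XQ Om K L T x y) (F : Fam Om M) (hF : NInv F)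
    (hyd : y * (x * (zz L * x * (zz L)⁻¹)) = (x * (zz L * x * (zz L)⁻¹)) * y) {a : G} (ha : a ∈ T)
    (ha2 : IsPGroup 2 (zpowers a)) : F.psi (zz K) a = F.psi (zz L) a := by
  have q := p.symm
  rw [p.step b F ha, q.step b F ha]
  obtain ⟨d, hd⟩ : ∃ d, d = x * (zz L * x * (zz L)⁻¹) := ⟨_, rfl⟩
  obtain ⟨d', hd'⟩ : ∃ d, d = y * (zz K * y * (zz K)⁻¹) := ⟨_, rfl⟩
  have h1 := p.zs_eq b
  have h2 := q.zs_eq b
  rw [← hd] at h1 hyd
  rw [← hd'] at h2
  have hzK := b.hyp.zz_mul p.hK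
  have hzL := b.hyp.zz_mul p.hL
  have hyL : y * zz L = zz L * y := q.xz b
  have hdT : d ∈ T := by rw [hd]; exact p.dT
  have hd'T : d' ∈ T := by rw [hd']; exact p.dT'
  -- conjugation by `y`
  have e0 : y * zz K * y⁻¹ = zz L * d' * zz K := by
    rw [← h2]
    have h3 : y * zz K * y⁻¹ = y⁻¹ * ((y * y) * zz K * (y * y)⁻¹) * y := by group
    rw [h3, q.sx, ← p.comm, mul_inv_cancel_right]
  have e1 : y * (y⁻¹ * zz K * y) * y⁻¹ = zz K := by group
  have hdd' : d' * d = d * d' := by rw [hd]; exact p.d_comm b hd'T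
  have e2 : y * (x⁻¹ * zz L * x) * y⁻¹ = zz K * (d * d') := by
    rw [h1]
    calc y * (zz K * d * zz L) * y⁻¹ = (y * zz K * y⁻¹) * (y * d) * zz L * y⁻¹ := by group
      _ = (y * zz K * y⁻¹) * d * (y * zz L) * y⁻¹ := by rw [hyd]; group
      _ = (zz L * d' * zz K) * d * zz L := by rw [hyL, e0]; group
      _ = zz L * d' * (zz K * d) * zz L := by group
      _ = zz L * (d' * d) * (zz K * zz L) := by rw [← p.tz d hdT]; group
      _ = zz L * (d * d') * (zz L * zz K) := by rw [hdd', p.comm]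
      _ = zz L * ((d * d') * zz L) * zz K := by group
      _ = (zz L * zz L) * ((d * d') * zz K) := by rw [p.tt _ (T.mul_mem hdT hd'T)]; group
      _ = _ := by rw [hzL, one_mul, p.tz _ (T.mul_mem hdT hd'T)]
  obtain ⟨u, hu⟩ : ∃ u, u = zz K * (d * d') := ⟨_, rfl⟩
  rw [← hu] at e2
  have hsZ : x⁻¹ * zz L * x ∈ Zs Om := Zs_cj' b.hyp (zz_mem_Zs p.hL) x
  have hhZ : y⁻¹ * zz K * y ∈ Zs Om := Zs_cj' b.hyp (zz_mem_Zs p.hK) y
  have huZ : u ∈ Zs Om := by rw [← e2]; exact Zs_cj b.hyp hsZ y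
  have hsc := p.zs_comm b ha
  have hhc := q.zs_comm b ha
  by_cases huz : u = zz K
  · have h3 : x⁻¹ * zz L * x = y⁻¹ * zz K * y := by
      rw [huz] at e2
      calc x⁻¹ * zz L * x = y⁻¹ * (y * (x⁻¹ * zz L * x) * y⁻¹) * y := by group
        _ = _ := by rw [e2]
    rw [h3]
  · have huK : u ∈ normalizer (K : Set G) := by
      rw [hu, hd, hd']
      exact mul_mem (le_normalizer (b.hyp.zz_mem p.hK)) (mul_mem p.dK p.dK')
    have h3 := hF K p.hK u huZ huz huK (y * a * y⁻¹) (by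
        obtain ⟨k, hk⟩ := isP_iff.1 ha2
        refine isP_iff.2 ⟨k, ?_⟩
        rw [conj_pow, hk]; group) (by
        calc y * a * y⁻¹ * zz K = y * (a * (y⁻¹ * zz K * y)) * y⁻¹ := by group
          _ = y * ((y⁻¹ * zz K * y) * a) * y⁻¹ := by rw [hhc]
          _ = _ := by group) (by
        rw [← e2]
        calc y * a * y⁻¹ * (y * (x⁻¹ * zz L * x) * y⁻¹) = y * (a * (x⁻¹ * zz L * x)) * y⁻¹ := by group
          _ = y * ((x⁻¹ * zz L * x) * a) * y⁻¹ := by rw [hsc]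
          _ = _ := by group)
    have h4 := F.conj _ hhZ y a hhc
    have h5 := F.conj _ hsZ y a hsc
    rw [e1] at h4
    rw [e2] at h5
    rw [← h4, ← h5, h3]

/-- if `d` inverts `y` then the values at `z d t` and `z t d d'` agree on `T` -/
theorem inv_two (b : TwoEq Om) (p : XQ Om K L T x y) (F : Fam Om M)
    (hyd : (x * (zz L * x * (zz L)⁻¹)) * y * (x * (zz L * x * (zz L)⁻¹))⁻¹ = y * zz L) {a : G} (ha : a ∈ T) :
    F.psi (zz L) a = F.psi (zz K * zz L * (x * (zz L * x * (zz L)⁻¹)) * (y * (zz K * y * (zz K)⁻¹))) a := by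
  have q := p.symm
  obtain ⟨d, hd⟩ : ∃ d, d = x * (zz L * x * (zz L)⁻¹) := ⟨_, rfl⟩
  obtain ⟨d', hd'⟩ : ∃ d, d = y * (zz K * y * (zz K)⁻¹) := ⟨_, rfl⟩
  have h1 := p.zs_eq b
  have h2 := q.zs_eq b
  rw [← hd] at h1 hyd
  rw [← hd'] at h2
  have hzK := b.hyp.zz_mul p.hK
  have hzL := b.hyp.zz_mul p.hL
  have hyL : y * zz L = zz L * y := q.xz b
  have hyi := q.x_inv b
  have hdT : d ∈ T := by rw [hd]; exact p.dT
  have hd'T : d' ∈ T := by rw [hd']; exact p.dT'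
  rw [p.step b F ha, ← hd, ← hd']
  -- `zs = v^y`
  have e0 : y * zz K * y⁻¹ = zz L * d' * zz K := by
    rw [← h2]
    have h3 : y * zz K * y⁻¹ = y⁻¹ * ((y * y) * zz K * (y * y)⁻¹) * y := by group
    rw [h3, q.sx, ← p.comm, mul_inv_cancel_right]
  have hdd' : d' * d = d * d' := by rw [hd]; exact p.d_comm b hd'T
  have hyd' : y * d * y⁻¹ = zz L * d := by
    have h3 : d * y = y * zz L * d := by rw [← mul_inv_eq_iff_eq_mul]; exact hyd
    have h4 : y * d = zz L * d * y := by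
      rw [mul_assoc, h3, hyL]
      calc y * d = (zz L * zz L) * (y * d) := by rw [hzL, one_mul]
        _ = _ := by group
    rw [h4, mul_inv_cancel_right]
  have e2 : y * (x⁻¹ * zz L * x) * y⁻¹ = zz K * zz L * d * d' := by
    rw [h1]
    calc y * (zz K * d * zz L) * y⁻¹ = (y * zz K * y⁻¹) * (y * d * y⁻¹) * (y * zz L) * y⁻¹ := by group
      _ = (zz L * d' * zz K) * (zz L * d) * zz L := by rw [e0, hyd', hyL]; group
      _ = zz L * (d' * zz K) * zz L * (d * zz L) := by group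
      _ = zz L * (d' * zz K) * zz L * (zz L * d) := by rw [p.tt d hdT]
      _ = zz L * (d' * zz K) * (zz L * zz L) * d := by group
      _ = zz L * (zz K * d') * d := by rw [hzL, mul_one, p.tz d' hd'T]
      _ = (zz L * zz K) * (d' * d) := by group
      _ = _ := by rw [hdd', ← p.comm]; group
  obtain ⟨v, hv⟩ : ∃ v, v = zz K * zz L * d * d' := ⟨_, rfl⟩
  rw [← hv] at e2 ⊢
  have hsZ : x⁻¹ * zz L * x ∈ Zs Om := Zs_cj' b.hyp (zz_mem_Zs p.hL) x
  have hvZ : v ∈ Zs Om := by rw [← e2]; exact Zs_cj b.hyp hsZ y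
  have hvT : ∀ a ∈ T, a * v = v * a := by
    intro a ha
    have g1 := p.tz a ha
    have g2 := p.tt a ha
    have g3 : a * d = d * a := by rw [hd]; exact p.d_comm b ha
    have g4 : a * d' = d' * a := by rw [hd']; exact q.d_comm b ha
    rw [hv]
    calc a * (zz K * zz L * d * d') = (a * zz K) * zz L * d * d' := by group
      _ = zz K * (a * zz L) * d * d' := by rw [g1]; group
      _ = zz K * zz L * (a * d) * d' := by rw [g2]; group
      _ = zz K * zz L * d * (a * d') := by rw [g3]; group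
      _ = _ := by rw [g4]; group
  have e3 : y⁻¹ * v * y = x⁻¹ * zz L * x := by rw [← e2]; group
  have h6 := q.trans b F hvZ hvT (by rw [e3]; exact fun a ha => p.zs_comm b ha)
    (by rw [e3]; exact q.kill b F hsZ (fun a ha => p.zs_comm b ha)) ha
  rw [e3] at h6
  exact h6.symm

/-- the invariance for `XQ` -/
theorem inv (b : TwoEq Om) (p : XQ Om K L T x y) (F : Fam Om M) (hF : NInv F) {a : G} (ha : a ∈ T)
    (ha2 : IsPGroup 2 (zpowers a)) : F.psi (zz K) a = F.psi (zz L) a := by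
  have q := p.symm
  rcases p.cy _ p.dT p.dL with h1 | h1
  · exact p.inv_one b F hF (mul_inv_eq_iff_eq_mul.1 h1).symm ha ha2
  · rcases q.cy _ q.dT q.dL with h2 | h2
    · exact (q.inv_one b F hF (mul_inv_eq_iff_eq_mul.1 h2).symm ha ha2).symm
    · rw [q.inv_two b F h2 ha, p.inv_two b F h1 ha]
      congr 1
      have h3 : (y * (zz K * y * (zz K)⁻¹)) * (x * (zz L * x * (zz L)⁻¹)) =
        (x * (zz L * x * (zz L)⁻¹)) * (y * (zz K * y * (zz K)⁻¹)) := p.d_comm b p.dT'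
      rw [mul_assoc, h3, ← p.comm, ← mul_assoc]

end fam

end XQ

section final

variable {M : Type*} [CommGroup M]

/-- **THEOREM INV** -/
theorem inv_final (b : TwoEq Om) (hk1 : OneF.K1 Om) (F : Fam Om M) {z t : G} (hz : z ∈ Zs Om) (ht : t ∈ Zs Om)
    (hc : z * t = t * z) {h : G} (h2 : IsPGroup 2 (zpowers h)) (hhz : h * z = z * h) (hht : h * t = t * h) :
    F.psi z h = F.psi t h := by
  have hS := nsym b hk1
  have hF : NInv F := ninv b hk1 hS F
  obtain ⟨K, hK, rfl⟩ := hz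
  obtain ⟨L, hL, rfl⟩ := ht
  by_cases hne : zz L = zz K
  · rw [hne]
  by_cases h1 : zz L ∈ normalizer (K : Set G)
  · exact hF K hK _ (zz_mem_Zs hL) hne h1 h h2 hhz hht
  · obtain ⟨T, x, y, hT, p⟩ := exists_xq b hk1 hK hL hc h1 (fun h3 => h1 (hS L hL K hK h3)) h2 hhz hht
    exact p.inv b F hF hT h2

/-- the compatible family in the sense of `OneField` -/
def Fam.toPsi' (b : TwoEq Om) (hk1 : OneF.K1 Om) (F : Fam Om M)
    (hM : ∃ s, Nat.card M = 2 ^ s) : OneField.Psi (Zs Om) M where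
  psi := F.psi
  mul := F.mul
  conj := F.conj
  agree := by
    intro z hz w hw hc h hhz hhw
    obtain ⟨m, hm, hm2⟩ := exists_odd_pow h
    have hpow : ∀ z ∈ Zs Om, h * z = z * h → ∀ k : ℕ, F.psi z (h ^ k) = F.psi z h ^ k := by
      intro z hz hhz k
      induction k with
      | zero =>
        rw [pow_zero, pow_zero]
        have h1 := F.mul z hz 1 1 (by simp) (by simp)
        rw [mul_one] at h1
        exact left_eq_mul.1 h1
      | succ k ih =>
        rw [pow_succ, pow_succ, F.mul z hz _ _ ((show Commute h z from hhz).pow_left k).eq hhz, ih]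
    have h1 := inv_final b hk1 F hz hw hc hm2 ((show Commute h z from hhz).pow_left m).eq
      ((show Commute h w from hhw).pow_left m).eq
    rw [hpow z hz hhz, hpow w hw hhw] at h1
    obtain ⟨s, hs⟩ := hM
    rw [← mul_inv_eq_one]
    apply eq_one_of_pow hs hm
    rw [mul_pow, inv_pow, h1, mul_inv_cancel]

/-- **THEOREM GEN** -/
theorem gen_final (b : TwoEq Om) (hk1 : OneF.K1 Om) (F : Fam Om M)
    (hM : ∃ s, Nat.card M = 2 ^ s) (hidx : ∀ H : Subgroup G, H.index ≠ 2) {z h : G} (hz : z ∈ Zs Om)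
    (hhz : h * z = z * h) : F.psi z h = 1 := by
  have key : ∀ h : G, h * z = z * h → IsPGroup 2 (zpowers h) → F.psi z h = 1 := by
    intro h hhz h2
    obtain ⟨K, hK, rfl⟩ := hz
    obtain ⟨R, hR, -⟩ := OneBasic.exists_syl_ge h2 (M := centralizer {zz K}) (by
      rw [zpowers_le]; exact mem_centralizer_singleton_iff.2 hhz)
    exact (F.toPsi' b hk1 hM).eq_one' (fun z hz g => Zs_cj b.hyp hz g) (fun z hz => Zs_isP b.hyp hz)
      (b.syl_top hK hR) (zz_mem_Zs hK) hR.1 (fun N hN k hk => index_eq_one hidx N hN k hk) (zz_mem_Zs hK) h2 hhz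
  obtain ⟨m, hm, hm2⟩ := exists_odd_pow h
  have hpow : ∀ k : ℕ, F.psi z (h ^ k) = F.psi z h ^ k := by
    intro k
    induction k with
    | zero =>
      rw [pow_zero, pow_zero]
      have h1 := F.mul z hz 1 1 (by simp) (by simp)
      rw [mul_one] at h1
      exact left_eq_mul.1 h1
    | succ k ih =>
      rw [pow_succ, pow_succ, F.mul z hz _ _ ((show Commute h z from hhz).pow_left k).eq hhz, ih]
  have h1 := key _ ((show Commute h z from hhz).pow_left m).eq hm2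
  rw [hpow] at h1
  obtain ⟨s, hs⟩ := hM
  exact eq_one_of_pow hs hm h1

end final

/-- some element of the class interchanges the members over a commuting one -/
theorem exists_Zs_swap_final (b : TwoEq Om) (hk1 : OneF.K1 Om) (hidx : ∀ H : Subgroup G, H.index ≠ 2)
    {K L : Subgroup G} (m : Mate Om K L) : ∃ t ∈ Zs Om, cj t K = L := by
  by_contra hcon
  push Not at hcon
  have hno : ∀ J ∈ Om, ∀ t ∈ Zs Om, t * zz J = zz J * t → t ∈ normalizer (J : Set G) := by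
    intro J hJ t ht htJ
    obtain ⟨g, hg⟩ := b.cls K m.hK J hJ
    obtain ⟨J', m', -⟩ := b.exists_mate hJ
    rcases b.norm_or m' htJ with h1 | h1
    · exact h1
    · exfalso
      apply hcon (g⁻¹ * t * g) (Zs_cj' b.hyp ht g)
      have h2 : cj g L = J' := by
        have h3 := m.cj b.hyp g
        rw [hg] at h3
        exact b.mate_unique h3 m'
      rw [cj_mul, cj_mul, hg, h1, ← h2, cj_inv_cj]
  have f1 : ∀ K L, Mate Om K L → ∀ g, g * zz K = zz K * g → sg K g = sg L g := by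
    intro K L m g hg
    by_cases h3 : g ∈ normalizer (K : Set G)
    · rw [sg_of_mem h3, sg_of_mem (b.mem_normalizer_mate m h3)]
    · rw [sg_of_not h3, sg_of_not (fun h4 => h3 (b.mem_normalizer_mate m.symm h4))]
  have f2 : ∀ J ∈ Om, ∀ g h, g * zz J = zz J * g → h * zz J = zz J * h → sg J (g * h) = sg J g * sg J h := by
    intro J hJ g h hg hh
    obtain ⟨J', m', -⟩ := b.exists_mate hJ
    rcases b.norm_or m' hg with h1 | h1
    · rcases b.norm_or m' hh with h2 | h2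
      · rw [sg_of_mem h1, sg_of_mem h2, sg_of_mem (mul_mem h1 h2), one_mul]
      · rw [sg_of_mem h1, sg_of_not (b.not_norm m' h2), sg_of_not (b.not_norm m' (b.norm_swap m' h1 h2)), one_mul]
    · rcases b.norm_or m' hh with h2 | h2
      · rw [sg_of_mem h2, sg_of_not (b.not_norm m' h1), sg_of_not (b.not_norm m' (b.swap_norm m' h1 h2)), mul_one]
      · rw [sg_of_not (b.not_norm m' h1), sg_of_not (b.not_norm m' h2), sg_of_mem (b.swap_mul m' h1 h2)]
        decide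
  have f3 : ∀ J ∈ Om, ∀ a g, g * zz J = zz J * g → sg (cj a J) (a * g * a⁻¹) = sg J g := by
    intro J hJ a g hg
    have h1 : a * g * a⁻¹ ∈ normalizer (cj a J : Set G) ↔ g ∈ normalizer (J : Set G) := by
      rw [mem_normalizer_iff_cj, mem_normalizer_iff_cj, cj_mul, cj_mul, cj_inv_cj, cj_inj]
    by_cases h3 : g ∈ normalizer (J : Set G)
    · rw [sg_of_mem h3, sg_of_mem (h1.2 h3)]
    · rw [sg_of_not h3, sg_of_not (fun h4 => h3 (h1.1 h4))]
  obtain ⟨F, hF⟩ : ∃ F : Fam Om ℤˣ, F.psi = pick Om sg := ⟨famOf b sg f1 f2 f3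
    (fun J hJ h hh _ => sg_of_mem (le_normalizer hh)) (fun J hJ t ht htJ => sg_of_mem (hno J hJ t ht htJ)), rfl⟩
  obtain ⟨s, -, hs⟩ := b.exists_swap m
  have hsK := b.comm_of_swap m hs
  have h2 := gen_final b hk1 F ⟨1, by simp⟩ hidx (zz_mem_Zs m.hK) hsK
  rw [hF, pick_zz b f1 m.hK hsK, sg_of_not (b.not_norm m hs)] at h2
  exact absurd h2 (by decide)

/-- **THEOREM FK** (`|Q| ≥ 16`): the field homomorphisms are trivial -/
theorem fk (b : TwoEq Om) (hk1 : OneF.K1 Om) (hidx : ∀ H : Subgroup G, H.index ≠ 2) {n : ℕ} (ho : Ord Om n)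
    (hn : n ≠ 0) {K : Subgroup G} (hK : K ∈ Om) {g : G} (hg : g ∈ normalizer (K : Set G)) : psiK K n g = 1 :=
  Env.fk ⟨b, ho, hn, nsym b hk1, p1 b hk1 ho hn⟩ (fun _ _ F => ninv b hk1 (nsym b hk1) F) hidx hK hg

/-- **THEOREM FK** in coordinates -/
theorem conj_x (b : TwoEq Om) (hk1 : OneF.K1 Om) (hidx : ∀ H : Subgroup G, H.index ≠ 2) {n : ℕ}
    {K Q : Subgroup G} (hK : K ∈ Om) (hQ : Syl Q K) {x y : G} (g : GQ Q x y (zz K) n) {s : G}
    (hsK : s ∈ normalizer (K : Set G)) (hx : s * x * s⁻¹ ∈ zpowers x) :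
    s * x * s⁻¹ = x ∨ s * x * s⁻¹ = x⁻¹ := by
  rcases Nat.eq_zero_or_pos n with rfl | hn
  · have hx0 : x ^ 2 ^ 0 = x := by rw [pow_zero, pow_one]
    have hxx : x * x = zz K := by have := g.w_sq; rwa [hx0] at this
    have hsz := b.hyp.comm_zz hK hsK
    have h1 := g.eq_w_of_sq hx (by
      calc s * x * s⁻¹ * (s * x * s⁻¹) = s * (x * x) * s⁻¹ := by group
        _ = zz K := by rw [hxx, hsz, mul_inv_cancel_right])
    rw [hx0] at h1
    have h2 : x⁻¹ = x * zz K := by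
      rw [inv_eq_iff_mul_eq_one, ← mul_assoc, hxx, g.z_mul]
    rw [h2]
    exact h1
  · have hn' : n ≠ 0 := hn.ne'
    obtain ⟨n', ho⟩ := exists_ord b
    have := ho.eq hK hQ g
    subst this
    have hoK := ho K hK
    obtain ⟨u, hu⟩ := exists_unit g.ord (d := s * x * s⁻¹) (by rw [orderOf_conj]; exact g.ord) hx
    have hR : OneFieldHom.R K n s u := R_of_one hoK hn' hsK (hQ.1 g.c_mem) g.ord K.one_mem (by rw [hu]; group)
    have h1 := fk b hk1 hidx ho hn' hK hsK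
    have hc1 : x ^ 2 ^ (n + 2) = 1 := pow_eq_one g.ord
    rw [psiK_eq hoK hn' hR, q_eq_one] at h1
    rcases h1 with h1 | h1
    · left; rw [hu, h1, Units.val_one, cp_one hc1]
    · right; rw [hu, h1, Units.val_neg, Units.val_one, cp_neg_one hc1]

/-- **THEOREM FK** for a 2-group: coordinates of `Q = K ∩ R` in which `R ∩ N(K)` acts on `x` through `±1` -/
theorem exists_coord (b : TwoEq Om) (hk1 : OneF.K1 Om) (hidx : ∀ H : Subgroup G, H.index ≠ 2)
    {K Q T : Subgroup G} (hK : K ∈ Om) (hQ : Syl Q K) (hT : IsPGroup 2 T) (hTK : T ≤ normalizer (K : Set G))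
    (hTQ : T ≤ normalizer (Q : Set G)) :
    ∃ x y n, GQ Q x y (zz K) n ∧ ∀ s ∈ T, s * x * s⁻¹ = x ∨ s * x * s⁻¹ = x⁻¹ := by
  obtain ⟨x, y, n, g, h⟩ := b.hyp.exists_gq_cyclic hK hQ hT hTQ
  exact ⟨x, y, n, g, fun s hs => conj_x b hk1 hidx hK hQ g (hTK hs) (h s hs)⟩

end Cfsg.Agent.Cit.TwoFK
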