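import Cfsg.Agent.Cit.OneBasic
import Cfsg.Agent.Cit.OneQuat
import Cfsg.Agent.Cit.Commute

/-!
# The diagonal conjugation lemma

`dc`: `K`, `L` two members with the same involution, interchanged by the involution `z`; if all elements of
order 4 of `K` are conjugate in `K`, then for `k, l ∈ Q` (`Q` a Sylow 2-subgroup of `K` commuting with `Q^z`)
the elements `k k^z` and `l l^z` are conjugate under an element of `K ⊔ L` commuting with `z`.
-/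

set_option autoImplicit false
set_option linter.style.haveILetI false
set_option linter.unusedSectionVars false

namespace Cfsg.Agent.Cit.TwoFK

open Subgroup Cfsg Cit OneBasic

variable {G : Type*} [Group G] [Finite G]

/-- a 2-group `A` normalising the group `N` of odd order is a Sylow 2-subgroup of `A N` -/
theorem syl_sup_odd {N A : Subgroup G} (hN : ¬ 2 ∣ Nat.card N) (hA : IsPGroup 2 A)
    (hAN : A ≤ normalizer (N : Set G)) : Syl A (A ⊔ N) := by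
  obtain ⟨T, hT, hAT⟩ := OneBasic.exists_syl_ge hA (le_sup_left : A ≤ A ⊔ N)
  have h1 : T = A := by
    refine le_antisymm ?_ hAT
    intro t ht
    obtain ⟨a, ha, n, hn, rfl⟩ := exists_mul_of_mem_sup hAN (hT.1 ht)
    have h2 : n ∈ T := by
      have := T.mul_mem (T.inv_mem (hAT ha)) ht
      rwa [inv_mul_cancel_left] at this
    rw [eq_one_of_mem_odd hT.2.1 hN h2 hn, mul_one]
    exact ha
  rwa [h1] at hT

theorem conj_mod_odd {N A B : Subgroup G} (hN : ¬ 2 ∣ Nat.card N) (hA : IsPGroup 2 A)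
    (hAN : A ≤ normalizer (N : Set G)) (hB : IsPGroup 2 B) (hBAN : B ≤ A ⊔ N) :
    ∃ n ∈ N, ∀ b ∈ B, ∀ a ∈ A, b * a⁻¹ ∈ N → n * b * n⁻¹ = a := by
  have hS := syl_sup_odd hN hA hAN
  obtain ⟨T, hT, hBT⟩ := OneBasic.exists_syl_ge hB hBAN
  obtain ⟨m, hm, hmT⟩ := hT.exists_conj hS
  obtain ⟨a0, ha0, n, hn, rfl⟩ := exists_mul_of_mem_sup hAN hm
  refine ⟨n, hn, fun b hb a ha hab => ?_⟩
  have h1 : cj n T = A := by
    have h2 : cj a0⁻¹ (cj (a0 * n) T) = cj a0⁻¹ A := by rw [hmT]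
    rw [← cj_mul, inv_mul_cancel_left, mem_normalizer_iff_cj.1 (le_normalizer (A.inv_mem ha0))] at h2
    exact h2
  have h2 : n * b * n⁻¹ ∈ A := by rw [← h1]; exact conj_mem_cj (hBT hb)
  have h3 : n * b * n⁻¹ * a⁻¹ ∈ N := by
    have h4 : a * n⁻¹ * a⁻¹ ∈ N := (mem_normalizer_iff.1 (hAN ha) _).1 (N.inv_mem hn)
    have h5 := N.mul_mem (N.mul_mem hn hab) h4
    rwa [show n * (b * a⁻¹) * (a * n⁻¹ * a⁻¹) = n * b * n⁻¹ * a⁻¹ by group] at h5
  have h4 := eq_one_of_mem_odd hA hN (A.mul_mem h2 (A.inv_mem ha)) h3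
  rwa [mul_inv_eq_one] at h4

/-- the product of two commuting 2-elements -/
theorem isP_iff {a : G} : IsPGroup 2 (zpowers a) ↔ ∃ m, a ^ 2 ^ m = 1 := by
  constructor
  · intro h
    obtain ⟨m, hm⟩ := h ⟨a, mem_zpowers a⟩
    exact ⟨m, congrArg Subtype.val hm⟩
  · rintro ⟨m, hm⟩
    haveI : Fact (Nat.Prime 2) := ⟨Nat.prime_two⟩
    rw [IsPGroup.iff_card]
    obtain ⟨k, -, hk⟩ := (Nat.dvd_prime_pow Nat.prime_two).1 (orderOf_dvd_of_pow_eq_one hm)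
    exact ⟨k, by rw [Nat.card_zpowers, hk]⟩

theorem isP_mul {a b : G} (ha : IsPGroup 2 (zpowers a)) (hb : IsPGroup 2 (zpowers b)) (hc : a * b = b * a) :
    IsPGroup 2 (zpowers (a * b)) := by
  obtain ⟨m, hm⟩ := isP_iff.1 ha
  obtain ⟨k, hk⟩ := isP_iff.1 hb
  refine isP_iff.2 ⟨m + k, ?_⟩
  rw [(show Commute a b from hc).mul_pow, pow_add, pow_mul, hm, one_pow, one_mul, mul_comm (2 ^ m), pow_mul, hk,
    one_pow]

theorem isP_of_mem {S : Subgroup G} (hS : IsPGroup 2 S) {a : G} (ha : a ∈ S) : IsPGroup 2 (zpowers a) :=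
  hS.to_le (zpowers_le.2 ha)

theorem isP_of_sq {x : G} (hx : x * x = 1) : IsPGroup 2 (zpowers x) :=
  isP_iff.2 ⟨1, by rw [pow_one, pow_two, hx]⟩

/-- **Lemma DC** -/
theorem dc {Om : Set (Subgroup G)} (h : Hyp Om) {K L Q : Subgroup G} (hK : K ∈ Om) (hL : L ∈ Om) (hne : K ≠ L)
    (hzz : zz K = zz L) (hk1 : ∀ x ∈ K, ∀ y ∈ K, orderOf x = 4 → orderOf y = 4 → ∃ k ∈ K, k * x * k⁻¹ = y)
    {z : G} (hz : z * z = 1) (hzK : cj z K = L) (hQ : Q ≤ K) (hQp : IsPGroup 2 Q)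
    (hcomm : ∀ a ∈ Q, ∀ b ∈ cj z Q, a * b = b * a) {k l : G} (hk : k ∈ Q) (hl : l ∈ Q) (hk4 : orderOf k = 4)
    (hl4 : orderOf l = 4) :
    ∃ g ∈ K ⊔ L, g * z = z * g ∧ g * (k * (z * k * z⁻¹)) * g⁻¹ = l * (z * l * z⁻¹) := by
  obtain ⟨g0, hg0, hg0k⟩ := hk1 k (hQ hk) l (hQ hl) hk4 hl4
  have hzi : z⁻¹ = z := inv_eq_of_mul_eq_one_right hz
  have hzL : cj z L = K := by rw [← hzK, ← cj_mul, hz, cj_one]
  -- the odd normal subgroup
  have hcom := (h.h2 K hK L hL hzz).resolve_left hne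
  obtain ⟨N, hNdef⟩ : ∃ N, N = OO (K ⊔ L) := ⟨_, rfl⟩
  have hodd : ¬ 2 ∣ Nat.card N := by rw [hNdef]; exact odd_OO _
  have hLK : L ≤ normalizer (OO K : Set G) := by
    intro x hx
    rw [mem_normalizer_iff_cj]
    have h1 : cj x (OO K) ≤ OO K := by
      intro y hy
      rw [mem_cj] at hy
      have h2 : x * (x⁻¹ * y * x) * x⁻¹ * (x⁻¹ * y * x)⁻¹ ∈ ⁅K, L⁆ := by
        rw [commutator_comm]
        exact commutator_mem_commutator hx (OO_le K hy)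
      have h3 := (OO K).mul_mem (hcom h2).1 hy
      rwa [show x * (x⁻¹ * y * x) * x⁻¹ * (x⁻¹ * y * x)⁻¹ * (x⁻¹ * y * x) = y by group] at h3
    exact eq_of_le_of_card_ge h1 (by rw [card_cj])
  have hOO : OO K ≤ N := by
    rw [hNdef]
    exact le_OO ((OO_le K).trans le_sup_left) (sup_le (le_normalizer_OO K) hLK) (odd_OO K)
  have hKLN : ⁅K, L⁆ ≤ N := (hcom.trans inf_le_left).trans hOO
  have hNKL : K ⊔ L ≤ normalizer (N : Set G) := by rw [hNdef]; exact le_normalizer_OO _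
  have hNz : z ∈ normalizer (N : Set G) := by
    rw [mem_normalizer_iff_cj, hNdef, ← OO_cj, cj_sup, hzK, hzL, sup_comm]
  have hN' : N ≤ K ⊔ L := by rw [hNdef]; exact OO_le _
  -- the element
  obtain ⟨g0', hg0'⟩ : ∃ g, g = z * g0 * z⁻¹ := ⟨_, rfl⟩
  obtain ⟨k', hk'⟩ : ∃ g, g = z * k * z⁻¹ := ⟨_, rfl⟩
  obtain ⟨l', hl'⟩ : ∃ g, g = z * l * z⁻¹ := ⟨_, rfl⟩
  have hg0'L : g0' ∈ L := by rw [hg0', ← hzK]; exact conj_mem_cj hg0
  have hk'Q : k' ∈ cj z Q := by rw [hk']; exact conj_mem_cj hk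
  have hl'Q : l' ∈ cj z Q := by rw [hl']; exact conj_mem_cj hl
  have hl'L : l' ∈ L := by rw [← hzK]; exact cj_mono z hQ hl'Q
  have hk'L : k' ∈ L := by rw [← hzK]; exact cj_mono z hQ hk'Q
  have e1 : g0' * k' * g0'⁻¹ = l' := by rw [hg0', hk', hl', ← hg0k]; group
  rw [← hk', ← hl']
  have hinv : ∀ u u' : G, u ∈ Q → u' = z * u * z⁻¹ → z * (u * u') = (u * u') * z := by
    intro u u' hu hu'
    have hu'Q : u' ∈ cj z Q := by rw [hu']; exact conj_mem_cj hu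
    have h2 : z * u' * z⁻¹ = u := by
      rw [hu']
      calc z * (z * u * z⁻¹) * z⁻¹ = (z * z) * u * (z * z)⁻¹ := by group
        _ = u := by rw [hz]; group
    calc z * (u * u') = (z * u * z⁻¹) * (z * u' * z⁻¹) * z := by group
      _ = (u' * u) * z := by rw [h2, ← hu']
      _ = (u * u') * z := by rw [hcomm u hu u' hu'Q]
  have hkz := hinv k k' hk hk'
  have hlz := hinv l l' hl hl'
  have hpp : ∀ u u' : G, u ∈ Q → u' ∈ cj z Q → IsPGroup 2 (zpowers (u * u')) := fun u u' hu hu' =>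
    isP_mul (isP_of_mem hQp hu) (isP_of_mem (isPGroup_cj hQp) hu') (hcomm u hu u' hu')
  have hzp : IsPGroup 2 (zpowers z) := isP_of_sq hz
  have hpair : ∀ u : G, z * u = u * z → IsPGroup 2 (zpowers u) → IsPGroup 2 (zpowers z ⊔ zpowers u : Subgroup G) := by
    intro u hu hup
    refine isPGroup_sup_of_normalizes hzp hup ?_
    rw [zpowers_le, mem_normalizer_iff_cj, cj_def, MonoidHom.map_zpowers]
    congr 1
    change z * u * z⁻¹ = u
    rw [hu, mul_inv_cancel_right]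
  -- the commutators
  have hc1 : ∀ a ∈ K, ∀ b ∈ L, a * b * a⁻¹ * b⁻¹ ∈ N := fun a ha b hb =>
    hKLN (commutator_mem_commutator ha hb)
  have hKN : ∀ a ∈ K, ∀ n ∈ N, a * n * a⁻¹ ∈ N := fun a ha n hn =>
    (mem_normalizer_iff.1 (hNKL (mem_sup_left ha)) n).1 hn
  have hz1 : (g0 * g0') * z * (g0 * g0')⁻¹ * z⁻¹ ∈ N := by
    have h1 := hc1 g0 hg0 g0' hg0'L
    have h2 : (g0 * g0') * z * (g0 * g0')⁻¹ * z⁻¹ = g0 * g0' * g0⁻¹ * g0'⁻¹ := by
      have h3 : g0' * z = z * g0 := by rw [hg0']; group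
      have h4 : g0'⁻¹ = z * g0⁻¹ * z⁻¹ := by rw [hg0']; group
      calc (g0 * g0') * z * (g0 * g0')⁻¹ * z⁻¹ = g0 * (g0' * z) * g0'⁻¹ * g0⁻¹ * z⁻¹ := by group
        _ = g0 * (z * g0) * (z * g0⁻¹ * z⁻¹) * g0⁻¹ * z⁻¹ := by rw [h3, h4]
        _ = g0 * (z * g0 * z⁻¹) * (z * z) * g0⁻¹ * (z * z)⁻¹ * z * g0⁻¹ * z⁻¹ := by group
        _ = g0 * g0' * g0⁻¹ * (z * g0⁻¹ * z⁻¹) := by rw [hz, ← hg0']; group
        _ = _ := by rw [← h4]
    rw [h2]
    exact h1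
  have hk2 : (g0 * g0') * (k * k') * (g0 * g0')⁻¹ * (l * l')⁻¹ ∈ N := by
    have h1 : k * g0' * k⁻¹ * g0'⁻¹ ∈ N := hc1 k (hQ hk) g0' hg0'L
    have h2 : g0 * l' * g0⁻¹ * l'⁻¹ ∈ N := hc1 g0 hg0 l' hl'L
    have h3 : g0 * (k * g0' * k⁻¹ * g0'⁻¹)⁻¹ * g0⁻¹ ∈ N := hKN g0 hg0 _ (N.inv_mem h1)
    have h4 : l * (g0 * l' * g0⁻¹ * l'⁻¹) * l⁻¹ ∈ N := hKN l (hQ hl) _ h2
    have h5 := N.mul_mem h3 h4
    have h6 : g0 * (k * g0' * k⁻¹ * g0'⁻¹)⁻¹ * g0⁻¹ * (l * (g0 * l' * g0⁻¹ * l'⁻¹) * l⁻¹) =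
        (g0 * g0') * (k * k') * (g0 * g0')⁻¹ * (l * l')⁻¹ := by
      rw [← e1, ← hg0k]
      group
    rw [h6] at h5
    exact h5
  obtain ⟨n, hn, hn2⟩ := conj_mod_odd (N := N) (A := zpowers z ⊔ zpowers (l * l'))
    (B := cj (g0 * g0') (zpowers z ⊔ zpowers (k * k'))) hodd (hpair _ hlz (hpp l l' hl hl'Q))
    (sup_le (zpowers_le.2 hNz) (zpowers_le.2 (mul_mem (hNKL (mem_sup_left (hQ hl)))
      (hNKL (mem_sup_right hl'L))))) (isPGroup_cj (hpair _ hkz (hpp k k' hk hk'Q))) (by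
      rw [cj_def, Subgroup.map_sup, MonoidHom.map_zpowers, MonoidHom.map_zpowers]
      refine sup_le (zpowers_le.2 ?_) (zpowers_le.2 ?_)
      · change (g0 * g0') * z * (g0 * g0')⁻¹ ∈ _
        have h1 := mul_mem (mem_sup_right hz1 : _ ∈ (zpowers z ⊔ zpowers (l * l')) ⊔ N)
          (mem_sup_left (mem_sup_left (mem_zpowers z)))
        rwa [inv_mul_cancel_right] at h1
      · change (g0 * g0') * (k * k') * (g0 * g0')⁻¹ ∈ _
        have h1 := mul_mem (mem_sup_right hk2 : _ ∈ (zpowers z ⊔ zpowers (l * l')) ⊔ N)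
          (mem_sup_left (mem_sup_right (mem_zpowers (l * l'))))
        rwa [inv_mul_cancel_right] at h1)
  refine ⟨n * (g0 * g0'), mul_mem (hN' hn) (mul_mem (mem_sup_left hg0) (mem_sup_right hg0'L)), ?_, ?_⟩
  · have h1 := hn2 _ (conj_mem_cj (mem_sup_left (mem_zpowers z))) z (mem_sup_left (mem_zpowers z)) hz1
    calc n * (g0 * g0') * z = (n * ((g0 * g0') * z * (g0 * g0')⁻¹) * n⁻¹) * (n * (g0 * g0')) := by group
      _ = z * (n * (g0 * g0')) := by rw [h1]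
  · have h1 := hn2 _ (conj_mem_cj (mem_sup_right (mem_zpowers (k * k')))) (l * l')
      (mem_sup_right (mem_zpowers (l * l'))) hk2
    rw [← h1]
    group

end Cfsg.Agent.Cit.TwoFK
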