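import Cfsg.Agent.Cit.TwoFK.Princ
import Cfsg.Agent.Cit.OneChi

/-!
# CLAIM E

`t₁, t₂ ∈ Zs Om` interchange the members over `z` and lie in a 2-group `R ≤ C(z)`: then `psiK K n (t₁ t₂) = 1`.
-/

set_option autoImplicit false
set_option linter.style.haveILetI false
set_option linter.unusedSectionVars false
set_option linter.unusedVariables false

namespace Cfsg.Agent.Cit.TwoFK

open Subgroup Cfsg Cit OneBasic OneFieldHom OneFieldPsi

variable {G : Type*} [Group G] [Finite G] {Om : Set (Subgroup G)} {n : ℕ}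

/-- the facts used -/
structure Env (Om : Set (Subgroup G)) (n : ℕ) : Prop where
  b : TwoEq Om
  ho : Ord Om n
  hn : n ≠ 0
  hS : NSym Om
  hP : P1 Om n

/-- the frame -/
structure Cf (Om : Set (Subgroup G)) (n : ℕ) (K L R : Subgroup G) (x w : G) : Prop where
  env : Env Om n
  m : Mate Om K L
  hR : IsPGroup 2 R
  hRz : R ≤ centralizer {zz K}
  hQ : Syl (K ⊓ R) K
  g : GQ (K ⊓ R) x w (zz K) n

namespace Cf

variable {K L R : Subgroup G} {x w : G}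

theorem z_comm (c : Cf Om n K L R x w) {a : G} (ha : a ∈ R) : a * zz K = zz K * a :=
  mem_centralizer_singleton_iff.1 (c.hRz ha)

/-- conjugates of `Q` under a swap commute with `Q` -/
theorem comm_swap (c : Cf Om n K L R x w) {t u v : G} (htR : t ∈ R) (hts : cj t K = L) (hu : u ∈ K ⊓ R)
    (hv : v ∈ K ⊓ R) : u * (t * v * t⁻¹) = (t * v * t⁻¹) * u := by
  refine c.m.comm c.env.b.hyp c.hR hu.1 hu.2 ?_ (R.mul_mem (R.mul_mem htR hv.2) (R.inv_mem htR))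
  rw [← hts]
  exact conj_mem_cj hv.1

theorem x0_mem (c : Cf Om n K L R x w) : x ^ 2 ^ n ∈ K ⊓ R := (K ⊓ R).pow_mem c.g.c_mem _

theorem zpow_mem' (c : Cf Om n K L R x w) (i : ℤ) : x ^ i ∈ K ⊓ R := (K ⊓ R).zpow_mem c.g.c_mem _

theorem w_x0 (c : Cf Om n K L R x w) : w * x ^ 2 ^ n * w⁻¹ = x ^ 2 ^ n * zz K := by
  have h1 := c.g.conj_pow (2 ^ n)
  have h2 : (x ^ 2 ^ n)⁻¹ = x ^ 2 ^ n * zz K := by
    rw [inv_eq_iff_mul_eq_one, ← mul_assoc, c.g.w_sq, c.g.z_mul]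
  rw [h1, mul_inv_cancel_right, h2]

theorem w_x0_ne (c : Cf Om n K L R x w) : w * x ^ 2 ^ n ≠ x ^ 2 ^ n * w := by
  intro h
  have h1 := c.w_x0
  rw [h, mul_inv_cancel_right] at h1
  exact c.g.z_ne (mul_eq_left.1 h1.symm)

theorem x0_z (c : Cf Om n K L R x w) : x ^ 2 ^ n * zz K = zz K * x ^ 2 ^ n := c.z_comm c.x0_mem.2

/-- an element of `R` centralising `x0 x0^t` and `w`: impossible -/
theorem w_d_ne (c : Cf Om n K L R x w) {t : G} (htR : t ∈ R) (hts : cj t K = L) :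
    w * (x ^ 2 ^ n * (t * x ^ 2 ^ n * t⁻¹)) ≠ (x ^ 2 ^ n * (t * x ^ 2 ^ n * t⁻¹)) * w := by
  intro h
  have h1 := c.comm_swap htR hts c.g.v_mem c.x0_mem
  apply c.w_x0_ne
  have h2 : w * x ^ 2 ^ n * (t * x ^ 2 ^ n * t⁻¹) = x ^ 2 ^ n * w * (t * x ^ 2 ^ n * t⁻¹) := by
    calc w * x ^ 2 ^ n * (t * x ^ 2 ^ n * t⁻¹) = w * (x ^ 2 ^ n * (t * x ^ 2 ^ n * t⁻¹)) := by group
      _ = x ^ 2 ^ n * ((t * x ^ 2 ^ n * t⁻¹) * w) := by rw [h]; group
      _ = _ := by rw [← h1]; group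
  exact mul_right_cancel h2

/-- `d = e * e` with `e` commuting with `t` -/
theorem exists_root (c : Cf Om n K L R x w) {t : G} (ht : t ∈ Zs Om) (htR : t ∈ R) (hts : cj t K = L) :
    ∃ e ∈ R, e * t = t * e ∧ e * e = x ^ 2 ^ n * (t * x ^ 2 ^ n * t⁻¹) := by
  obtain ⟨m', rfl⟩ : ∃ m', n = m' + 1 := ⟨n - 1, by have := c.env.hn; omega⟩
  obtain ⟨v, hv⟩ : ∃ v, v = x ^ 2 ^ m' := ⟨_, rfl⟩
  have hvQ : v ∈ K ⊓ R := by rw [hv]; exact (K ⊓ R).pow_mem c.g.c_mem _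
  have hvv : v * v = x ^ 2 ^ (m' + 1) := by rw [hv, ← pow_add, ← two_mul, ← pow_succ']
  have h1 := c.comm_swap htR hts hvQ hvQ
  have htt := Zs_mul c.env.b.hyp ht
  refine ⟨v * (t * v * t⁻¹), R.mul_mem hvQ.2 (R.mul_mem (R.mul_mem htR hvQ.2) (R.inv_mem htR)), ?_, ?_⟩
  · have h2 : t * v * t⁻¹ * t = t * v := by group
    have h3 : t * (t * v * t⁻¹) = v * t := by
      rw [Zs_inv c.env.b.hyp ht]
      calc t * (t * v * t) = (t * t) * v * t := by group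
        _ = _ := by rw [htt, one_mul]
    calc v * (t * v * t⁻¹) * t = (v * t) * v := by rw [mul_assoc, h2]; group
      _ = t * (t * v * t⁻¹) * v := by rw [h3]
      _ = t * (v * (t * v * t⁻¹)) := by rw [h1]; group
  · rw [← hvv]
    calc v * (t * v * t⁻¹) * (v * (t * v * t⁻¹)) = v * ((t * v * t⁻¹) * v) * (t * v * t⁻¹) := by group
      _ = v * (v * (t * v * t⁻¹)) * (t * v * t⁻¹) := by rw [h1]
      _ = _ := by group

theorem d_mul (c : Cf Om n K L R x w) {t : G} (ht : t ∈ Zs Om) (htR : t ∈ R) (hts : cj t K = L) :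
    (x ^ 2 ^ n * (t * x ^ 2 ^ n * t⁻¹)) * (x ^ 2 ^ n * (t * x ^ 2 ^ n * t⁻¹)) = 1 := by
  have h1 := c.comm_swap htR hts c.x0_mem c.x0_mem
  calc (x ^ 2 ^ n * (t * x ^ 2 ^ n * t⁻¹)) * (x ^ 2 ^ n * (t * x ^ 2 ^ n * t⁻¹))
      = x ^ 2 ^ n * ((t * x ^ 2 ^ n * t⁻¹) * x ^ 2 ^ n) * (t * x ^ 2 ^ n * t⁻¹) := by group
    _ = x ^ 2 ^ n * (x ^ 2 ^ n * (t * x ^ 2 ^ n * t⁻¹)) * (t * x ^ 2 ^ n * t⁻¹) := by rw [h1]
    _ = (x ^ 2 ^ n * x ^ 2 ^ n) * (t * (x ^ 2 ^ n * x ^ 2 ^ n) * t⁻¹) := by group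
    _ = 1 := by rw [c.g.w_sq, c.z_comm htR, mul_inv_cancel_right, c.g.z_mul]

theorem d_t (c : Cf Om n K L R x w) {t : G} (ht : t ∈ Zs Om) (htR : t ∈ R) (hts : cj t K = L) :
    (x ^ 2 ^ n * (t * x ^ 2 ^ n * t⁻¹)) * t = t * (x ^ 2 ^ n * (t * x ^ 2 ^ n * t⁻¹)) := by
  obtain ⟨e, -, he, hee⟩ := c.exists_root ht htR hts
  rw [← hee, mul_assoc, he, ← mul_assoc, he, mul_assoc]

/-- `t^x0 = z d t` -/
theorem zs_eq (c : Cf Om n K L R x w) {t : G} (ht : t ∈ Zs Om) (htR : t ∈ R) (hts : cj t K = L) :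
    (x ^ 2 ^ n)⁻¹ * t * x ^ 2 ^ n = zz K * (x ^ 2 ^ n * (t * x ^ 2 ^ n * t⁻¹)) * t := by
  have h2 : (x ^ 2 ^ n)⁻¹ = zz K * x ^ 2 ^ n := by
    rw [← c.x0_z, inv_eq_iff_mul_eq_one, ← mul_assoc, c.g.w_sq, c.g.z_mul]
  rw [h2]; group

theorem d_mem (c : Cf Om n K L R x w) {t : G} (htR : t ∈ R) : x ^ 2 ^ n * (t * x ^ 2 ^ n * t⁻¹) ∈ R :=
  R.mul_mem c.x0_mem.2 (R.mul_mem (R.mul_mem htR c.x0_mem.2) (R.inv_mem htR))

/-- `d` normalises the members over `t` -/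
theorem d_norm (c : Cf Om n K L R x w) {J : Subgroup G} (hJ : J ∈ Om) (htR : zz J ∈ R) (hts : cj (zz J) K = L) :
    x ^ 2 ^ n * (zz J * x ^ 2 ^ n * (zz J)⁻¹) ∈ normalizer (J : Set G) := by
  obtain ⟨Jh, mJ, -⟩ := c.env.b.exists_mate hJ
  obtain ⟨e, -, he, hee⟩ := c.exists_root (zz_mem_Zs hJ) htR hts
  rw [← hee]
  exact c.env.b.sq_norm mJ he

/-- `d` normalises `K` -/
theorem d_normK (c : Cf Om n K L R x w) {t : G} (htR : t ∈ R) (hts : cj t K = L) :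
    x ^ 2 ^ n * (t * x ^ 2 ^ n * t⁻¹) ∈ normalizer (K : Set G) := by
  refine mul_mem (le_normalizer c.x0_mem.1) (c.m.symm.le_normalizer c.env.b.hyp ?_)
  rw [← hts]
  exact conj_mem_cj c.x0_mem.1

theorem psi_d (c : Cf Om n K L R x w) {t : G} (htR : t ∈ R) (hts : cj t K = L) :
    psiK K n (zz K * (x ^ 2 ^ n * (t * x ^ 2 ^ n * t⁻¹))) = 1 := by
  have b := c.env.b
  have hoK := c.env.ho K c.m.hK
  have h1 : t * x ^ 2 ^ n * t⁻¹ ∈ L := by rw [← hts]; exact conj_mem_cj c.x0_mem.1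
  have h2 : IsPGroup 2 (zpowers (t * x ^ 2 ^ n * t⁻¹)) :=
    isP_of_mem c.hR (R.mul_mem (R.mul_mem htR c.x0_mem.2) (R.inv_mem htR))
  have h3 : zz K * x ^ 2 ^ n ∈ K := K.mul_mem (b.hyp.zz_mem c.m.hK) c.x0_mem.1
  rw [← mul_assoc, psiK_mul hoK c.env.hn (le_normalizer h3) (c.m.symm.le_normalizer b.hyp h1),
    psiK_self hoK c.env.hn h3, psiK_mate b c.env.ho c.env.hn c.m.symm h1 h2, one_mul]

theorem zz_mem_R (c : Cf Om n K L R x w) : zz K ∈ R := by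
  have := (K ⊓ R).mul_mem c.x0_mem c.x0_mem
  rw [c.g.w_sq] at this
  exact this.2

/-- the element `z d t` of the class -/
theorem zdt_mem (c : Cf Om n K L R x w) {t : G} (ht : t ∈ Zs Om) (htR : t ∈ R) (hts : cj t K = L) :
    zz K * (x ^ 2 ^ n * (t * x ^ 2 ^ n * t⁻¹)) * t ∈ Zs Om := by
  rw [← c.zs_eq ht htR hts]
  exact Zs_cj' c.env.b.hyp ht _

/-- **Step 1**: commuting elements -/
theorem step1 (c : Cf Om n K L R x w) {t₁ t₂ : G} (h1 : t₁ ∈ Zs Om) (h2 : t₂ ∈ Zs Om) (h1R : t₁ ∈ R)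
    (h2R : t₂ ∈ R) (h1s : cj t₁ K = L) (h2s : cj t₂ K = L)
    (hx : t₁ * x ^ 2 ^ n * t₁⁻¹ = t₂ * x ^ 2 ^ n * t₂⁻¹) (hc : t₁ * t₂ = t₂ * t₁) :
    psiK K n (t₁ * t₂) = 1 := by
  have b := c.env.b
  have hS := c.env.hS
  have hn := c.env.hn
  have hoK := c.env.ho K c.m.hK
  have hP0 := P0_of_P1 hS c.env.hP b
  have hf := b.swap_mul c.m h1s h2s
  by_cases hne : t₂ = t₁
  · rw [hne, Zs_mul b.hyp h1, psiK_self hoK hn K.one_mem]
  have h1' := h1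
  have h2' := h2
  obtain ⟨J, hJ, rfl⟩ := h1
  obtain ⟨J2, hJ2, rfl⟩ := h2
  by_cases hN : zz J2 ∈ normalizer (J : Set G)
  · exact hP0 K c.m.hK _ (mul_mem_Zs b hJ h2' hne hN) hf
  · have hN2 : zz J ∉ normalizer (J2 : Set G) := fun h => hN (hS J2 hJ2 J hJ h)
    have hz2 : zz K ∉ normalizer (J2 : Set G) := zz_not_norm hS b c.m hJ2 h2s
    obtain ⟨J2h, mJ2, -⟩ := b.exists_mate hJ2
    have hs1 : cj (zz J) J2 = J2h := (b.norm_or mJ2 hc).resolve_left hN2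
    have hs2 : cj (zz K) J2 = J2h := (b.norm_or mJ2 (c.z_comm h2R).symm).resolve_left hz2
    obtain ⟨d, hd⟩ : ∃ d, d = x ^ 2 ^ n * (zz J * x ^ 2 ^ n * (zz J)⁻¹) := ⟨_, rfl⟩
    have hd2 : d = x ^ 2 ^ n * (zz J2 * x ^ 2 ^ n * (zz J2)⁻¹) := by rw [hd, hx]
    have hdJ : d ∈ normalizer (J2 : Set G) := by rw [hd2]; exact c.d_norm hJ2 h2R h2s
    have hzdt : zz K * d * zz J ∈ Zs Om := by rw [hd]; exact c.zdt_mem h1' h1R h1s
    have hdR : d ∈ R := by rw [hd]; exact c.d_mem h1R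
    have hdt : d * zz J = zz J * d := by rw [hd]; exact c.d_t h1' h1R h1s
    have hdt2 : d * zz J2 = zz J2 * d := by rw [hd2]; exact c.d_t h2' h2R h2s
    have hzd : zz K * d ∈ normalizer (K : Set G) :=
      mul_mem (le_normalizer (b.hyp.zz_mem c.m.hK)) (by rw [hd]; exact c.d_normK h1R h1s)
    have hpd : psiK K n (zz K * d) = 1 := by rw [hd]; exact c.psi_d h1R h1s
    have hnJ : zz K * d * zz J ∈ normalizer (J2 : Set G) := by
      rw [mul_assoc, hdt, ← mul_assoc]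
      exact mul_mem (b.swap_mul mJ2 hs2 hs1) hdJ
    by_cases he : zz K * d * zz J = zz J2
    · have h3 : zz J * zz J2 = zz K * d := by
        rw [← he]
        calc zz J * (zz K * d * zz J) = (zz J * zz K) * d * zz J := by group
          _ = zz K * (zz J * d) * zz J := by rw [c.z_comm h1R]; group
          _ = zz K * d * (zz J * zz J) := by rw [← hdt]; group
          _ = _ := by rw [b.hyp.zz_mul hJ, mul_one]
      rw [h3, hpd]
    · have h3 := mul_mem_Zs b hJ2 hzdt he hnJ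
      have h4 : zz J2 * (zz K * d * zz J) = (zz K * d) * (zz J * zz J2) := by
        calc zz J2 * (zz K * d * zz J) = (zz J2 * zz K) * d * zz J := by group
          _ = zz K * (zz J2 * d) * zz J := by rw [c.z_comm h2R]; group
          _ = zz K * d * (zz J2 * zz J) := by rw [← hdt2]; group
          _ = _ := by rw [hc]
      rw [h4] at h3
      have h5 := hP0 K c.m.hK _ h3 (mul_mem hzd hf)
      rw [psiK_mul hoK hn hzd hf, hpd, one_mul] at h5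
      exact h5

/-- **LEMMA C** -/
theorem lemC (c : Cf Om n K L R x w) {t i : G} (ht : t ∈ Zs Om) (htR : t ∈ R) (hts : cj t K = L) (hi : i ∈ R)
    (hii : i * i = 1) (hi1 : i ≠ 1) (hit : i * t = t * i) (hti : t * i ∈ Zs Om)
    (hc : ∀ u ∈ K ⊓ R, i * u = u * i) :
    zz K * (x ^ 2 ^ n * (t * x ^ 2 ^ n * t⁻¹)) * i ∈ Zs Om ∧
      zz K * (x ^ 2 ^ n * (t * x ^ 2 ^ n * t⁻¹)) * i ∈ normalizer (K : Set G) ∧
      zz K * (x ^ 2 ^ n * (t * x ^ 2 ^ n * t⁻¹)) * i ≠ zz K := by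
  have b := c.env.b
  have hS := c.env.hS
  have ht' := ht
  obtain ⟨J, hJ, rfl⟩ := ht
  obtain ⟨Jh, mJ, -⟩ := b.exists_mate hJ
  obtain ⟨d, hd⟩ : ∃ d, d = x ^ 2 ^ n * (zz J * x ^ 2 ^ n * (zz J)⁻¹) := ⟨_, rfl⟩
  have hzi : i * zz K = zz K * i := c.z_comm hi
  have hdt : d * zz J = zz J * d := by rw [hd]; exact c.d_t ht' htR hts
  have hdd : d * d = 1 := by rw [hd]; exact c.d_mul ht' htR hts
  have hdR : d ∈ R := by rw [hd]; exact c.d_mem htR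
  have hdz : d * zz K = zz K * d := c.z_comm hdR
  have hi0 : i * x ^ 2 ^ n = x ^ 2 ^ n * i := hc _ c.x0_mem
  have hid : i * d = d * i := by
    rw [hd]
    calc i * (x ^ 2 ^ n * (zz J * x ^ 2 ^ n * (zz J)⁻¹)) = (i * x ^ 2 ^ n) * (zz J * x ^ 2 ^ n * (zz J)⁻¹) := by group
      _ = x ^ 2 ^ n * (i * zz J) * x ^ 2 ^ n * (zz J)⁻¹ := by rw [hi0]; group
      _ = x ^ 2 ^ n * zz J * (i * x ^ 2 ^ n) * (zz J)⁻¹ := by rw [hit]; group
      _ = x ^ 2 ^ n * zz J * x ^ 2 ^ n * (i * (zz J)⁻¹) := by rw [hi0]; group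
      _ = x ^ 2 ^ n * zz J * x ^ 2 ^ n * ((zz J)⁻¹ * i) := by rw [b.hyp.zz_inv hJ, hit]
      _ = _ := by group
  have hdJ : d ∈ normalizer (J : Set G) := by rw [hd]; exact c.d_norm hJ htR hts
  have htJ : zz J ∈ normalizer (J : Set G) := le_normalizer (b.hyp.zz_mem hJ)
  have hzJ : zz K ∉ normalizer (J : Set G) := zz_not_norm hS b c.m hJ hts
  have hwd : w * d ≠ d * w := by rw [hd]; exact c.w_d_ne htR hts
  have hzt : zz J * zz K = zz K * zz J := c.z_comm htR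
  have htt := b.hyp.zz_mul hJ
  have hzz := b.hyp.zz_mul c.m.hK
  have hwz : w * zz K = zz K * w := c.z_comm c.g.v_mem.2
  have hiw : i * w = w * i := hc _ c.g.v_mem
  -- the conjugate under `x0`
  have hcj : zz K * d * zz J * i ∈ Zs Om := by
    have h1 := Zs_cj' b.hyp hti (x ^ 2 ^ n)
    have h2 : (x ^ 2 ^ n)⁻¹ * (zz J * i) * x ^ 2 ^ n = ((x ^ 2 ^ n)⁻¹ * zz J * x ^ 2 ^ n) * i := by
      calc (x ^ 2 ^ n)⁻¹ * (zz J * i) * x ^ 2 ^ n = (x ^ 2 ^ n)⁻¹ * zz J * (i * x ^ 2 ^ n) := by group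
        _ = _ := by rw [hi0]; group
    rw [h2, c.zs_eq ht' htR hts, ← hd] at h1
    exact h1
  have hiK : i ∈ normalizer (K : Set G) := by
    rcases b.norm_or c.m hzi with h1 | h1
    · exact h1
    · exfalso
      apply c.w_x0_ne
      have h2 : x ^ 2 ^ n ∈ L := by
        have h3 := conj_mem_cj (g := i) c.x0_mem.1
        rw [h1, hi0, mul_inv_cancel_right] at h3
        exact h3
      exact c.m.comm b.hyp c.hR c.g.v_mem.1 c.g.v_mem.2 h2 c.x0_mem.2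
  rw [← hd]
  refine ⟨?_, mul_mem (mul_mem (le_normalizer (b.hyp.zz_mem c.m.hK)) (by rw [hd]; exact c.d_normK htR hts)) hiK, ?_⟩
  · by_cases hiz : i = zz K
    · -- `i = z`
      rw [hiz] at hcj ⊢
      have h1 : zz K * d * zz J * zz K = zz J * d := by
        calc zz K * d * zz J * zz K = zz K * d * (zz J * zz K) := by group
          _ = zz K * (d * zz K) * zz J := by rw [hzt]; group
          _ = (zz K * zz K) * (d * zz J) := by rw [hdz]; group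
          _ = zz J * d := by rw [hzz, hdt, one_mul]
      have h2 : zz K * d * zz K = zz J * (zz J * d) := by
        calc zz K * d * zz K = zz K * (d * zz K) := by group
          _ = (zz K * zz K) * d := by rw [hdz]; group
          _ = (zz J * zz J) * d := by rw [hzz, htt]
          _ = _ := by group
      rw [h1] at hcj
      rw [h2]
      refine mul_mem_Zs b hJ hcj ?_ (mul_mem htJ hdJ)
      intro h3
      apply hwd
      rw [mul_eq_left.1 h3]; group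
    · have hiJ : i ∉ normalizer (J : Set G) := by
        intro h1
        apply hiz
        have h2 : zz J * i ≠ zz J := fun h3 => hi1 (mul_eq_left.1 h3)
        have h3 := mul_mem_Zs b hJ hti h2 (mul_mem htJ h1)
        rw [← mul_assoc, htt, one_mul] at h3
        exact b.eq_of_cent c.m.hK h3 c.hQ hc
      have hs1 : cj i J = Jh := (b.norm_or mJ hit).resolve_left hiJ
      have hs2 : cj (zz K) J = Jh := (b.norm_or mJ hzt.symm).resolve_left hzJ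
      have h1 : zz K * d * zz J * i = (zz K * i) * (d * zz J) := by
        calc zz K * d * zz J * i = zz K * d * (i * zz J) := by rw [hit]; group
          _ = zz K * (d * i) * zz J := by group
          _ = _ := by rw [← hid]; group
      have h2 : zz K * d * i = zz J * (zz K * d * zz J * i) := by
        calc zz K * d * i = (zz J * zz J) * (zz K * d * i) := by rw [htt, one_mul]
          _ = zz J * (zz J * zz K) * d * i := by group
          _ = zz J * (zz K * zz J) * d * i := by rw [hzt]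
          _ = zz J * zz K * (zz J * d) * i := by group
          _ = zz J * zz K * (d * zz J) * i := by rw [hdt]
          _ = zz J * (zz K * d * zz J * i) := by group
      rw [h2]
      refine mul_mem_Zs b hJ hcj ?_ ?_
      · intro h3
        apply hwd
        have h4 : zz K * d * i = 1 := by rw [h2, h3, htt]
        have h5 : d = zz K * i := by
          calc d = (zz K * zz K) * d * (i * i) := by rw [hzz, hii]; group
            _ = zz K * (zz K * d * i) * i := by group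
            _ = zz K * i := by rw [h4, mul_one]
        rw [h5]
        calc w * (zz K * i) = (w * zz K) * i := by group
          _ = zz K * (w * i) := by rw [hwz]; group
          _ = _ := by rw [← hiw]; group
      · rw [h1]
        exact mul_mem (b.swap_mul mJ hs2 hs1) (mul_mem hdJ htJ)
  · intro h1
    apply hwd
    have h2 : d * i = 1 := by
      have h3 : zz K * (d * i) = zz K := by rw [← mul_assoc]; exact h1
      exact mul_eq_left.1 h3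
    have h5 : d = i := by
      calc d = d * (i * i) := by rw [hii, mul_one]
        _ = (d * i) * i := by group
        _ = i := by rw [h2, one_mul]
    rw [h5]; exact hiw.symm

/-- LEMMA C with PRINCIPLE V -/
theorem lemC' (c : Cf Om n K L R x w) {t₁ t₂ i : G} (h1 : t₁ ∈ Zs Om) (h2 : t₂ ∈ Zs Om) (h1R : t₁ ∈ R)
    (h2R : t₂ ∈ R) (h1s : cj t₁ K = L) (h2s : cj t₂ K = L)
    (hx : t₁ * x ^ 2 ^ n * t₁⁻¹ = t₂ * x ^ 2 ^ n * t₂⁻¹) (hi : i ∈ R)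
    (hii : i * i = 1) (hi1 : i ≠ 1) (hit : i * t₁ = t₁ * i) (hit2 : i * t₂ = t₂ * i)
    (hti : t₁ * i ∈ Zs Om ∨ t₂ * i ∈ Zs Om)
    (hc : ∀ u ∈ K ⊓ R, i * u = u * i) : psiK K n (t₁ * t₂) = 1 := by
  have b := c.env.b
  obtain ⟨d, hd⟩ : ∃ d, d = x ^ 2 ^ n * (t₁ * x ^ 2 ^ n * t₁⁻¹) := ⟨_, rfl⟩
  have hd2 : d = x ^ 2 ^ n * (t₂ * x ^ 2 ^ n * t₂⁻¹) := by rw [hd, hx]
  have key : zz K * d * i ∈ Zs Om ∧ zz K * d * i ∈ normalizer (K : Set G) ∧ zz K * d * i ≠ zz K := by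
    rcases hti with h | h
    · rw [hd]; exact c.lemC h1 h1R h1s hi hii hi1 hit h hc
    · rw [hd2]; exact c.lemC h2 h2R h2s hi hii hi1 hit2 h hc
  have hdt : d * t₁ = t₁ * d := by rw [hd]; exact c.d_t h1 h1R h1s
  have hdt2 : d * t₂ = t₂ * d := by rw [hd2]; exact c.d_t h2 h2R h2s
  have hcm : ∀ t ∈ R, d * t = t * d → i * t = t * i → (zz K * d * i) * t = t * (zz K * d * i) := by
    intro t ht h3 h4
    calc zz K * d * i * t = zz K * d * (i * t) := by group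
      _ = zz K * (d * t) * i := by rw [h4]; group
      _ = (zz K * t) * d * i := by rw [h3]; group
      _ = _ := by rw [← c.z_comm ht]; group
  exact principle b c.env.ho c.env.hn c.env.hS c.env.hP c.m h1 h2 h1s h2s key.1 key.2.1 key.2.2
    (hcm _ h1R hdt hit) (hcm _ h2R hdt2 hit2)

/-- an element with trivial field part centralising `x0` centralises `x` -/
theorem of_psi (c : Cf Om n K L R x w) {a : G} (haK : a ∈ normalizer (K : Set G)) {r : ℤ}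
    (hax : a * x * a⁻¹ = x ^ r) (ha0 : a * x ^ 2 ^ n = x ^ 2 ^ n * a) (h : psiK K n a = 1) : a * x = x * a := by
  have hoK := c.env.ho K c.m.hK
  have hc1 : x ^ 2 ^ (n + 2) = 1 := pow_eq_one c.g.ord
  obtain ⟨u, hu⟩ := exists_unit c.g.ord (d := a * x * a⁻¹) (by rw [orderOf_conj]; exact c.g.ord)
    (by rw [hax]; exact ⟨r, rfl⟩)
  have hR : OneFieldHom.R K n a u := R_of_one hoK c.env.hn haK c.g.c_mem.1 c.g.ord K.one_mem (by rw [hu]; group)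
  rw [psiK_eq hoK c.env.hn hR, q_eq_one] at h
  rcases h with h | h
  · rw [h, Units.val_one, cp_one hc1, mul_inv_eq_iff_eq_mul] at hu
    exact hu
  · exfalso
    rw [h, Units.val_neg, Units.val_one, cp_neg_one hc1] at hu
    have h1 : a * x ^ 2 ^ n * a⁻¹ = (x ^ 2 ^ n)⁻¹ := by
      rw [← conj_pow, hu, inv_pow]
    rw [ha0, mul_inv_cancel_right] at h1
    have h2 : x ^ 2 ^ n * x ^ 2 ^ n = 1 := eq_inv_iff_mul_eq_one.1 h1
    rw [c.g.w_sq] at h2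
    exact c.g.z_ne h2

/-- an element of `C(x)` has trivial field part -/
theorem psi_of_comm (c : Cf Om n K L R x w) {a : G} (haK : a ∈ normalizer (K : Set G))
    (hax : a * x = x * a) : psiK K n a = 1 := by
  have hoK := c.env.ho K c.m.hK
  have hc1 : x ^ 2 ^ (n + 2) = 1 := pow_eq_one c.g.ord
  have hR : OneFieldHom.R K n a 1 := R_of_one hoK c.env.hn haK c.g.c_mem.1 c.g.ord K.one_mem (by
    rw [hax, Units.val_one, cp_one hc1]; group)
  rw [psiK_eq hoK c.env.hn hR, map_one]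

/-- the involution of a cyclic group inverted by `t` -/
theorem exists_inv {t f : G} (htt : t * t = 1) (hf : IsPGroup 2 (zpowers f)) (hf1 : f ≠ 1)
    (hinv : t * f * t⁻¹ = f⁻¹) : ∃ k : ℕ, f ^ k * f ^ k = 1 ∧ f ^ k ≠ 1 ∧ f ^ k * t = t * f ^ k ∧
      (f * f ≠ 1 → ∃ j, k = 2 * j) ∧ (k = 1 ∨ ∃ j, k = 2 * j) := by
  obtain ⟨s, hs⟩ := isP_iff.1 hf
  obtain ⟨j, hj, hj2⟩ := (Nat.dvd_prime_pow Nat.prime_two).1 (orderOf_dvd_of_pow_eq_one hs)
  have hj0 : j ≠ 0 := by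
    rintro rfl
    rw [pow_zero, orderOf_eq_one_iff] at hj2
    exact hf1 hj2
  obtain ⟨i, rfl⟩ := Nat.exists_eq_succ_of_ne_zero hj0
  have h1 : f ^ 2 ^ i * f ^ 2 ^ i = 1 := by
    rw [← pow_add, ← two_mul, ← pow_succ', ← Nat.succ_eq_add_one, ← hj2, pow_orderOf_eq_one]
  have h2 : f ^ 2 ^ i ≠ 1 := by
    intro h
    have h3 := orderOf_dvd_of_pow_eq_one h
    rw [hj2] at h3
    have h4 := (Nat.pow_dvd_pow_iff_le_right (by norm_num : 1 < 2)).1 h3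
    omega
  refine ⟨2 ^ i, h1, h2, ?_, ?_, ?_⟩
  · have h3 : t * f ^ 2 ^ i * t⁻¹ = f ^ 2 ^ i := by
      rw [← conj_pow, hinv, inv_pow]
      exact inv_eq_of_mul_eq_one_right h1
    rw [mul_inv_eq_iff_eq_mul] at h3
    exact h3.symm
  · intro h3
    rcases Nat.eq_zero_or_pos i with rfl | hi
    · exfalso; apply h3
      simpa using h1
    · obtain ⟨i', rfl⟩ : ∃ i', i = i' + 1 := ⟨i - 1, by omega⟩
      exact ⟨2 ^ i', by rw [pow_succ']⟩
  · rcases Nat.eq_zero_or_pos i with rfl | hi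
    · left; rfl
    · right
      obtain ⟨i', rfl⟩ : ∃ i', i = i' + 1 := ⟨i - 1, by omega⟩
      exact ⟨2 ^ i', by rw [pow_succ']⟩

/-- `t f^(2j)` is conjugate to `t` if `t` inverts `f` -/
theorem conj_even {t f : G} (hinv : t * f * t⁻¹ = f⁻¹) (j : ℕ) :
    (f ^ j)⁻¹ * t * f ^ j = t * f ^ (2 * j) := by
  have h1 : t * f ^ j * t⁻¹ = (f ^ j)⁻¹ := by rw [← conj_pow, hinv, inv_pow]
  rw [← h1, two_mul, pow_add]
  group

/-- **Step 3'**: `f = t₁ t₂` commutes with `w` -/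
theorem step3' (c : Cf Om n K L R x w) {t₁ t₂ : G} (h1 : t₁ ∈ Zs Om) (h2 : t₂ ∈ Zs Om) (h1R : t₁ ∈ R)
    (h2R : t₂ ∈ R) (h1s : cj t₁ K = L) (h2s : cj t₂ K = L)
    (hx : t₁ * x ^ 2 ^ n * t₁⁻¹ = t₂ * x ^ 2 ^ n * t₂⁻¹) {r : ℤ}
    (hfx : (t₁ * t₂) * x * (t₁ * t₂)⁻¹ = x ^ r) (hfw : (t₁ * t₂) * w = w * (t₁ * t₂)) :
    psiK K n (t₁ * t₂) = 1 := by
  have b := c.env.b
  have ht1 := Zs_mul b.hyp h1
  have ht2 := Zs_mul b.hyp h2
  have hi1 := Zs_inv b.hyp h1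
  have hi2 := Zs_inv b.hyp h2
  obtain ⟨f, hf⟩ : ∃ f, f = t₁ * t₂ := ⟨_, rfl⟩
  have hfR : f ∈ R := by rw [hf]; exact R.mul_mem h1R h2R
  have hfi : f⁻¹ = t₂ * t₁ := by rw [hf, mul_inv_rev, hi1, hi2]
  have hinv1 : t₁ * f * t₁⁻¹ = f⁻¹ := by
    rw [hfi, hf, hi1]
    calc t₁ * (t₁ * t₂) * t₁ = (t₁ * t₁) * t₂ * t₁ := by group
      _ = _ := by rw [ht1, one_mul]
  have hf0 : f * x ^ 2 ^ n = x ^ 2 ^ n * f := by
    rw [← mul_inv_eq_iff_eq_mul, hf]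
    calc t₁ * t₂ * x ^ 2 ^ n * (t₁ * t₂)⁻¹ = t₁ * (t₂ * x ^ 2 ^ n * t₂⁻¹) * t₁⁻¹ := by group
      _ = (t₁ * t₁) * x ^ 2 ^ n * (t₁ * t₁)⁻¹ := by rw [← hx]; group
      _ = _ := by rw [ht1]; group
  have hfK : f ∈ normalizer (K : Set G) := by rw [hf]; exact b.swap_mul c.m h1s h2s
  by_cases hff : f * f = 1
  · refine c.step1 h1 h2 h1R h2R h1s h2s hx ?_
    have h3 : f = f⁻¹ := eq_inv_of_mul_eq_one_left hff
    rw [hfi, hf] at h3
    exact h3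
  · have hf1 : f ≠ 1 := by rintro rfl; exact hff (by group)
    obtain ⟨k, hk1, hk2, hk3, hk4, -⟩ := exists_inv ht1 (isP_of_mem c.hR hfR) hf1 hinv1
    obtain ⟨j, rfl⟩ := hk4 hff
    have hkR : f ^ (2 * j) ∈ R := R.pow_mem hfR _
    have hkK : f ^ (2 * j) ∈ normalizer (K : Set G) := pow_mem hfK _
    have hti : t₁ * f ^ (2 * j) ∈ Zs Om := by
      rw [← conj_even hinv1 j]
      exact Zs_cj' b.hyp h1 _
    have hk0 : f ^ (2 * j) * x ^ 2 ^ n = x ^ 2 ^ n * f ^ (2 * j) :=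
      ((show Commute f (x ^ 2 ^ n) from hf0).pow_left _).eq
    have hkw : f ^ (2 * j) * w = w * f ^ (2 * j) := by
      have : Commute f w := by rw [hf]; exact hfw
      exact (this.pow_left _).eq
    have hkt2 : f ^ (2 * j) * t₂ = t₂ * f ^ (2 * j) := by
      have h3 : t₂ = t₁ * f := by rw [hf, ← mul_assoc, ht1, one_mul]
      rw [h3]
      calc f ^ (2 * j) * (t₁ * f) = (f ^ (2 * j) * t₁) * f := by group
        _ = t₁ * (f ^ (2 * j) * f) := by rw [hk3]; group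
        _ = t₁ * (f * f ^ (2 * j)) := by rw [← pow_succ, ← pow_succ']
        _ = _ := by group
    -- the field part of the involution
    have hpsi : psiK K n (f ^ (2 * j)) = 1 := by
      have h3 := c.step1 h1 hti h1R (R.mul_mem h1R hkR) h1s (b.swap_norm c.m h1s hkK) (by
        calc t₁ * x ^ 2 ^ n * t₁⁻¹ = t₁ * (x ^ 2 ^ n * f ^ (2 * j)) * (f ^ (2 * j))⁻¹ * t₁⁻¹ := by group
          _ = _ := by rw [← hk0]; group) (by
        calc t₁ * (t₁ * f ^ (2 * j)) = t₁ * (f ^ (2 * j) * t₁) := by rw [hk3]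
          _ = _ := by group)
      rw [← mul_assoc, ht1, one_mul] at h3
      exact h3
    have hkx : f ^ (2 * j) * x = x * f ^ (2 * j) := by
      have h4 : ∃ r' : ℤ, f ^ (2 * j) * x * (f ^ (2 * j))⁻¹ = x ^ r' := by
        have hnorm : f ^ (2 * j) ∈ normalizer ((K ⊓ R : Subgroup G) : Set G) := by
          rw [mem_normalizer_iff_cj, cj_inf, mem_normalizer_iff_cj.1 hkK,
            mem_normalizer_iff_cj.1 (le_normalizer hkR)]
        exact conj_c c.g c.env.hn hnorm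
      obtain ⟨r', hr'⟩ := h4
      exact c.of_psi hkK hr' hk0 hpsi
    have hcent : ∀ u ∈ K ⊓ R, f ^ (2 * j) * u = u * f ^ (2 * j) := OneChi.cent_of c.g hkx hkw
    exact c.lemC' h1 h2 h1R h2R h1s h2s hx hkR hk1 hk2 hk3 hkt2 (Or.inl hti) hcent

/-- **Step 3**: `f = t₁ t₂` maps `w` to `w x^(2k)` -/
theorem step3 (c : Cf Om n K L R x w) {t₁ t₂ : G} (h1 : t₁ ∈ Zs Om) (h2 : t₂ ∈ Zs Om) (h1R : t₁ ∈ R)
    (h2R : t₂ ∈ R) (h1s : cj t₁ K = L) (h2s : cj t₂ K = L)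
    (hx : t₁ * x ^ 2 ^ n * t₁⁻¹ = t₂ * x ^ 2 ^ n * t₂⁻¹) {r k : ℤ} (hr : Odd r)
    (hfx : (t₁ * t₂) * x * (t₁ * t₂)⁻¹ = x ^ r) (hfw : (t₁ * t₂) * w * (t₁ * t₂)⁻¹ = w * x ^ (2 * k)) :
    psiK K n (t₁ * t₂) = 1 := by
  have b := c.env.b
  -- choose `l` with `k + l r` divisible by `2^(n+1)`
  obtain ⟨l, hl⟩ : ∃ l : ℤ, (2 : ℤ) ^ (n + 1) ∣ k + l * r := by
    have h3 : IsCoprime r ((2 : ℤ) ^ (n + 1)) := by
      apply IsCoprime.pow_right
      obtain ⟨a, ha⟩ := hr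
      exact ⟨1, -a, by rw [ha]; ring⟩
    obtain ⟨u, v, huv⟩ := h3
    refine ⟨-k * u, k * v, ?_⟩
    have : k + -k * u * r = k * (1 - u * r) := by ring
    rw [this, ← huv]; ring
  have hq := c.zpow_mem' l
  have h2' : x ^ l * t₂ * (x ^ l)⁻¹ ∈ Zs Om := Zs_cj b.hyp h2 _
  have h2R' : x ^ l * t₂ * (x ^ l)⁻¹ ∈ R := R.mul_mem (R.mul_mem hq.2 h2R) (R.inv_mem hq.2)
  rw [← psi_repl b c.env.ho c.env.hn c.m h1s h2s hq.1 (isP_of_mem c.hR hq.2)]
  -- the action of `t₁ (t₂^(x^l))` on `Q`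
  have hact : ∀ u ∈ K ⊓ R, (t₁ * (x ^ l * t₂ * (x ^ l)⁻¹)) * u * (t₁ * (x ^ l * t₂ * (x ^ l)⁻¹))⁻¹ =
      (t₁ * t₂) * ((x ^ l)⁻¹ * u * x ^ l) * (t₁ * t₂)⁻¹ := by
    intro u hu
    have h3 : t₁ * (x ^ l * t₂ * (x ^ l)⁻¹) = (t₁ * x ^ l * t₁⁻¹) * ((t₁ * t₂) * (x ^ l)⁻¹) := by group
    have hnorm : t₁ * t₂ ∈ normalizer ((K ⊓ R : Subgroup G) : Set G) := by
      rw [mem_normalizer_iff_cj, cj_inf, mem_normalizer_iff_cj.1 (b.swap_mul c.m h1s h2s),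
        mem_normalizer_iff_cj.1 (le_normalizer (R.mul_mem h1R h2R))]
    have h4 : (t₁ * t₂) * ((x ^ l)⁻¹ * u * x ^ l) * (t₁ * t₂)⁻¹ ∈ K ⊓ R :=
      conj_mem_of hnorm ((K ⊓ R).mul_mem ((K ⊓ R).mul_mem ((K ⊓ R).inv_mem hq) hu) hq)
    have h5 := c.comm_swap h1R h1s h4 hq
    rw [h3]
    calc (t₁ * x ^ l * t₁⁻¹) * ((t₁ * t₂) * (x ^ l)⁻¹) * u * ((t₁ * x ^ l * t₁⁻¹) * ((t₁ * t₂) * (x ^ l)⁻¹))⁻¹
        = (t₁ * x ^ l * t₁⁻¹) * ((t₁ * t₂) * ((x ^ l)⁻¹ * u * x ^ l) * (t₁ * t₂)⁻¹) * (t₁ * x ^ l * t₁⁻¹)⁻¹ := by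
          group
      _ = _ := by rw [← h5, mul_inv_cancel_right]
  refine c.step3' h1 h2' h1R h2R' h1s (swap_conj b c.m h2s hq.1) ?_ (r := r) ?_ ?_
  · have h3 := c.comm_swap h2R h2s hq c.x0_mem
    have h4 : (x ^ l)⁻¹ * x ^ 2 ^ n * x ^ l = x ^ 2 ^ n := by
      have h5 : Commute (x ^ 2 ^ n) (x ^ l) := ((Commute.refl x).pow_left _).zpow_right _
      rw [mul_assoc, h5.eq, inv_mul_cancel_left]
    calc t₁ * x ^ 2 ^ n * t₁⁻¹ = t₂ * x ^ 2 ^ n * t₂⁻¹ := hx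
      _ = (x ^ l * (t₂ * x ^ 2 ^ n * t₂⁻¹)) * (x ^ l)⁻¹ := by rw [h3, mul_inv_cancel_right]
      _ = x ^ l * t₂ * ((x ^ l)⁻¹ * x ^ 2 ^ n * x ^ l) * t₂⁻¹ * (x ^ l)⁻¹ := by rw [h4]; group
      _ = _ := by group
  · rw [hact x c.g.c_mem]
    have h3 : (x ^ l)⁻¹ * x * x ^ l = x := by group
    rw [h3, hfx]
  · rw [← mul_inv_eq_iff_eq_mul, hact w c.g.v_mem]
    have h3 : (x ^ l)⁻¹ * w * x ^ l = w * x ^ (2 * l) := by
      have h4 := c.g.conj_zpow_v (-l)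
      rw [zpow_neg, inv_inv] at h4
      rw [h4]
      congr 2; ring
    have h4 : (t₁ * t₂) * x ^ (2 * l) * (t₁ * t₂)⁻¹ = x ^ (r * (2 * l)) := conj_zpow_pow hfx _
    rw [h3]
    calc (t₁ * t₂) * (w * x ^ (2 * l)) * (t₁ * t₂)⁻¹
        = ((t₁ * t₂) * w * (t₁ * t₂)⁻¹) * ((t₁ * t₂) * x ^ (2 * l) * (t₁ * t₂)⁻¹) := by group
      _ = w * (x ^ (2 * k) * x ^ (r * (2 * l))) := by rw [hfw, h4]; group
      _ = w := by
        have h5 : x ^ (2 * k) * x ^ (r * (2 * l)) = 1 := by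
          rw [← zpow_add, c.g.zpow_eq_one_iff]
          obtain ⟨a, ha⟩ := hl
          refine ⟨a, ?_⟩
          have : 2 * k + r * (2 * l) = 2 * (k + l * r) := by ring
          rw [this, ha, pow_succ (2 : ℤ) (n + 1)]; ring
        rw [h5, mul_one]

/-- `x0` is centralised: the exponent of the action is `1` modulo `4` -/
theorem mod_four (c : Cf Om n K L R x w) {a : G} {r : ℤ} (hax : a * x * a⁻¹ = x ^ r)
    (ha0 : a * x ^ 2 ^ n = x ^ 2 ^ n * a) : (4 : ℤ) ∣ r - 1 := by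
  have h1 : a * x ^ ((2 ^ n : ℕ) : ℤ) * a⁻¹ = x ^ (r * ((2 ^ n : ℕ) : ℤ)) := conj_zpow_pow hax _
  rw [zpow_natCast, ha0, mul_inv_cancel_right, ← zpow_natCast x (2 ^ n)] at h1
  have h2 : x ^ (r * ((2 ^ n : ℕ) : ℤ) - ((2 ^ n : ℕ) : ℤ)) = 1 := by
    rw [zpow_sub, ← h1, mul_inv_cancel]
  rw [c.g.zpow_eq_one_iff] at h2
  have h3 : r * ((2 ^ n : ℕ) : ℤ) - ((2 ^ n : ℕ) : ℤ) = 2 ^ n * (r - 1) := by push_cast; ring
  rw [h3, pow_add, mul_dvd_mul_iff_left (by positivity)] at h2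
  norm_num at h2
  exact h2

/-- **Step 4**: `x0^t₁ = x0^t₂` -/
theorem step4 (c : Cf Om n K L R x w) {t₁ t₂ : G} (h1 : t₁ ∈ Zs Om) (h2 : t₂ ∈ Zs Om) (h1R : t₁ ∈ R)
    (h2R : t₂ ∈ R) (h1s : cj t₁ K = L) (h2s : cj t₂ K = L)
    (hx : t₁ * x ^ 2 ^ n * t₁⁻¹ = t₂ * x ^ 2 ^ n * t₂⁻¹) : psiK K n (t₁ * t₂) = 1 := by
  have b := c.env.b
  have hn := c.env.hn
  have ht1 := Zs_mul b.hyp h1
  have ht2 := Zs_mul b.hyp h2
  have hi1 := Zs_inv b.hyp h1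
  have hi2 := Zs_inv b.hyp h2
  obtain ⟨f, hf⟩ : ∃ f, f = t₁ * t₂ := ⟨_, rfl⟩
  have hfR : f ∈ R := by rw [hf]; exact R.mul_mem h1R h2R
  have hfi : f⁻¹ = t₂ * t₁ := by rw [hf, mul_inv_rev, hi1, hi2]
  have hfK : f ∈ normalizer (K : Set G) := by rw [hf]; exact b.swap_mul c.m h1s h2s
  have hfQ : f ∈ normalizer ((K ⊓ R : Subgroup G) : Set G) := by
    rw [mem_normalizer_iff_cj, cj_inf, mem_normalizer_iff_cj.1 hfK, mem_normalizer_iff_cj.1 (le_normalizer hfR)]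
  have hf0 : f * x ^ 2 ^ n = x ^ 2 ^ n * f := by
    rw [← mul_inv_eq_iff_eq_mul, hf]
    calc t₁ * t₂ * x ^ 2 ^ n * (t₁ * t₂)⁻¹ = t₁ * (t₂ * x ^ 2 ^ n * t₂⁻¹) * t₁⁻¹ := by group
      _ = (t₁ * t₁) * x ^ 2 ^ n * (t₁ * t₁)⁻¹ := by rw [← hx]; group
      _ = _ := by rw [ht1]; group
  obtain ⟨r, hr⟩ := conj_c c.g hn hfQ
  have hr4 := c.mod_four hr hf0
  have hro : Odd r := by
    obtain ⟨a, ha⟩ := hr4
    exact ⟨2 * a, by omega⟩
  obtain ⟨k, hk⟩ : ∃ k : ℤ, f * w * f⁻¹ = w * x ^ k := by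
    refine c.g.exists_act hfQ ?_
    obtain ⟨j, hj⟩ := conj_c c.g hn (inv_mem hfQ)
    rw [inv_inv] at hj
    exact ⟨j, hj.symm⟩
  rcases Int.even_or_odd k with ⟨k', hk'⟩ | hko
  · -- `k` even
    refine c.step3 h1 h2 h1R h2R h1s h2s hx hro (by rw [← hf]; exact hr) (k := k') ?_
    rw [← hf, hk, hk', two_mul]
  -- `k` odd: first `f * f`
  have hff2 : t₁ * (t₂ * t₁ * t₂) = f * f := by rw [hf]; group
  have h2' : t₂ * t₁ * t₂ ∈ Zs Om := by
    have := Zs_cj b.hyp h1 t₂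
    rwa [hi2] at this
  have h2R' : t₂ * t₁ * t₂ ∈ R := R.mul_mem (R.mul_mem h2R h1R) h2R
  have h2s' : cj (t₂ * t₁ * t₂) K = L := by
    rw [mul_assoc]
    exact b.swap_norm c.m h2s (b.swap_mul c.m h1s h2s)
  have hff0 : (f * f) * x ^ 2 ^ n = x ^ 2 ^ n * (f * f) := by
    rw [mul_assoc, hf0, ← mul_assoc, hf0, mul_assoc]
  have hffx : (f * f) * x * (f * f)⁻¹ = x ^ (r * r) := by
    calc (f * f) * x * (f * f)⁻¹ = f * (f * x * f⁻¹) * f⁻¹ := by group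
      _ = x ^ (r * r) := by rw [hr, conj_zpow_pow hr]
  have hfxk : ∀ i : ℤ, f * x ^ i * f⁻¹ = x ^ (r * i) := fun i => conj_zpow_pow hr i
  have hffw : (f * f) * w * (f * f)⁻¹ = w * x ^ (k + r * k) := by
    calc (f * f) * w * (f * f)⁻¹ = f * (f * w * f⁻¹) * f⁻¹ := by group
      _ = f * (w * x ^ k) * f⁻¹ := by rw [hk]
      _ = (f * w * f⁻¹) * (f * x ^ k * f⁻¹) := by group
      _ = w * x ^ (k + r * k) := by rw [hk, hfxk, mul_assoc, ← zpow_add]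
  have hpff : psiK K n (f * f) = 1 := by
    rw [← hff2]
    have hrr0 := hro.mul hro
    obtain ⟨a, ha⟩ := hro
    refine c.step3 h1 h2' h1R h2R' h1s h2s' ?_ hrr0 (k := k * (a + 1)) ?_ ?_
    · have h3 : (f * f) * x ^ 2 ^ n * (f * f)⁻¹ = x ^ 2 ^ n := by rw [hff0, mul_inv_cancel_right]
      have h4 : t₂ * t₁ * t₂ = t₁ * (f * f) := by
        rw [← hff2, ← mul_assoc, ht1, one_mul]
      rw [h4]
      calc t₁ * x ^ 2 ^ n * t₁⁻¹ = t₁ * ((f * f) * x ^ 2 ^ n * (f * f)⁻¹) * t₁⁻¹ := by rw [h3]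
        _ = _ := by group
    · rw [hff2]; exact hffx
    · rw [hff2, hffw]
      congr 2
      rw [ha]; ring
  have hffc : (f * f) * x = x * (f * f) := c.of_psi (mul_mem hfK hfK) hffx hff0 hpff
  -- the exponent
  have hrr : (2 : ℤ) ^ (n + 2) ∣ r ^ 2 - 1 := by
    rw [← c.g.zpow_eq_one_iff, zpow_sub, zpow_one, mul_inv_eq_one, pow_two, ← hffx, hffc, mul_inv_cancel_right]
  have hr1 : (2 : ℤ) ^ (n + 1) ∣ r - 1 := by
    rcases arith_three hrr with h3 | h3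
    · exact h3
    · exfalso
      have h4 : (4 : ℤ) ∣ r + 1 := by
        refine dvd_trans ?_ h3
        have : (4 : ℤ) = 2 ^ 2 := by norm_num
        rw [this]
        exact pow_dvd_pow 2 (by omega)
      omega
  obtain ⟨a, ha⟩ := hr1
  rcases Int.even_or_odd a with ⟨a', ha'⟩ | hao
  · -- `f` centralises `x`
    have h3 : x ^ r = x := by
      have h4 : x ^ (r - 1) = 1 := by
        rw [c.g.zpow_eq_one_iff]
        exact ⟨a', by rw [ha, ha', pow_succ (2 : ℤ) (n + 1)]; ring⟩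
      rwa [zpow_sub, zpow_one, mul_inv_eq_one] at h4
    rw [h3, mul_inv_eq_iff_eq_mul] at hr
    rw [← hf]
    exact c.psi_of_comm hfK hr
  -- `f x f⁻¹ = x z`
  have hzodd : ∀ i : ℤ, Odd i → x ^ ((2 : ℤ) ^ (n + 1) * i) = zz K := by
    intro i hi
    obtain ⟨j, hj⟩ := hi
    have h3 : (2 : ℤ) ^ (n + 1) * i = 2 ^ (n + 2) * j + 2 ^ (n + 1) := by
      rw [hj, pow_succ (2 : ℤ) (n + 1)]; ring
    have h4 : x ^ ((2 : ℤ) ^ (n + 2) * j) = 1 := by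
      rw [c.g.zpow_eq_one_iff]; exact dvd_mul_right _ _
    rw [h3, zpow_add, h4, one_mul, c.g.z_zpow]
  have hxz : ∀ i : ℤ, Odd i → f * x ^ i * f⁻¹ = x ^ i * zz K := by
    intro i hi
    rw [hfxk]
    have h3 : r * i = i + 2 ^ (n + 1) * (a * i) := by
      have : r = 1 + 2 ^ (n + 1) * a := by linarith
      rw [this]; ring
    rw [h3, zpow_add, hzodd _ (hao.mul hi)]
  obtain ⟨u, hu⟩ : ∃ u : ℤ, u = k + 2 ^ n := ⟨_, rfl⟩
  have huo : Odd u := by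
    rw [hu]
    exact hko.add_even (Even.pow_of_ne_zero (by decide) hn)
  have hffw' : (f * f) * w * (f * f)⁻¹ = w * x ^ (2 * u) := by
    rw [hffw]
    congr 1
    have h3 : x ^ (r * k) = x ^ k * zz K := by rw [← hfxk, hxz k hko]
    have h4 : x ^ (2 * u) = x ^ k * (x ^ k * zz K) := by
      rw [← c.g.z_zpow, ← zpow_add, ← zpow_add]
      congr 1
      rw [hu, pow_succ]; ring
    rw [zpow_add, h3, h4]
  -- `c₁`
  obtain ⟨y, hy⟩ : ∃ y : ℤ → G, ∀ i, y i = t₁ * x ^ i * t₁⁻¹ := ⟨fun i => t₁ * x ^ i * t₁⁻¹, fun _ => rfl⟩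
  have hyc : ∀ i, ∀ v ∈ K ⊓ R, v * y i = y i * v := by
    intro i v hv
    rw [hy]
    exact c.comm_swap h1R h1s hv (c.zpow_mem' i)
  have hyR : ∀ i, y i ∈ R := fun i => by
    rw [hy]; exact R.mul_mem (R.mul_mem h1R (c.zpow_mem' i).2) (R.inv_mem h1R)
  obtain ⟨e, he⟩ : ∃ e, e = (f * f) * x ^ u * y (-u) := ⟨_, rfl⟩
  have hxuQ := c.zpow_mem' u
  have heR : e ∈ R := by
    rw [he]; exact R.mul_mem (R.mul_mem (R.mul_mem hfR hfR) hxuQ.2) (hyR _)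
  have hffxu : ∀ i : ℤ, (f * f) * x ^ i = x ^ i * (f * f) := fun i =>
    ((show Commute (f * f) x from hffc).zpow_right i).eq
  have hex : e * x = x * e := by
    rw [he]
    calc (f * f) * x ^ u * y (-u) * x = (f * f) * x ^ u * (x * y (-u)) := by rw [hyc _ x c.g.c_mem]; group
      _ = (f * f) * (x ^ u * x) * y (-u) := by group
      _ = ((f * f) * x) * x ^ u * y (-u) := by rw [(Commute.zpow_self x u).eq]; group
      _ = _ := by rw [hffc]; group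
  have hew : e * w = w * e := by
    rw [← mul_inv_eq_iff_eq_mul, he]
    have h3 : x ^ u * w * (x ^ u)⁻¹ = w * x ^ (-2 * u) := c.g.conj_zpow_v u
    have h4 := hyc (-u) w c.g.v_mem
    calc (f * f) * x ^ u * y (-u) * w * ((f * f) * x ^ u * y (-u))⁻¹
        = (f * f) * (x ^ u * (y (-u) * w * (y (-u))⁻¹) * (x ^ u)⁻¹) * (f * f)⁻¹ := by group
      _ = (f * f) * (w * x ^ (-2 * u)) * (f * f)⁻¹ := by rw [← h4, mul_inv_cancel_right, h3]
      _ = ((f * f) * w * (f * f)⁻¹) * ((f * f) * x ^ (-2 * u) * (f * f)⁻¹) := by group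
      _ = w * (x ^ (2 * u) * x ^ (-2 * u)) := by rw [hffw', hffxu, mul_inv_cancel_right]; group
      _ = w := by
        rw [← zpow_add]
        have : 2 * u + -2 * u = 0 := by ring
        rw [this, zpow_zero, mul_one]
  have hcent : ∀ v ∈ K ⊓ R, e * v = v * e := OneChi.cent_of c.g hex hew
  have hinv1 : t₁ * f * t₁⁻¹ = f⁻¹ := by
    rw [hfi, hf, hi1]
    calc t₁ * (t₁ * t₂) * t₁ = (t₁ * t₁) * t₂ * t₁ := by group
      _ = _ := by rw [ht1, one_mul]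
  have hinv2 : t₂ * f * t₂⁻¹ = f⁻¹ := by
    rw [hfi, hf, hi2]
    calc t₂ * (t₁ * t₂) * t₂ = t₂ * t₁ * (t₂ * t₂) := by group
      _ = _ := by rw [ht2, mul_one]
  have hff1 : f⁻¹ * t₁ * f = t₁ * (f * f) := by
    rw [← hinv1]; group
  have hff2' : f⁻¹ * t₂ * f = t₂ * (f * f) := by
    rw [← hinv2]; group
  -- `y` commutes with `f * f`
  have hyff : ∀ i, (f * f) * y i = y i * (f * f) := by
    intro i
    have h3 : t₁ * (f * f) * t₁⁻¹ = (f * f)⁻¹ := by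
      calc t₁ * (f * f) * t₁⁻¹ = (t₁ * f * t₁⁻¹) * (t₁ * f * t₁⁻¹) := by group
        _ = _ := by rw [hinv1]; group
    have h4 : (f * f) * t₁ = t₁ * (f * f)⁻¹ := by
      rw [← h3]
      rw [hi1]
      calc (f * f) * t₁ = (t₁ * t₁) * (f * f) * t₁ := by rw [ht1, one_mul]
        _ = _ := by group
    have h5 := hffxu i
    rw [hy]
    calc (f * f) * (t₁ * x ^ i * t₁⁻¹) = ((f * f) * t₁) * x ^ i * t₁⁻¹ := by group
      _ = t₁ * (f * f)⁻¹ * x ^ i * t₁⁻¹ := by rw [h4]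
      _ = t₁ * (f * f)⁻¹ * (x ^ i * (f * f)) * (f * f)⁻¹ * t₁⁻¹ := by group
      _ = t₁ * x ^ i * ((f * f)⁻¹ * t₁⁻¹) := by rw [← h5]; group
      _ = t₁ * x ^ i * (t₁⁻¹ * (t₁ * (f * f)⁻¹) * t₁⁻¹) := by group
      _ = t₁ * x ^ i * (t₁⁻¹ * ((f * f) * t₁) * t₁⁻¹) := by rw [h4]
      _ = _ := by group
  have het : t₁ * e ∈ Zs Om := by
    have h3 : t₁ * e = (x ^ u)⁻¹ * (f⁻¹ * t₁ * f) * x ^ u := by
      rw [hff1, he]
      have h4 := hyc (-u) _ hxuQ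
      have h5 : t₁ * y (-u) = (x ^ u)⁻¹ * t₁ := by
        rw [hy, hi1]
        calc t₁ * (t₁ * x ^ (-u) * t₁) = (t₁ * t₁) * x ^ (-u) * t₁ := by group
          _ = _ := by rw [ht1, one_mul, zpow_neg]
      calc t₁ * ((f * f) * x ^ u * y (-u)) = t₁ * (f * f) * (x ^ u * y (-u)) := by group
        _ = t₁ * ((f * f) * y (-u)) * x ^ u := by rw [h4]; group
        _ = (t₁ * y (-u)) * (f * f) * x ^ u := by rw [hyff]; group
        _ = _ := by rw [h5]; group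
    rw [h3]
    exact Zs_cj' b.hyp (Zs_cj' b.hyp h1 f) _
  -- `y` in terms of `t₂`
  have hy2 : y (-u) = t₂ * x ^ (-u) * t₂⁻¹ * zz K := by
    have h3 : t₂ = t₁ * f := by rw [hf, ← mul_assoc, ht1, one_mul]
    have h4 := hxz (-u) huo.neg
    have hz1 : zz K * t₁⁻¹ = t₁⁻¹ * zz K := (c.z_comm (R.inv_mem h1R)).symm
    rw [h3]
    calc y (-u) = t₁ * x ^ (-u) * t₁⁻¹ * (zz K * zz K) := by rw [hy, c.g.z_mul, mul_one]
      _ = t₁ * x ^ (-u) * (t₁⁻¹ * zz K) * zz K := by group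
      _ = t₁ * (x ^ (-u) * zz K) * t₁⁻¹ * zz K := by rw [← hz1]; group
      _ = t₁ * (f * x ^ (-u) * f⁻¹) * t₁⁻¹ * zz K := by rw [h4]
      _ = _ := by group
  have het2 : t₂ * e * zz K ∈ Zs Om := by
    have h3 : t₂ * e * zz K = (x ^ u)⁻¹ * (f⁻¹ * t₂ * f) * x ^ u := by
      have h4 := hyc (-u) _ hxuQ
      have h5 : t₂ * y (-u) = (x ^ u)⁻¹ * t₂ * zz K := by
        rw [hy2, hi2]
        calc t₂ * (t₂ * x ^ (-u) * t₂ * zz K) = (t₂ * t₂) * x ^ (-u) * t₂ * zz K := by group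
          _ = _ := by rw [ht2, one_mul, zpow_neg]
      have h6 : ∀ v ∈ R, zz K * v = v * zz K := fun v hv => (c.z_comm hv).symm
      have h7 : (f * f) * x ^ u ∈ R := R.mul_mem (R.mul_mem hfR hfR) hxuQ.2
      rw [hff2', he]
      calc t₂ * ((f * f) * x ^ u * y (-u)) * zz K = t₂ * (f * f) * (x ^ u * y (-u)) * zz K := by group
        _ = t₂ * ((f * f) * y (-u)) * x ^ u * zz K := by rw [h4]; group
        _ = (t₂ * y (-u)) * ((f * f) * x ^ u) * zz K := by rw [hyff]; group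
        _ = (x ^ u)⁻¹ * t₂ * (zz K * ((f * f) * x ^ u)) * zz K := by rw [h5]; group
        _ = (x ^ u)⁻¹ * t₂ * ((f * f) * x ^ u) * (zz K * zz K) := by rw [h6 _ h7]; group
        _ = _ := by rw [c.g.z_mul, mul_one]; group
    rw [h3]
    exact Zs_cj' b.hyp (Zs_cj' b.hyp h2 f) _
  by_cases he1 : e = 1
  · -- use `t₂` and `i = zz K`
    have h3 : t₂ * zz K ∈ Zs Om := by rw [he1, mul_one] at het2; exact het2
    exact c.lemC' h1 h2 h1R h2R h1s h2s hx c.zz_mem_R c.g.z_mul c.g.z_ne (c.z_comm h1R).symm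
      (c.z_comm h2R).symm (Or.inr h3) (fun v hv => (c.z_comm hv.2).symm)
  · -- use `t₁` and the involution of `⟨e⟩`
    have hinve : t₁ * e * t₁⁻¹ = e⁻¹ := by
      have h3 := Zs_mul b.hyp het
      rw [hi1, eq_inv_iff_mul_eq_one]
      calc t₁ * e * t₁ * e = (t₁ * e) * (t₁ * e) := by group
        _ = 1 := h3
    obtain ⟨k', hk1, hk2, hk3, -, hk5⟩ := exists_inv ht1 (isP_of_mem c.hR heR) he1 hinve
    have hfe : f * e = e * f := by
      rw [← mul_inv_eq_iff_eq_mul, he]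
      have h3 : f * y (-u) * f⁻¹ = y (-u) * zz K := by
        have h4 := hxz (-u) huo.neg
        have h5 : f * t₁ = t₁ * f⁻¹ := by
          rw [← hinv1, hi1]
          calc f * t₁ = (t₁ * t₁) * f * t₁ := by rw [ht1, one_mul]
            _ = _ := by group
        have h6 : f⁻¹ * x ^ (-u) * f = x ^ (-u) * zz K := by
          have h7 : f⁻¹ * (f * x ^ (-u) * f⁻¹) * f = f⁻¹ * (x ^ (-u) * zz K) * f := by rw [h4]
          have h8 : zz K * f = f * zz K := (c.z_comm hfR).symm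
          calc f⁻¹ * x ^ (-u) * f = f⁻¹ * x ^ (-u) * (zz K * zz K) * f := by rw [c.g.z_mul, mul_one]
            _ = f⁻¹ * (x ^ (-u) * zz K) * (zz K * f) := by group
            _ = (f⁻¹ * (x ^ (-u) * zz K) * f) * zz K := by rw [h8]; group
            _ = _ := by rw [← h7]; group
        have h9 : zz K * t₁⁻¹ = t₁⁻¹ * zz K := (c.z_comm (R.inv_mem h1R)).symm
        rw [hy]
        calc f * (t₁ * x ^ (-u) * t₁⁻¹) * f⁻¹ = (f * t₁) * x ^ (-u) * (f * t₁)⁻¹ := by group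
          _ = t₁ * (f⁻¹ * x ^ (-u) * f) * t₁⁻¹ := by rw [h5]; group
          _ = t₁ * x ^ (-u) * (zz K * t₁⁻¹) := by rw [h6]; group
          _ = _ := by rw [h9]; group
      have h10 := hxz u huo
      calc f * ((f * f) * x ^ u * y (-u)) * f⁻¹ = (f * f) * (f * x ^ u * f⁻¹) * (f * y (-u) * f⁻¹) := by group
        _ = (f * f) * x ^ u * (zz K * y (-u)) * zz K := by rw [h3, h10]; group
        _ = (f * f) * x ^ u * y (-u) * (zz K * zz K) := by rw [← c.z_comm (hyR (-u))]; group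
        _ = _ := by rw [c.g.z_mul, mul_one]
    have hket2 : e ^ k' * t₂ = t₂ * e ^ k' := by
      have h3 : t₂ = t₁ * f := by rw [hf, ← mul_assoc, ht1, one_mul]
      have h4 : e ^ k' * f = f * e ^ k' := ((show Commute e f from hfe.symm).pow_left k').eq
      rw [h3]
      calc e ^ k' * (t₁ * f) = (e ^ k' * t₁) * f := by group
        _ = t₁ * (e ^ k' * f) := by rw [hk3]; group
        _ = _ := by rw [h4]; group
    have hti : t₁ * e ^ k' ∈ Zs Om := by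
      rcases hk5 with rfl | ⟨j, rfl⟩
      · rw [pow_one]; exact het
      · rw [← conj_even hinve j]
        exact Zs_cj' b.hyp h1 _
    exact c.lemC' h1 h2 h1R h2R h1s h2s hx (R.pow_mem heR _) hk1 hk2 hk3 hket2 (Or.inl hti)
      (fun v hv => ((show Commute e v from hcent v hv).pow_left k').eq)

/-- the general case -/
theorem claim (c : Cf Om n K L R x w) {t₁ t₂ : G} (h1 : t₁ ∈ Zs Om) (h2 : t₂ ∈ Zs Om) (h1R : t₁ ∈ R)
    (h2R : t₂ ∈ R) (h1s : cj t₁ K = L) (h2s : cj t₂ K = L) : psiK K n (t₁ * t₂) = 1 := by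
  have b := c.env.b
  have ht1 := Zs_mul b.hyp h1
  have hi1 := Zs_inv b.hyp h1
  have hfK := b.swap_mul c.m h1s h2s
  have hfR := R.mul_mem h1R h2R
  have hfQ : t₁ * t₂ ∈ normalizer ((K ⊓ R : Subgroup G) : Set G) := by
    rw [mem_normalizer_iff_cj, cj_inf, mem_normalizer_iff_cj.1 hfK, mem_normalizer_iff_cj.1 (le_normalizer hfR)]
  rcases conj_c0 c.g c.env.hn hfQ (c.z_comm hfR) with h3 | h3
  · refine c.step4 h1 h2 h1R h2R h1s h2s ?_
    calc t₁ * x ^ 2 ^ n * t₁⁻¹ = t₁ * (t₁ * t₂ * x ^ 2 ^ n * (t₁ * t₂)⁻¹) * t₁⁻¹ := by rw [h3]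
      _ = (t₁ * t₁) * (t₂ * x ^ 2 ^ n * t₂⁻¹) * (t₁ * t₁)⁻¹ := by group
      _ = _ := by rw [ht1]; group
  · have hw := c.g.v_mem
    rw [← psi_repl b c.env.ho c.env.hn c.m h1s h2s hw.1 (isP_of_mem c.hR hw.2)]
    refine c.step4 h1 (Zs_cj b.hyp h2 w) h1R (R.mul_mem (R.mul_mem hw.2 h2R) (R.inv_mem hw.2)) h1s
      (swap_conj b c.m h2s hw.1) ?_
    have h4 : w⁻¹ * x ^ 2 ^ n * w = x ^ 2 ^ n * zz K := by
      have h5 := c.w_x0
      have h6 : zz K * w = w * zz K := (c.z_comm hw.2).symm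
      calc w⁻¹ * x ^ 2 ^ n * w = w⁻¹ * x ^ 2 ^ n * (zz K * zz K) * w := by rw [c.g.z_mul, mul_one]
        _ = w⁻¹ * (x ^ 2 ^ n * zz K) * (zz K * w) := by group
        _ = w⁻¹ * (w * x ^ 2 ^ n * w⁻¹) * (w * zz K) := by rw [h5, h6]
        _ = _ := by group
    have h5 := c.comm_swap h2R h2s hw ((K ⊓ R).mul_mem c.x0_mem (show zz K ∈ K ⊓ R from c.g.z_mem))
    have h7 : t₂ * (x ^ 2 ^ n * zz K) * t₂⁻¹ = t₁ * x ^ 2 ^ n * t₁⁻¹ := by
      rw [← h3]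
      have h8 : t₁ * (t₁ * t₂ * x ^ 2 ^ n * (t₁ * t₂)⁻¹) * t₁⁻¹ = t₁ * (x ^ 2 ^ n * zz K) * t₁⁻¹ := by rw [h3]
      have h9 : t₂ * x ^ 2 ^ n * t₂⁻¹ = t₁ * (x ^ 2 ^ n * zz K) * t₁⁻¹ := by
        rw [← h8]
        calc t₂ * x ^ 2 ^ n * t₂⁻¹ = (t₁ * t₁) * (t₂ * x ^ 2 ^ n * t₂⁻¹) * (t₁ * t₁)⁻¹ := by rw [ht1]; group
          _ = _ := by group
      have hz2 : ∀ v ∈ R, zz K * v = v * zz K := fun v hv => (c.z_comm hv).symm
      rw [h3]
      calc t₂ * (x ^ 2 ^ n * zz K) * t₂⁻¹ = t₂ * x ^ 2 ^ n * (zz K * t₂⁻¹) := by group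
        _ = (t₂ * x ^ 2 ^ n * t₂⁻¹) * zz K := by rw [hz2 _ (R.inv_mem h2R)]; group
        _ = t₁ * x ^ 2 ^ n * (zz K * t₁⁻¹) * zz K := by rw [h9]; group
        _ = t₁ * x ^ 2 ^ n * t₁⁻¹ * (zz K * zz K) := by rw [hz2 _ (R.inv_mem h1R)]; group
        _ = _ := by rw [c.g.z_mul, mul_one]
    calc t₁ * x ^ 2 ^ n * t₁⁻¹ = t₂ * (x ^ 2 ^ n * zz K) * t₂⁻¹ := h7.symm
      _ = (w * (t₂ * (x ^ 2 ^ n * zz K) * t₂⁻¹)) * w⁻¹ := by rw [h5, mul_inv_cancel_right]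
      _ = w * t₂ * (w⁻¹ * x ^ 2 ^ n * w) * t₂⁻¹ * w⁻¹ := by rw [h4]; group
      _ = _ := by group

end Cf

/-- **CLAIM E** -/
theorem Env.claimE (env : Env Om n) : ClaimE Om n := by
  intro K L m R hR hRz t₁ h1 t₂ h2 h1R h2R h1s h2s
  obtain ⟨R', hR', hRR'⟩ := OneBasic.exists_syl_ge hR hRz
  have hQ := env.b.syl_inf m.hK hR'
  obtain ⟨x, w, g⟩ := exists_gq_n env.b env.ho m.hK hQ
  exact Cf.claim ⟨env, m, hR'.2.1, hR'.1, hQ, g⟩ h1 h2 (hRR' h1R) (hRR' h2R) h1s h2s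

/-- **THEOREM FK** from the facts on pairs -/
theorem Env.fk (env : Env Om n) (hNI : ∀ (M : Type) [CommGroup M] (F : Fam Om M), NInv F)
    (hidx : ∀ H : Subgroup G, H.index ≠ 2) {K : Subgroup G} (hK : K ∈ Om) {g : G}
    (hg : g ∈ normalizer (K : Set G)) : psiK K n g = 1 :=
  In.fk ⟨env.b, env.ho, env.hn, env.hS, hNI, hidx, P0_of_P1 env.hS env.hP env.b⟩ env.claimE hK hg

end Cfsg.Agent.Cit.TwoFK
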