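import Cfsg.Agent.Cit.OnePair
import Cfsg.Agent.Cit.OneChi
import Cfsg.Agent.Cit.TwoFK.Base

/-!
# Pairs of commuting classical involutions, no hypothesis on `Om(S)`

`HP Om K L T Q Q'`: members `K`, `L` with different commuting involutions `z`, `t`, `t ∈ N(K)`, `z ∈ N(L)`; `Q`, `Q'`
Sylow 2-subgroups of `K`, `L`, normalised by the 2-group `T ≤ N(K) ∩ N(L)` containing `C_Q(t)` and `C_Q'(z)`;
`t` does not centralise `Q`, `z` does not centralise `Q'`.  `HP.Co`: coordinates.  `HP.Co.dich`: the dichotomy W / SD.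
(The text of `OnePair` with `One Om` replaced by these hypotheses.)
-/

set_option autoImplicit false
set_option linter.style.haveILetI false
set_option linter.unusedSectionVars false
set_option linter.unusedVariables false

namespace Cfsg.Agent.Cit.TwoFK

open Subgroup Cfsg Cit OneBasic

variable {G : Type*} [Group G]

/-- see the head of the file -/
structure HP (Om : Set (Subgroup G)) (K L T Q Q' : Subgroup G) : Prop where
  hyp : Hyp Om
  hK : K ∈ Om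
  hL : L ∈ Om
  zne : zz K ≠ zz L
  comm : zz K * zz L = zz L * zz K
  hQ : Syl Q K
  hQ' : Syl Q' L
  card : Nat.card Q = Nat.card Q'
  tp : IsPGroup 2 T
  tK : T ≤ normalizer (K : Set G)
  tL : T ≤ normalizer (L : Set G)
  hTQ : T ≤ normalizer (Q : Set G)
  hTQ' : T ≤ normalizer (Q' : Set G)
  memQ : ∀ u ∈ Q, u * zz L = zz L * u → u ∈ T
  memQ' : ∀ u ∈ Q', u * zz K = zz K * u → u ∈ T
  ncQ : ¬ ∀ x ∈ Q, zz L * x = x * zz L
  ncQ' : ¬ ∀ x ∈ Q', zz K * x = x * zz K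

theorem HP.symm {Om : Set (Subgroup G)} {K L T Q Q' : Subgroup G} (p : HP Om K L T Q Q') :
    HP Om L K T Q' Q :=
  ⟨p.hyp, p.hL, p.hK, p.zne.symm, p.comm.symm, p.hQ', p.hQ, p.card.symm, p.tp, p.tL, p.tK, p.hTQ', p.hTQ,
    p.memQ', p.memQ, p.ncQ', p.ncQ⟩

namespace HP

variable [Finite G] {Om : Set (Subgroup G)} {K L T Q Q' : Subgroup G}

theorem tz (p : HP Om K L T Q Q') {a : G} (ha : a ∈ T) : a * zz K = zz K * a :=
  p.hyp.comm_zz p.hK (p.tK ha)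

theorem tt (p : HP Om K L T Q Q') {a : G} (ha : a ∈ T) : a * zz L = zz L * a :=
  p.hyp.comm_zz p.hL (p.tL ha)

/-- `C_Q(t) ≤ T` -/
theorem mem_T (p : HP Om K L T Q Q') {u : G} (hu : u ∈ Q) (hut : u * zz L = zz L * u) : u ∈ T :=
  p.memQ u hu hut

theorem zK_mem_Q (p : HP Om K L T Q Q') : zz K ∈ Q := by
  obtain ⟨c, v, n, hc⟩ := p.hyp.exists_gq p.hK p.hQ
  exact hc.z_mem

theorem zK_mem (p : HP Om K L T Q Q') : zz K ∈ T := p.mem_T (p.zK_mem_Q) p.comm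

theorem zL_mem (p : HP Om K L T Q Q') : zz L ∈ T := p.symm.zK_mem

theorem z_ne_t (p : HP Om K L T Q Q') : zz K ≠ zz L := p.zne

/-- `Q ∩ Q' = 1` -/
theorem disj (p : HP Om K L T Q Q') {u : G} (hu : u ∈ Q) (hu' : u ∈ Q') : u = 1 := by
  by_contra hu1
  have hIQ : AutQuat.IsQ Q := p.hyp.isGQ p.hK p.hQ
  have h1 : zz K ∈ zpowers u :=
    hIQ.mem_zpowers (fun t ht => p.hyp.uniq K p.hK t (p.hQ.1 ht)) hu hu1
  have h2 : zz K ∈ Q' := (zpowers_le.2 hu') h1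
  exact p.z_ne_t (p.hyp.uniq L p.hL _ (p.hQ'.1 h2) (p.hyp.orderOf_zz p.hK))

/-- `[C_Q(t), C_Q'(z)] = 1` -/
theorem commute_R (p : HP Om K L T Q Q') {u u' : G} (hu : u ∈ Q) (huT : u ∈ T) (hu' : u' ∈ Q')
    (huT' : u' ∈ T) : u * u' = u' * u := by
  have h1 : u * u' * u⁻¹ * u'⁻¹ ∈ Q' :=
    Q'.mul_mem ((mem_normalizer_iff.1 (p.hTQ' huT) u').1 hu') (Q'.inv_mem hu')
  have h2 : u * u' * u⁻¹ * u'⁻¹ ∈ Q := by
    have h3 := Q.mul_mem hu ((mem_normalizer_iff.1 (p.hTQ huT') u⁻¹).1 (Q.inv_mem hu))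
    simpa [mul_assoc] using h3
  have h3 := p.disj h2 h1
  rw [mul_inv_eq_one, mul_inv_eq_iff_eq_mul] at h3
  exact h3

/-- `t` does not centralise `Q` -/
theorem not_cent (p : HP Om K L T Q Q') : ¬ ∀ x ∈ Q, zz L * x = x * zz L := p.ncQ

/-- an element of `Q'` centralising `Q` is trivial -/
theorem faithful (p : HP Om K L T Q Q') {u : G} (hu : u ∈ Q')
    (hc : ∀ x ∈ Q, u * x = x * u) : u = 1 := by
  by_contra hu1
  have hIQ : AutQuat.IsQ Q' := p.hyp.isGQ p.hL p.hQ'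
  have h1 : zz L ∈ zpowers u :=
    hIQ.mem_zpowers (fun t ht => p.hyp.uniq L p.hL t (p.hQ'.1 ht)) hu hu1
  obtain ⟨k, hk⟩ := h1
  have hk' : u ^ k = zz L := hk
  apply p.not_cent
  intro x hx
  rw [← hk']
  exact ((show Commute u x from hc x hx).zpow_left k).eq

/-- `C_T(Q)` centralises `C_Q'(z)` -/
theorem cent_R' (p : HP Om K L T Q Q') {a : G} (ha : a ∈ T) (haQ : ∀ x ∈ Q, a * x = x * a)
    {u : G} (hu : u ∈ Q') (huT : u ∈ T) : a * u = u * a := by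
  have h1 : a * u * a⁻¹ * u⁻¹ ∈ Q' := Q'.mul_mem (conj_mem_of (p.hTQ' ha) hu) (Q'.inv_mem hu)
  have h2 : ∀ x ∈ Q, (a * u * a⁻¹ * u⁻¹) * x = x * (a * u * a⁻¹ * u⁻¹) := by
    intro x hx
    have c1 := haQ _ (conj_mem_of' (p.hTQ huT) hx)
    have c2 := haQ x hx
    calc (a * u * a⁻¹ * u⁻¹) * x = a * u * a⁻¹ * (u⁻¹ * x * u) * u⁻¹ := by group
      _ = a * u * a⁻¹ * ((u⁻¹ * x * u) * a) * a⁻¹ * u⁻¹ := by group
      _ = a * u * a⁻¹ * (a * (u⁻¹ * x * u)) * a⁻¹ * u⁻¹ := by rw [c1]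
      _ = (a * x) * (u * a⁻¹ * u⁻¹) := by group
      _ = x * (a * u * a⁻¹ * u⁻¹) := by rw [c2]; group
  have h3 := p.faithful h1 h2
  rw [mul_inv_eq_one, mul_inv_eq_iff_eq_mul] at h3
  exact h3

/-- coordinates adapted to a pair -/
structure Co (Om : Set (Subgroup G)) (K L T Q Q' : Subgroup G) (x y x' y' : G) (n : ℕ) : Prop where
  pair : HP Om K L T Q Q'
  gq : GQ Q x y (zz K) n
  gq' : GQ Q' x' y' (zz L) n
  inv : ∀ w ∈ T, w * x * w⁻¹ ∈ zpowers x
  inv' : ∀ w ∈ T, w * x' * w⁻¹ ∈ zpowers x'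

theorem Co.symm {x y x' y' : G} {n : ℕ} (p : Co Om K L T Q Q' x y x' y' n) :
    Co Om L K T Q' Q x' y' x y n :=
  ⟨p.pair.symm, p.gq', p.gq, p.inv', p.inv⟩

theorem exists_co (p : HP Om K L T Q Q') : ∃ x y x' y' n, Co Om K L T Q Q' x y x' y' n := by
  obtain ⟨x, y, n, hxy, hT⟩ := p.hyp.exists_gq_cyclic p.hK p.hQ p.tp p.hTQ
  obtain ⟨x', y', m, hxy', hT'⟩ := p.hyp.exists_gq_cyclic p.hL p.hQ' p.tp p.hTQ'
  have hmn : m = n := by
    have h1 : Nat.card Q = Nat.card Q' := p.card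
    rw [hxy.card, hxy'.card] at h1
    have := Nat.pow_right_injective (le_refl 2) h1
    omega
  subst hmn
  exact ⟨x, y, x', y', m, p, hxy, hxy', hT, hT'⟩

namespace Co

variable {x y x' y' : G} {n : ℕ}

theorem exp (p : Co Om K L T Q Q' x y x' y' n) {w : G} (hw : w ∈ T) : ∃ k : ℤ, w * x * w⁻¹ = x ^ k := by
  obtain ⟨k, hk⟩ := p.inv w hw
  exact ⟨k, hk.symm⟩

/-- the dichotomy, first step: if `C_Q(t)` contains an element of order `4` then `z` centralises `x'` -/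
theorem key (p : Co Om K L T Q Q' x y x' y' n) {u : G} (hu : u ∈ Q)
    (hut : u * zz L = zz L * u) (hu2 : u * u = zz K) : zz K * x' = x' * zz K := by
  have huT : u ∈ T := p.pair.mem_T hu hut
  obtain ⟨k, hk⟩ := p.symm.exp huT
  have h1 : ∀ i : ℤ, zz K * x' ^ i * (zz K)⁻¹ = x' ^ (k ^ 2 * i) := by
    intro i
    have h2 : zz K * x' ^ i * (zz K)⁻¹ = u * (u * x' ^ i * u⁻¹) * u⁻¹ := by rw [← hu2]; group
    rw [h2, conj_zpow_pow hk, conj_zpow_pow hk]
    congr 1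
    ring
  have h4 : (2 : ℤ) ^ (n + 2) ∣ k ^ 4 - 1 := by
    rw [← p.gq'.zpow_eq_one_iff, zpow_sub, zpow_one, mul_inv_eq_one]
    have h3 : zz K * (zz K * x' ^ (1 : ℤ) * (zz K)⁻¹) * (zz K)⁻¹ = x' := by
      have h5 : zz K * (zz K * x' ^ (1 : ℤ) * (zz K)⁻¹) * (zz K)⁻¹
          = (zz K * zz K) * x' * (zz K * zz K)⁻¹ := by group
      rw [h5, p.pair.hyp.zz_mul p.pair.hK]; group
    rw [h1, h1] at h3
    conv_rhs => rw [← h3]
    congr 1
    ring
  have h5 := arith_one n k h4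
  -- `z` centralises `x'^2`
  have h6 : zz K * x' ^ (2 : ℤ) * (zz K)⁻¹ = x' ^ (2 : ℤ) := by
    rw [h1]
    have h7 : (2 : ℤ) ^ (n + 2) ∣ k ^ 2 * 2 - 2 := by
      have : k ^ 2 * 2 - 2 = (k ^ 2 - 1) * 2 := by ring
      rw [this, pow_succ]
      exact mul_dvd_mul h5 dvd_rfl
    rw [← p.gq'.zpow_eq_one_iff, zpow_sub, mul_inv_eq_one] at h7
    exact h7
  have h7 : x' ^ (2 : ℤ) ∈ T := by
    apply p.pair.symm.mem_T (Q'.zpow_mem p.gq'.c_mem 2)
    rw [mul_inv_eq_iff_eq_mul] at h6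
    exact h6.symm
  have h8 := p.pair.commute_R hu huT (Q'.zpow_mem p.gq'.c_mem 2) h7
  have h9 : u * x' ^ (2 : ℤ) * u⁻¹ = x' ^ (2 : ℤ) := by rw [h8, mul_inv_cancel_right]
  rw [conj_zpow_pow hk] at h9
  have h10 : (2 : ℤ) ^ (n + 1) ∣ k - 1 := by
    have h11 : (2 : ℤ) ^ (n + 2) ∣ k * 2 - 2 := by
      rw [← p.gq'.zpow_eq_one_iff, zpow_sub, mul_inv_eq_one]
      exact h9
    have : k * 2 - 2 = 2 * (k - 1) := by ring
    rw [this, pow_succ'] at h11
    exact (mul_dvd_mul_iff_left (by norm_num)).1 h11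
  have h11 := arith_two n k h10
  have h12 : zz K * x' * (zz K)⁻¹ = x' := by
    have h13 := h1 1
    rw [zpow_one] at h13
    rw [h13]
    have h14 : x' ^ (k ^ 2 * 1 - 1) = 1 := by
      rw [p.gq'.zpow_eq_one_iff, mul_one]; exact h11
    rw [zpow_sub, zpow_one, mul_inv_eq_one] at h14
    exact h14
  rwa [mul_inv_eq_iff_eq_mul] at h12

/-- elements of `⟨x⟩` of order `4`: `w = x^(2^n)` -/
theorem w_comm (p : Co Om K L T Q Q' x y x' y' n) (hx : zz L * x = x * zz L) :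
    x ^ 2 ^ n * zz L = zz L * x ^ 2 ^ n :=
  ((show Commute x (zz L) from hx.symm).pow_left _).eq

/-- **the dichotomy** -/
theorem dich (p : Co Om K L T Q Q' x y x' y' n) :
    (zz K * x' = x' * zz K ∧ zz L * x = x * zz L) ∨
    ((∀ u ∈ Q, u * zz L = zz L * u → u = 1 ∨ u = zz K) ∧
      (∀ u ∈ Q', u * zz K = zz K * u → u = 1 ∨ u = zz L)) := by
  by_cases h1 : ∃ u ∈ Q, u * zz L = zz L * u ∧ u * u = zz K
  · left
    obtain ⟨u, hu, hut, hu2⟩ := h1
    have h2 := p.key hu hut hu2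
    refine ⟨h2, ?_⟩
    exact p.symm.key (Q'.pow_mem p.gq'.c_mem (2 ^ n)) (p.symm.w_comm h2) p.gq'.w_sq
  · by_cases h2 : ∃ u ∈ Q', u * zz K = zz K * u ∧ u * u = zz L
    · left
      obtain ⟨u, hu, hut, hu2⟩ := h2
      have h3 := p.symm.key hu hut hu2
      refine ⟨?_, h3⟩
      exact p.key (Q.pow_mem p.gq.c_mem (2 ^ n)) (p.w_comm h3) p.gq.w_sq
    · right
      have aux : ∀ {K L T Q Q' : Subgroup G} {x y x' y' : G} {n : ℕ} (p : Co Om K L T Q Q' x y x' y' n),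
          (¬ ∃ u ∈ Q, u * zz L = zz L * u ∧ u * u = zz K) →
          ∀ u ∈ Q, u * zz L = zz L * u → u = 1 ∨ u = zz K := by
        intro K L T Q Q' x y x' y' n p hn u hu hut
        by_contra hcon
        push Not at hcon
        obtain ⟨hu1, huz⟩ := hcon
        have hIQ : AutQuat.IsQ Q := p.pair.hyp.isGQ p.pair.hK p.pair.hQ
        have h1 : zz K ∈ zpowers u :=
          hIQ.mem_zpowers (fun t ht => p.pair.hyp.uniq K p.pair.hK t (p.pair.hQ.1 ht)) hu hu1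
        -- a power of `u` squares to `z`
        have h2 : ∃ m : ℕ, u ^ 2 ^ m = zz K := by
          obtain ⟨k, hk⟩ := p.pair.hQ.2.1 ⟨u, hu⟩
          have hk' : u ^ 2 ^ k = 1 := congrArg Subtype.val hk
          obtain ⟨j, hj, hj2⟩ := (Nat.dvd_prime_pow Nat.prime_two).mp (orderOf_dvd_of_pow_eq_one hk')
          have hj0 : j ≠ 0 := by
            rintro rfl
            rw [pow_zero, orderOf_eq_one_iff] at hj2
            exact hu1 hj2
          obtain ⟨i, rfl⟩ := Nat.exists_eq_succ_of_ne_zero hj0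
          refine ⟨i, ?_⟩
          apply p.pair.hyp.uniq K p.pair.hK _ (p.pair.hQ.1 (Q.pow_mem hu _))
          rw [orderOf_pow' u (by positivity), hj2, Nat.succ_eq_add_one, pow_succ, Nat.gcd_mul_right_left,
            Nat.mul_div_cancel_left _ (by positivity)]
        obtain ⟨m, hm⟩ := h2
        rcases Nat.eq_zero_or_pos m with rfl | hm0
        · apply huz
          simpa using hm
        · obtain ⟨j, rfl⟩ := Nat.exists_eq_succ_of_ne_zero hm0.ne'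
          apply hn
          refine ⟨u ^ 2 ^ j, Q.pow_mem hu _, ((show Commute u (zz L) from hut).pow_left _).eq, ?_⟩
          rw [← pow_add, ← two_mul, ← pow_succ']
          exact hm
      exact ⟨aux p h1, aux p.symm h2⟩

/-- `T` maps `w` to `w` or `w z` -/
theorem conj_w (p : Co Om K L T Q Q' x y x' y' n) {a : G} (ha : a ∈ T) :
    a * x ^ 2 ^ n * a⁻¹ = x ^ 2 ^ n ∨ a * x ^ 2 ^ n * a⁻¹ = x ^ 2 ^ n * zz K := by
  obtain ⟨k, hk⟩ := p.exp ha
  apply p.gq.eq_w_of_sq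
  · refine ⟨k * (2 ^ n : ℕ), ?_⟩
    have := conj_zpow_pow hk (2 ^ n : ℕ)
    rw [zpow_natCast] at this
    exact this.symm
  · calc a * x ^ 2 ^ n * a⁻¹ * (a * x ^ 2 ^ n * a⁻¹) = a * (x ^ 2 ^ n * x ^ 2 ^ n) * a⁻¹ := by group
      _ = a * zz K * a⁻¹ := by rw [p.gq.w_sq]
      _ = zz K := by rw [p.pair.tz ha, mul_inv_cancel_right]

/-- action of `a ∈ T` on `y` -/
theorem conj_y (p : Co Om K L T Q Q' x y x' y' n) {a : G} (ha : a ∈ T) :
    ∃ j : ℤ, a * y * a⁻¹ = y * x ^ j := by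
  apply p.gq.exists_act (p.pair.hTQ ha)
  have := p.inv a⁻¹ (T.inv_mem ha)
  simpa using this

/-- the centraliser criterion -/
theorem cent_Q (p : Co Om K L T Q Q' x y x' y' n) {a : G} (hx : a * x = x * a) (hy : a * y = y * a) :
    ∀ u ∈ Q, a * u = u * a := by
  intro u hu
  have h1 : Q ≤ centralizer {a} := by
    apply p.gq.le_of_mem (q := y)
    · exact mem_centralizer_singleton_iff.2 hx.symm
    · exact p.gq.v_mem
    · exact p.gq.v_not_mem
    · exact mem_centralizer_singleton_iff.2 hy.symm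
  exact (mem_centralizer_singleton_iff.1 (h1 hu)).symm

/-- an element of `T` centralising `x` with square centralising `y` maps `y` to `y` or to `y z` -/
theorem conj_y_of_sq (p : Co Om K L T Q Q' x y x' y' n) {a : G} (ha : a ∈ T)
    (hx : a * x = x * a) (hy : (a * a) * y = y * (a * a)) :
    a * y * a⁻¹ = y ∨ a * y * a⁻¹ = y * zz K := by
  obtain ⟨j, hj⟩ := p.conj_y ha
  have h1 : a * x ^ j * a⁻¹ = x ^ j := by
    rw [((show Commute a x from hx).zpow_right j).eq, mul_inv_cancel_right]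
  have h2 : y = y * x ^ (2 * j) := by
    calc y = (a * a) * y * (a * a)⁻¹ := by rw [hy, mul_inv_cancel_right]
      _ = a * (a * y * a⁻¹) * a⁻¹ := by group
      _ = a * (y * x ^ j) * a⁻¹ := by rw [hj]
      _ = (a * y * a⁻¹) * (a * x ^ j * a⁻¹) := by group
      _ = y * x ^ (2 * j) := by rw [hj, h1, mul_assoc, ← zpow_add, two_mul]
  have h3 : x ^ (2 * j) = 1 := by
    have := h2.symm
    simpa using this
  rcases p.gq.zpow_sq h3 with h4 | h4
  · left; rw [hj, h4, mul_one]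
  · right; rw [hj, h4]

/-- type `W`: `t` maps `y` to `y z` -/
theorem t_y (p : Co Om K L T Q Q' x y x' y' n) (hW : zz L * x = x * zz L) :
    zz L * y * (zz L)⁻¹ = y * zz K := by
  have h2 : zz L * zz L * y = y * (zz L * zz L) := by rw [p.pair.hyp.zz_mul p.pair.hL, one_mul, mul_one]
  rcases p.conj_y_of_sq (p.pair.zL_mem) hW h2 with h3 | h3
  · exfalso
    apply p.pair.not_cent
    apply p.cent_Q hW
    rwa [mul_inv_eq_iff_eq_mul] at h3
  · exact h3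

/-- type `SD`: `t` inverts `w` -/
theorem t_w (p : Co Om K L T Q Q' x y x' y' n)
    (hS : ∀ u ∈ Q, u * zz L = zz L * u → u = 1 ∨ u = zz K) :
    zz L * x ^ 2 ^ n * (zz L)⁻¹ = x ^ 2 ^ n * zz K := by
  rcases p.conj_w (p.pair.zL_mem) with h1 | h1
  · exfalso
    rw [mul_inv_eq_iff_eq_mul] at h1
    have h2 := p.gq.orderOf_w
    rcases hS _ (Q.pow_mem p.gq.c_mem _) h1.symm with h3 | h3
    · rw [h3, orderOf_one] at h2; omega
    · rw [h3, p.pair.hyp.orderOf_zz p.pair.hK] at h2; omega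
  · exact h1

end Co
/-- **fusion of the four-group** `{1, z, t, zt}` by elements of `Q` and `Q'` -/
theorem exists_swap (p : HP Om K L T Q Q') : ∃ q ∈ Q, q * zz L * q⁻¹ = zz K * zz L := by
  obtain ⟨x, y, x', y', n, c⟩ := p.exists_co
  have hz : ∀ q ∈ Q, zz K * q = q * zz K := fun q hq =>
    (p.hyp.comm_zz p.hK (le_normalizer (p.hQ.1 hq))).symm
  rcases c.dich with h1 | h1
  · exact ⟨y, c.gq.v_mem, conj_swap (hz y c.gq.v_mem) (p.hyp.zz_mul p.hK) (c.t_y h1.2)⟩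
  · exact ⟨_, Q.pow_mem c.gq.c_mem _, conj_swap (hz _ (Q.pow_mem c.gq.c_mem _)) (p.hyp.zz_mul p.hK)
      (c.t_w h1.1)⟩

theorem isP_zpowers (p : HP Om K L T Q Q') {a : G} (ha : a ∈ T) : IsPGroup 2 (zpowers a) :=
  p.tp.to_le (zpowers_le.2 ha)

namespace Co

variable {x y x' y' : G} {n : ℕ}

open OneChi

theorem t_inv (c : HP.Co Om K L T Q Q' x y x' y' n)
    (hS : ∀ u ∈ Q, u * zz L = zz L * u → u = 1 ∨ u = zz K) : zz L * x * (zz L)⁻¹ = x⁻¹ := by
  obtain ⟨t, ht⟩ : ∃ t, t = zz L := ⟨_, rfl⟩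
  have ht2 : t * t = 1 := by rw [ht]; exact c.pair.hyp.zz_mul c.pair.hL
  have htT : t ∈ T := by rw [ht]; exact c.pair.zL_mem
  obtain ⟨a, ha⟩ := c.exp htT
  obtain ⟨j, hj⟩ := c.conj_y htT
  have htw := c.t_w hS
  rw [← ht] at htw hS ⊢
  have hA := Act.of_conj c.gq (c.pair.hTQ htT) ha
  -- `a^2 = 1`
  have h1 : (2 : ℤ) ^ (n + 2) ∣ a * a - 1 := by
    rw [← c.gq.zpow_eq_one_iff, zpow_sub, zpow_one, mul_inv_eq_one]
    have e1 : t * (t * x ^ (1 : ℤ) * t⁻¹) * t⁻¹ = x := by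
      calc t * (t * x ^ (1 : ℤ) * t⁻¹) * t⁻¹ = (t * t) * x * (t * t)⁻¹ := by group
        _ = x := by rw [ht2]; group
    rw [conj_zpow_pow ha, conj_zpow_pow ha, mul_one] at e1
    exact e1
  -- `j (1 + a) = 0`
  have h2 : (2 : ℤ) ^ (n + 2) ∣ j + a * j := by
    rw [← c.gq.zpow_eq_one_iff]
    have e1 : t * (t * y * t⁻¹) * t⁻¹ = y := by
      calc t * (t * y * t⁻¹) * t⁻¹ = (t * t) * y * (t * t)⁻¹ := by group
        _ = y := by rw [ht2]; group
    have e2 : t * (t * y * t⁻¹) * t⁻¹ = y * (x ^ (j + a * j)) := by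
      calc t * (t * y * t⁻¹) * t⁻¹ = t * (y * x ^ j) * t⁻¹ := by rw [hj]
        _ = (t * y * t⁻¹) * (t * x ^ j * t⁻¹) := by group
        _ = y * (x ^ (j + a * j)) := by rw [hj, conj_zpow_pow ha, mul_assoc, ← zpow_add]
    rw [e1] at e2
    exact left_eq_mul.1 e2
  -- `a = 3` modulo `4`
  have h3 : (4 : ℤ) ∣ a - 3 := by
    have e1 : x ^ (a * (2 : ℤ) ^ n) = x ^ ((2 : ℤ) ^ n) * x ^ ((2 : ℤ) ^ (n + 1)) := by
      have e2 : x ^ ((2 : ℤ) ^ n) = x ^ 2 ^ n := by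
        rw [← zpow_natCast x (2 ^ n)]
        push_cast
        rfl
      rw [← conj_zpow_pow ha, e2, c.gq.z_zpow]
      exact htw
    rw [← zpow_add] at e1
    have e3 : x ^ (a * (2 : ℤ) ^ n - ((2 : ℤ) ^ n + (2 : ℤ) ^ (n + 1))) = 1 := by
      rw [zpow_sub, e1, mul_inv_cancel]
    rw [c.gq.zpow_eq_one_iff] at e3
    have e4 : a * (2 : ℤ) ^ n - ((2 : ℤ) ^ n + (2 : ℤ) ^ (n + 1)) = (2 : ℤ) ^ n * (a - 3) := by ring
    have e5 : (2 : ℤ) ^ (n + 2) = (2 : ℤ) ^ n * 4 := by ring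
    rw [e4, e5] at e3
    exact (mul_dvd_mul_iff_left (by positivity)).1 e3
  obtain ⟨b, hb⟩ : ∃ b, a - 3 = 4 * b := h3
  have hab : a = 4 * b + 3 := by linarith
  -- `2^(n+1)` divides `a + 1`
  have h4 : (2 : ℤ) ^ (n + 1) ∣ a + 1 := by
    have e1 : a * a - 1 = 2 * ((a + 1) * (2 * b + 1)) := by rw [hab]; ring
    rw [e1, pow_succ'] at h1
    have e2 := (mul_dvd_mul_iff_left (by norm_num : (2 : ℤ) ≠ 0)).1 h1
    have e3 : IsCoprime ((2 : ℤ) ^ (n + 1)) (2 * b + 1) := by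
      apply IsCoprime.pow_left
      exact ⟨-b, 1, by ring⟩
    exact e3.dvd_of_dvd_mul_right e2
  obtain ⟨e, he⟩ := h4
  rcases Int.even_or_odd e with hev | hod
  · obtain ⟨f, hf⟩ := hev
    rw [ha]
    have e1 : x ^ (a + 1) = 1 := by
      rw [c.gq.zpow_eq_one_iff, he, hf]
      exact ⟨f, by ring⟩
    rw [zpow_add, zpow_one, mul_eq_one_iff_eq_inv] at e1
    exact e1
  · exfalso
    -- `j` is even
    have h5 : (2 : ℤ) ∣ j := by
      have e1 : j + a * j = (2 : ℤ) ^ (n + 1) * (e * j) := by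
        have : j + a * j = (a + 1) * j := by ring
        rw [this, he]; ring
      have e2 : (2 : ℤ) ^ (n + 2) = (2 : ℤ) ^ (n + 1) * 2 := by ring
      rw [e1, e2] at h2
      have e3 := (mul_dvd_mul_iff_left (by positivity)).1 h2
      have e4 : IsCoprime (2 : ℤ) e := by
        obtain ⟨m, rfl⟩ := hod
        exact ⟨-m, 1, by ring⟩
      exact e4.dvd_of_dvd_mul_left e3
    obtain ⟨j', hj'⟩ := h5
    -- solve `(2b+1) i = -j'`
    obtain ⟨r, s, hrs⟩ : IsCoprime (2 * b + 1) ((2 : ℤ) ^ (n + 1)) := by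
      apply IsCoprime.pow_right
      exact ⟨1, -b, by ring⟩
    obtain ⟨i, hi⟩ : ∃ i : ℤ, i = -(r * j') := ⟨_, rfl⟩
    have h6 : x ^ (j + (a - 1) * i) = 1 := by
      rw [c.gq.zpow_eq_one_iff]
      refine ⟨s * j', ?_⟩
      rw [hab, hi, hj']
      linear_combination (-(2 : ℤ) * j') * hrs
    have h7 : t * (y * x ^ i) * t⁻¹ = y * x ^ i := by
      calc t * (y * x ^ i) * t⁻¹ = (t * y * t⁻¹) * (t * x ^ i * t⁻¹) := by group
        _ = y * (x ^ j * x ^ (a * i)) := by rw [hj, conj_zpow_pow ha, mul_assoc]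
        _ = y * (x ^ (j + (a - 1) * i) * x ^ i) := by
            rw [← zpow_add, ← zpow_add]
            congr 2
            ring
        _ = y * x ^ i := by rw [h6, one_mul]
    have h8 := hS (y * x ^ i) (Q.mul_mem c.gq.v_mem (Q.zpow_mem c.gq.c_mem i)) (by
      rw [mul_inv_eq_iff_eq_mul] at h7
      exact h7.symm)
    apply c.gq.vc_not_mem i
    rcases h8 with h8 | h8
    · rw [h8]; exact one_mem _
    · rw [h8, ← c.gq.z_eq]; exact pow_mem (mem_zpowers x) _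

end Co

end HP

end Cfsg.Agent.Cit.TwoFK
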