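import Cfsg.Agent.Cit.TwoFK.HPair
import Cfsg.Agent.Cit.OneK1
import Cfsg.Agent.Cit.OneF.Defs

/-!
# `|Om(S)| = 2`, equal involutions: N-pairs

`NPair Om K K' L L' T R R'`: mates `K, K'` over `z` and `L, L'` over `t`, `z ≠ t`, `t ∈ N(K)`, `z ∈ N(L)`,
`T ∈ Syl₂(C(z,t))`, `T ≤ R ∈ Syl₂(C(z))`, `T ≤ R' ∈ Syl₂(C(t))`.
`NPair.dich`: the dichotomy W / SD for the four pairs; `NPair.lemmaG`: LEMMA G of #8942.
-/

set_option autoImplicit false
set_option linter.style.haveILetI false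
set_option linter.unusedSectionVars false
set_option linter.unusedVariables false

namespace Cfsg.Agent.Cit.TwoFK

open Subgroup Cfsg Cit OneBasic

variable {G : Type*} [Group G] [Finite G]

/-- see the head of the file -/
structure NPair (Om : Set (Subgroup G)) (K K' L L' T R R' : Subgroup G) : Prop where
  b : TwoEq Om
  m : Mate Om K K'
  m' : Mate Om L L'
  zne : zz K ≠ zz L
  nK : zz L ∈ normalizer (K : Set G)
  nL : zz K ∈ normalizer (L : Set G)
  hT : Syl T (centralizer {zz K} ⊓ centralizer {zz L})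
  hR : Syl R (centralizer {zz K})
  hR' : Syl R' (centralizer {zz L})
  TR : T ≤ R
  TR' : T ≤ R'

section

variable {Om : Set (Subgroup G)} {K K' L L' T R R' : Subgroup G}

theorem TwoEq.exists_npair (b : TwoEq Om) (hK : K ∈ Om) (hL : L ∈ Om) (zne : zz K ≠ zz L)
    (nK : zz L ∈ normalizer (K : Set G)) (nL : zz K ∈ normalizer (L : Set G)) {A : Subgroup G}
    (hA : IsPGroup 2 A) (hAz : A ≤ centralizer {zz K} ⊓ centralizer {zz L}) :
    ∃ K' L' T R R', NPair Om K K' L L' T R R' ∧ A ≤ T := by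
  obtain ⟨K', m, -⟩ := b.exists_mate hK
  obtain ⟨L', m', -⟩ := b.exists_mate hL
  obtain ⟨T, hT, hAT⟩ := exists_syl_ge hA hAz
  obtain ⟨R, hR, hTR⟩ := exists_syl_ge hT.2.1 (hT.1.trans inf_le_left)
  obtain ⟨R', hR', hTR'⟩ := exists_syl_ge hT.2.1 (hT.1.trans inf_le_right)
  exact ⟨K', L', T, R, R', ⟨b, m, m', zne, nK, nL, hT, hR, hR', hTR, hTR'⟩, hAT⟩

namespace NPair

theorem symm (p : NPair Om K K' L L' T R R') : NPair Om L L' K K' T R' R :=
  ⟨p.b, p.m', p.m, p.zne.symm, p.nL, p.nK, by rw [inf_comm]; exact p.hT, p.hR', p.hR, p.TR', p.TR⟩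

theorem mate (p : NPair Om K K' L L' T R R') : NPair Om K' K L L' T R R' :=
  ⟨p.b, p.m.symm, p.m', by rw [← p.m.zz]; exact p.zne, p.b.mem_normalizer_mate p.m p.nK,
    by rw [← p.m.zz]; exact p.nL, by rw [← p.m.zz]; exact p.hT, by rw [← p.m.zz]; exact p.hR, p.hR', p.TR, p.TR'⟩

theorem mate' (p : NPair Om K K' L L' T R R') : NPair Om K K' L' L T R R' := p.symm.mate.symm

theorem comm (p : NPair Om K K' L L' T R R') : zz K * zz L = zz L * zz K :=
  (p.b.hyp.comm_zz p.m.hK p.nK).symm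

theorem tp (p : NPair Om K K' L L' T R R') : IsPGroup 2 T := p.hT.2.1

theorem rp (p : NPair Om K K' L L' T R R') : IsPGroup 2 R := p.hR.2.1

theorem tz (p : NPair Om K K' L L' T R R') {a : G} (ha : a ∈ T) : a * zz K = zz K * a :=
  mem_centralizer_singleton_iff.1 (p.hT.1 ha).1

theorem tt (p : NPair Om K K' L L' T R R') {a : G} (ha : a ∈ T) : a * zz L = zz L * a :=
  mem_centralizer_singleton_iff.1 (p.hT.1 ha).2

/-- `C_R(t) = T` -/
theorem mem_T (p : NPair Om K K' L L' T R R') {a : G} (ha : a ∈ R) (hat : a * zz L = zz L * a) : a ∈ T := by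
  have h1 : T = R ⊓ centralizer {zz L} :=
    syl_eq_of_le p.hT (p.rp.to_le inf_le_left) (inf_le_inf_right _ p.hR.1)
      (le_inf p.TR (p.hT.1.trans inf_le_right))
  rw [h1]
  exact ⟨ha, mem_centralizer_singleton_iff.2 hat⟩

theorem zK_mem (p : NPair Om K K' L L' T R R') : zz K ∈ R := by
  obtain ⟨c, v, n, hc⟩ := p.b.hyp.exists_gq p.m.hK (p.b.syl_inf p.m.hK p.hR)
  exact hc.z_mem.2

theorem zK_T (p : NPair Om K K' L L' T R R') : zz K ∈ T := p.mem_T p.zK_mem p.comm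

theorem zL_T (p : NPair Om K K' L L' T R R') : zz L ∈ T := p.symm.zK_T

theorem hQ (p : NPair Om K K' L L' T R R') : Syl (K ⊓ R) K := p.b.syl_inf p.m.hK p.hR

/-- an element of `K` commuting with `t` normalises `L` -/
theorem mem_normalizer (p : NPair Om K K' L L' T R R') {u : G} (hu : u ∈ K ⊓ R)
    (hut : u * zz L = zz L * u) : u ∈ normalizer (L : Set G) := by
  have hup : IsPGroup 2 (zpowers u) := p.rp.to_le (zpowers_le.2 hu.2)
  by_cases h4 : 4 ≤ orderOf u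
  · exact p.b.hyp.h3 K p.m.hK L p.m'.hK u hu.1 hup h4 hut
  · haveI : Fact (Nat.Prime 2) := ⟨Nat.prime_two⟩
    obtain ⟨k, hk⟩ := IsPGroup.iff_card.1 hup
    rw [Nat.card_zpowers] at hk
    have hk2 : k < 2 := by
      by_contra hk2
      apply h4
      rw [hk]
      calc 4 = 2 ^ 2 := by norm_num
        _ ≤ 2 ^ k := Nat.pow_le_pow_right (by norm_num) (by omega)
    interval_cases k
    · rw [pow_zero, orderOf_eq_one_iff] at hk
      rw [hk]; exact one_mem _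
    · rw [p.b.hyp.uniq K p.m.hK u hu.1 (by rw [hk, pow_one])]
      exact p.nL

/-- the part of `T` normalising the members -/
def T0 (_ : NPair Om K K' L L' T R R') : Subgroup G := T ⊓ (normalizer (K : Set G) ⊓ normalizer (L : Set G))

theorem mem_T0 (p : NPair Om K K' L L' T R R') {u : G} (hu : u ∈ K ⊓ R)
    (hut : u * zz L = zz L * u) : u ∈ T ⊓ (normalizer (K : Set G) ⊓ normalizer (L : Set G)) :=
  ⟨p.mem_T hu.2 hut, le_normalizer hu.1, p.mem_normalizer hu hut⟩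

theorem hTQ (p : NPair Om K K' L L' T R R') {a : G} (ha : a ∈ T) (haK : a ∈ normalizer (K : Set G)) :
    a ∈ normalizer ((K ⊓ R : Subgroup G) : Set G) := by
  rw [mem_normalizer_iff_cj, cj_inf, mem_normalizer_iff_cj.1 haK, mem_normalizer_iff_cj.1 (le_normalizer (p.TR ha))]

theorem _root_.Cfsg.Agent.Cit.TwoFK.TwoEq.card_syl (b : TwoEq Om) {Q Q' : Subgroup G} (hK : K ∈ Om)
    (hL : L ∈ Om) (hQ : Syl Q K) (hQ' : Syl Q' L) : Nat.card Q = Nat.card Q' := by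
  obtain ⟨g, hg⟩ := b.cls K hK L hL
  have h2 := hQ.cj g
  rw [hg] at h2
  obtain ⟨k, -, hk⟩ := h2.exists_conj hQ'
  rw [← hk, card_cj, card_cj]

theorem ncQ (p : NPair Om K K' L L' T R R') : ¬ ∀ x ∈ K ⊓ R, zz L * x = x * zz L := fun hc =>
  p.zne (p.b.zz_eq_of_cent p.m.hK p.m'.hK p.hQ hc).symm

/-- the `HPair` of an N-pair -/
theorem hp (p : NPair Om K K' L L' T R R') :
    HP Om K L (T ⊓ (normalizer (K : Set G) ⊓ normalizer (L : Set G))) (K ⊓ R) (L ⊓ R') where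
  hyp := p.b.hyp
  hK := p.m.hK
  hL := p.m'.hK
  zne := p.zne
  comm := p.comm
  hQ := p.hQ
  hQ' := p.symm.hQ
  card := p.b.card_syl p.m.hK p.m'.hK p.hQ p.symm.hQ
  tp := p.tp.to_le inf_le_left
  tK := inf_le_right.trans inf_le_left
  tL := inf_le_right.trans inf_le_right
  hTQ := fun a ha => p.hTQ ha.1 ha.2.1
  hTQ' := fun a ha => p.symm.hTQ ha.1 ha.2.2
  memQ := fun u hu hut => p.mem_T0 hu hut
  memQ' := fun u hu hut => by
    have := p.symm.mem_T0 hu hut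
    rwa [inf_comm (normalizer (L : Set G))] at this
  ncQ := p.ncQ
  ncQ' := p.symm.ncQ

/-- `T₀` for the mate is the same -/
theorem T0_mate (p : NPair Om K K' L L' T R R') :
    T ⊓ (normalizer (K' : Set G) ⊓ normalizer (L : Set G)) =
      T ⊓ (normalizer (K : Set G) ⊓ normalizer (L : Set G)) := by
  have h1 : normalizer (K' : Set G) = normalizer (K : Set G) :=
    le_antisymm (fun _ hg => p.b.mem_normalizer_mate p.m.symm hg) (fun _ hg => p.b.mem_normalizer_mate p.m hg)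
  rw [h1]

/-- the elements of the two Sylow subgroups commute -/
theorem comm_QQ (p : NPair Om K K' L L' T R R') {a a' : G} (ha : a ∈ K ⊓ R) (ha' : a' ∈ K' ⊓ R) :
    a * a' = a' * a := p.m.comm p.b.hyp p.rp ha.1 ha.2 ha'.1 ha'.2

end NPair

end

/-! ### Moving an element of `Zs` by elements of a member -/

theorem _root_.Cfsg.Agent.Cit.GQ.sq_outZ {Q : Subgroup G} {x y z : G} {n : ℕ} (g : GQ Q x y z n) (i : ℤ) :
    (y * x ^ i) * (y * x ^ i) = z := by
  calc (y * x ^ i) * (y * x ^ i) = y * (x ^ i * y) * x ^ i := by group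
    _ = y * (y * x ^ (-i)) * x ^ i := by rw [g.zpow_v]
    _ = y * y := by group
    _ = z := g.v_sq

variable {Om : Set (Subgroup G)}

/-- type W: `s (y x^i) ∈ Zs` -/
theorem zs_W (h : Hyp Om) {K Q : Subgroup G} (hK : K ∈ Om) (hk : OneF.K1 Om) (hQ : Syl Q K) {x y : G} {n : ℕ}
    (g : GQ Q x y (zz K) n) {s : G} (hs : s ∈ Zs Om) (hsK : s ∈ normalizer (K : Set G)) (hx : s * x = x * s)
    (hy : s * y * s⁻¹ = y * zz K) (i : ℤ) : s * (y * x ^ i) ∈ Zs Om := by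
  obtain ⟨w, hw⟩ : ∃ w, w = x ^ 2 ^ n := ⟨_, rfl⟩
  have hwQ : w ∈ Q := by rw [hw]; exact Q.pow_mem g.c_mem _
  have hsw : s * w = w * s := by rw [hw]; exact ((show Commute s x from hx).pow_right _).eq
  have hww : w * w = zz K := by rw [hw]; exact g.w_sq
  obtain ⟨a, ha⟩ : ∃ a, a = s * w⁻¹ := ⟨_, rfl⟩
  have haw : a * w = s := by rw [ha]; group
  have hswi : s * w⁻¹ = w⁻¹ * s := ((show Commute s w from hsw).inv_right).eq
  have hap : IsPGroup 2 (zpowers a) := by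
    rw [ha]
    exact isP_mul (Zs_isP h hs) (isP_of_mem hQ.2.1 (Q.inv_mem hwQ)) hswi
  have haK : a ∈ normalizer (K : Set G) := by
    rw [ha]; exact mul_mem hsK (inv_mem (le_normalizer (hQ.1 hwQ)))
  have hwy : y * w = w⁻¹ * y := by
    have h1 := g.conj_pow (2 ^ n)
    rwa [← hw] at h1
  have hax : x * a = a * x := by
    rw [ha]
    have h1 : x * w = w * x := by rw [hw]; exact (Commute.self_pow x _).eq
    have h2 : w⁻¹ * x = x * w⁻¹ := ((show Commute w x from h1.symm).inv_left).eq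
    calc x * (s * w⁻¹) = (x * s) * w⁻¹ := by group
      _ = s * (x * w⁻¹) := by rw [← hx]; group
      _ = s * w⁻¹ * x := by rw [← h2]; group
  have hay : y * a = a * y := by
    have h1 : w⁻¹ * y * w = y * zz K := by
      calc w⁻¹ * y * w = (w⁻¹ * y) * w := by group
        _ = y * w * w := by rw [← hwy]
        _ = y * zz K := by rw [mul_assoc, hww]
    have hyz : (zz K) * (zz K) = 1 := h.zz_mul hK
    have hsz : s * zz K * s⁻¹ = zz K := by rw [h.comm_zz hK hsK, mul_inv_cancel_right]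
    have h2 : a * y * a⁻¹ = y := by
      calc a * y * a⁻¹ = s * (w⁻¹ * y * w) * s⁻¹ := by rw [ha]; group
        _ = (s * y * s⁻¹) * (s * zz K * s⁻¹) := by rw [h1]; group
        _ = y * (zz K * zz K) := by rw [hy, hsz, mul_assoc]
        _ = y := by rw [hyz, mul_one]
    rw [mul_inv_eq_iff_eq_mul] at h2
    exact h2.symm
  have hQa : Q ≤ centralizer {a} :=
    g.le_of_mem (mem_centralizer_singleton_iff.2 hax) g.v_mem g.v_not_mem (mem_centralizer_singleton_iff.2 hay)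
  have hA : ∀ b ∈ zpowers a, ∀ q ∈ Q, b * q = q * b := by
    rintro _ ⟨k, rfl⟩ q hq
    exact ((show Commute a q from (mem_centralizer_singleton_iff.1 (hQa hq)).symm).zpow_left k).eq
  have ho : orderOf (w * (y * x ^ i)) = 4 := by
    have h1 : w * (y * x ^ i) = y * x ^ (i - 2 ^ n) := by
      have h2 := g.zpow_v (2 ^ n)
      have h3 : x ^ ((2 : ℤ) ^ n) = w := by
        rw [hw, ← zpow_natCast x (2 ^ n)]; push_cast; rfl
      rw [h3] at h2
      calc w * (y * x ^ i) = (w * y) * x ^ i := by group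
        _ = y * (x ^ (-(2 : ℤ) ^ n) * x ^ i) := by rw [h2, mul_assoc]
        _ = y * x ^ (i - 2 ^ n) := by rw [← zpow_add]; congr 2; ring
    rw [h1]
    exact GQ.orderOf_of_sq (g.sq_outZ _) (h.zz_mul hK) (h.zz_ne hK)
  obtain ⟨k, hkK, hka, hkw⟩ := h.conj_four_rel hK (hk K hK) hQ hap (zpowers_le.2 haK) hA (x := w)
    (y := w * (y * x ^ i)) hwQ (Q.mul_mem hwQ (Q.mul_mem g.v_mem (Q.zpow_mem g.c_mem i)))
    (GQ.orderOf_of_sq hww (h.zz_mul hK) (h.zz_ne hK)) ho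
  have hka' := hka a (mem_zpowers a)
  have h5 : k * s * k⁻¹ = s * (y * x ^ i) := by
    calc k * s * k⁻¹ = (k * a) * w * k⁻¹ := by rw [← haw]; group
      _ = a * (k * w * k⁻¹) := by rw [hka']; group
      _ = (a * w) * (y * x ^ i) := by rw [hkw]; group
      _ = s * (y * x ^ i) := by rw [haw]
  rw [← h5]
  exact Zs_cj h hs k

/-- type SD: `s x^b ∈ Zs` -/
theorem zs_SD (h : Hyp Om) {x y s : G} (hs : s ∈ Zs Om) (hx : s * x * s⁻¹ = x⁻¹) {j : ℤ} (hj : Odd j)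
    (hy : s * y * s⁻¹ = y * x ^ j) (b : ℤ) : s * x ^ b ∈ Zs Om := by
  have h1 : ∀ i : ℤ, x ^ i * s = s * x ^ (-i) := by
    intro i
    have h2 : s * x ^ (-i) * s⁻¹ = x ^ i := by
      rw [← conj_zpow, hx, inv_zpow, zpow_neg, inv_inv]
    rw [mul_inv_eq_iff_eq_mul] at h2
    exact h2.symm
  have h2 : ∀ (c i : ℤ), s * x ^ c ∈ Zs Om → s * x ^ (c + 2 * i) ∈ Zs Om := by
    intro c i hc
    have h3 := Zs_cj' h hc (x ^ i)
    have h4 : (x ^ i)⁻¹ * (s * x ^ c) * x ^ i = s * x ^ (c + 2 * i) := by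
      have h5 := h1 (-i)
      rw [neg_neg] at h5
      calc (x ^ i)⁻¹ * (s * x ^ c) * x ^ i = (x ^ (-i) * s) * x ^ c * x ^ i := by rw [zpow_neg]; group
        _ = s * (x ^ i * x ^ c * x ^ i) := by rw [h5]; group
        _ = s * x ^ (c + 2 * i) := by rw [← zpow_add, ← zpow_add]; congr 2; ring
    rwa [h4] at h3
  rcases Int.even_or_odd b with hb | hb
  · obtain ⟨i, rfl⟩ := hb
    have h3 := h2 0 i (by rw [zpow_zero, mul_one]; exact hs)
    rwa [zero_add, two_mul] at h3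
  · have h3 : s * x ^ (-j) ∈ Zs Om := by
      have h4 := Zs_cj' h hs y
      have h5 : y⁻¹ * s * y = s * x ^ (-j) := by
        calc y⁻¹ * s * y = y⁻¹ * (s * y * s⁻¹) * s := by group
          _ = x ^ j * s := by rw [hy]; group
          _ = s * x ^ (-j) := h1 j
      rwa [h5] at h4
    obtain ⟨c, hc⟩ := hj
    obtain ⟨d, hd⟩ := hb
    have h4 := h2 (-j) (c + d + 1) h3
    have h5 : -j + 2 * (c + d + 1) = b := by rw [hc, hd]; ring
    rwa [h5] at h4

/-- type SD: the action on `y` -/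
theorem HP.Co.t_y_SD {K L T Q Q' : Subgroup G} {x y x' y' : G} {n : ℕ} (c : HP.Co Om K L T Q Q' x y x' y' n)
    (hS : ∀ u ∈ Q, u * zz L = zz L * u → u = 1 ∨ u = zz K) :
    ∃ j : ℤ, Odd j ∧ zz L * y * (zz L)⁻¹ = y * x ^ j := by
  obtain ⟨j, hj⟩ := c.conj_y c.pair.zL_mem
  refine ⟨j, ?_, hj⟩
  by_contra hodd
  rw [Int.not_odd_iff_even] at hodd
  obtain ⟨i, hi⟩ := hodd
  have hx := c.t_inv hS
  have h1 : zz L * x ^ i * (zz L)⁻¹ = x ^ (-i) := by
    rw [← conj_zpow, hx, inv_zpow, zpow_neg]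
  have h2 : zz L * (y * x ^ i) * (zz L)⁻¹ = y * x ^ i := by
    calc zz L * (y * x ^ i) * (zz L)⁻¹ = (zz L * y * (zz L)⁻¹) * (zz L * x ^ i * (zz L)⁻¹) := by group
      _ = y * (x ^ j * x ^ (-i)) := by rw [hj, h1, mul_assoc]
      _ = y * x ^ i := by rw [← zpow_add, hi]; congr 2; ring
  rw [mul_inv_eq_iff_eq_mul] at h2
  rcases hS _ (Q.mul_mem c.gq.v_mem (Q.zpow_mem c.gq.c_mem i)) h2.symm with h3 | h3
  · exact c.gq.vc_not_mem i (by rw [h3]; exact one_mem _)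
  · exact c.gq.vc_not_mem i (by rw [h3, ← c.gq.z_eq]; exact pow_mem (mem_zpowers x) _)

/-- the action of `t`, type W -/
def KW (x y x2 y2 z t : G) : Prop :=
  t * x = x * t ∧ t * y * t⁻¹ = y * z ∧ t * x2 = x2 * t ∧ t * y2 * t⁻¹ = y2 * z

/-- the action of `t`, type SD -/
def KS (x y x2 y2 t : G) : Prop :=
  (t * x * t⁻¹ = x⁻¹ ∧ ∃ j : ℤ, Odd j ∧ t * y * t⁻¹ = y * x ^ j) ∧
  (t * x2 * t⁻¹ = x2⁻¹ ∧ ∃ j : ℤ, Odd j ∧ t * y2 * t⁻¹ = y2 * x2 ^ j)

/-- coordinates of an N-pair on the side of `z` -/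
structure NCo (Om : Set (Subgroup G)) (K K' L L' T R R' : Subgroup G) (x y x2 y2 : G) (n : ℕ) : Prop where
  p : NPair Om K K' L L' T R R'
  g : GQ (K ⊓ R) x y (zz K) n
  g2 : GQ (K' ⊓ R) x2 y2 (zz K) n
  inv : ∀ w ∈ T, w ∈ normalizer (K : Set G) → w ∈ normalizer (L : Set G) → w * x * w⁻¹ ∈ zpowers x
  inv2 : ∀ w ∈ T, w ∈ normalizer (K : Set G) → w ∈ normalizer (L : Set G) → w * x2 * w⁻¹ ∈ zpowers x2
  kind : KW x y x2 y2 (zz K) (zz L) ∧ (∃ u ∈ L ⊓ R', u * zz K = zz K * u ∧ u * u = zz L) ∨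
    KS x y x2 y2 (zz L) ∧ ∀ u ∈ L ⊓ R', u * zz K = zz K * u → u = 1 ∨ u = zz L

namespace NPair

variable {K K' L L' T R R' : Subgroup G}

theorem exists_co (p : NPair Om K K' L L' T R R') : ∃ x y x2 y2 n, NCo Om K K' L L' T R R' x y x2 y2 n := by
  obtain ⟨x, y, x', y', n, c⟩ := p.hp.exists_co
  obtain ⟨x2, y2, x3, y3, n2, c2⟩ := p.mate.hp.exists_co
  have hn : n2 = n := by
    have h1 : Nat.card ↥(K' ⊓ R) = Nat.card ↥(K ⊓ R) := p.b.card_syl p.m.hL p.m.hK p.mate.hQ p.hQ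
    rw [c.gq.card, c2.gq.card] at h1
    have := Nat.pow_right_injective (le_refl 2) h1
    omega
  subst hn
  have g2 : GQ (K' ⊓ R) x2 y2 (zz K) n2 := by rw [p.m.zz]; exact c2.gq
  refine ⟨x, y, x2, y2, n2, p, c.gq, g2, fun w hw h1 h2 => c.inv w ⟨hw, h1, h2⟩,
    fun w hw h1 h2 => c2.inv w ⟨hw, p.b.mem_normalizer_mate p.m h1, h2⟩, ?_⟩
  rcases c.dich with h1 | h1
  · left
    rcases c2.dich with h2 | h2
    · refine ⟨⟨h1.2, c.t_y h1.2, h2.2, ?_⟩, x' ^ 2 ^ n2, Subgroup.pow_mem _ c.gq'.c_mem _,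
        ((show Commute x' (zz K) from h1.1.symm).pow_left _).eq, c.gq'.w_sq⟩
      rw [c2.t_y h2.2, p.m.zz]
    · exfalso
      have h3 := h2.2 x' c.gq'.c_mem (by rw [← p.m.zz]; exact h1.1.symm)
      have h4 := c.gq'.ord
      rcases h3 with h3 | h3
      · rw [h3, orderOf_one] at h4
        have : 1 < 2 ^ (n2 + 2) := Nat.one_lt_two_pow (by omega)
        omega
      · rw [h3, p.b.hyp.orderOf_zz p.m'.hK] at h4
        have : 2 ^ 2 ≤ 2 ^ (n2 + 2) := Nat.pow_le_pow_right (by norm_num) (by omega)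
        omega
  · right
    rcases c2.dich with h2 | h2
    · exfalso
      have h3 := h1.2 x3 c2.gq'.c_mem (by rw [p.m.zz]; exact h2.1.symm)
      have h4 := c2.gq'.ord
      rcases h3 with h3 | h3
      · rw [h3, orderOf_one] at h4
        have : 1 < 2 ^ (n2 + 2) := Nat.one_lt_two_pow (by omega)
        omega
      · rw [h3, p.b.hyp.orderOf_zz p.m'.hK] at h4
        have : 2 ^ 2 ≤ 2 ^ (n2 + 2) := Nat.pow_le_pow_right (by norm_num) (by omega)
        omega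
    · exact ⟨⟨⟨c.t_inv h1.1, c.t_y_SD h1.1⟩, ⟨c2.t_inv h2.1, c2.t_y_SD h2.1⟩⟩, h1.2⟩

end NPair

end Cfsg.Agent.Cit.TwoFK
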