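import Cfsg.Agent.Cit.TwoFK.Field
import Cfsg.Agent.Cit.TwoBasic

/-!
# `(0.4)`, agreement for `psiK` on pairs with `zz E ∈ N(K)`, PRINCIPLE V
-/

set_option autoImplicit false
set_option linter.style.haveILetI false
set_option linter.unusedSectionVars false
set_option linter.unusedVariables false

namespace Cfsg.Agent.Cit.TwoFK

open Subgroup Cfsg Cit OneBasic OneFieldHom OneFieldPsi

variable {G : Type*} [Group G] [Finite G] {Om : Set (Subgroup G)} {n : ℕ}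

/-- `P1` -/
def P1 (Om : Set (Subgroup G)) (n : ℕ) : Prop :=
  ∀ K ∈ Om, ∀ E ∈ Om, zz E ∈ normalizer (K : Set G) → ∀ c ∈ K, IsPGroup 2 (zpowers c) →
    c * zz E = zz E * c → psiK E n c = 1

theorem P0_of_P1 (hS : NSym Om) (h : P1 Om n) (b : TwoEq Om) : P0 Om n := by
  rintro K hK _ ⟨Y, hY, rfl⟩ hy
  refine h Y hY K hK (hS K hK Y hY hy) _ (b.hyp.zz_mem hY) (isP_of_sq (b.hyp.zz_mul hY)) ?_
  exact b.hyp.comm_zz hK hy

/-- (0.4) -/
theorem exists_conj_q (b : TwoEq Om) {K Q : Subgroup G} (hK : K ∈ Om) (hQ : Syl Q K) {t : G} (ht : t ∈ Zs Om)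
    (hne : t ≠ zz K) (htQ : t ∈ normalizer (Q : Set G)) : ∃ q ∈ Q, q * t * q⁻¹ = zz K * t := by
  obtain ⟨q, hq, hqt, -⟩ := exists_conj_mul (z := zz K) hQ.2.1
    (fun t ht h2 h1 => b.hyp.eq_zz hK (hQ.1 ht) h2 h1) (Zs_mul b.hyp ht) htQ (by
      by_contra hcon
      push Not at hcon
      exact hne (b.eq_of_cent hK ht hQ hcon))
  exact ⟨q, hq, hqt⟩

/-- (0.4) -/
theorem exists_conj_K (b : TwoEq Om) {K : Subgroup G} (hK : K ∈ Om) {t : G} (ht : t ∈ Zs Om)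
    (hne : t ≠ zz K) (htK : t ∈ normalizer (K : Set G)) :
    ∃ q ∈ K, IsPGroup 2 (zpowers q) ∧ q * t * q⁻¹ = zz K * t := by
  obtain ⟨Q, hQ, htQ⟩ := exists_syl_normalized (Zs_isP b.hyp ht) (zpowers_le.2 htK)
  obtain ⟨q, hq, hqt⟩ := exists_conj_q b hK hQ ht hne (htQ (mem_zpowers t))
  exact ⟨q, hQ.1 hq, isP_of_mem hQ.2.1 hq, hqt⟩

/-- (0.4) -/
theorem mul_mem_Zs (b : TwoEq Om) {K : Subgroup G} (hK : K ∈ Om) {t : G} (ht : t ∈ Zs Om)
    (hne : t ≠ zz K) (htK : t ∈ normalizer (K : Set G)) : zz K * t ∈ Zs Om := by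
  obtain ⟨q, -, -, hq⟩ := exists_conj_K b hK ht hne htK
  rw [← hq]
  exact Zs_cj b.hyp ht q

/-- an element of order 2 commuting with everything in a Sylow subgroup lies in it -/
theorem mem_of_central {T H : Subgroup G} (hT : Syl T H) {u : G} (hu : IsPGroup 2 (zpowers u)) (huH : u ∈ H)
    (hc : ∀ a ∈ T, a * u = u * a) : u ∈ T := by
  have h1 : zpowers u ≤ T := by
    refine syl_le_of_normalizes' hT hu (zpowers_le.2 huH) ?_
    rw [zpowers_le, mem_normalizer_iff_cj]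
    refine eq_of_le_of_card_ge ?_ (by rw [card_cj])
    rintro _ ⟨a, ha, rfl⟩
    change u * a * u⁻¹ ∈ T
    rw [← hc a ha, mul_inv_cancel_right]
    exact ha
  exact h1 (mem_zpowers _)

/-- the agreement of the two field homomorphisms -/
theorem agree_two (b : TwoEq Om) (ho : Ord Om n) (hn : n ≠ 0) (hS : NSym Om) (hP : P1 Om n) {K E : Subgroup G}
    (hK : K ∈ Om) (hE : E ∈ Om) (hne : zz E ≠ zz K) (hN : zz E ∈ normalizer (K : Set G)) {u : G}
    (huK : u ∈ normalizer (K : Set G)) (huE : u ∈ normalizer (E : Set G)) (hu2 : IsPGroup 2 (zpowers u)) :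
    ∃ J ∈ Om, zz J = zz E ∧ psiK K n u = psiK J n u := by
  have hN' := hS K hK E hE hN
  obtain ⟨Eh, mE, -⟩ := b.exists_mate hE
  have hzK := b.hyp.zz_mul hK
  have hzE := b.hyp.zz_mul hE
  have hc : zz E * zz K = zz K * zz E := b.hyp.comm_zz hK hN
  have huz : u * zz K = zz K * u := b.hyp.comm_zz hK huK
  have hue : u * zz E = zz E * u := b.hyp.comm_zz hE huE
  obtain ⟨T, hT, huT⟩ := OneBasic.exists_syl_ge hu2 (M := centralizer {zz K} ⊓ centralizer {zz E}) (by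
    rw [zpowers_le]
    exact ⟨mem_centralizer_singleton_iff.2 huz, mem_centralizer_singleton_iff.2 hue⟩)
  have huT' : u ∈ T := huT (mem_zpowers u)
  have tz : ∀ a ∈ T, a * zz K = zz K * a := fun a ha => mem_centralizer_singleton_iff.1 (hT.1 ha).1
  have te : ∀ a ∈ T, a * zz E = zz E * a := fun a ha => mem_centralizer_singleton_iff.1 (hT.1 ha).2
  have hzT : zz K ∈ T := mem_of_central hT (isP_of_sq hzK)
    ⟨mem_centralizer_singleton_iff.2 rfl, mem_centralizer_singleton_iff.2 hc.symm⟩ tz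
  have heT : zz E ∈ T := mem_of_central hT (isP_of_sq hzE)
    ⟨mem_centralizer_singleton_iff.2 hc, mem_centralizer_singleton_iff.2 rfl⟩ te
  obtain ⟨R, hR, hTR⟩ := OneBasic.exists_syl_ge hT.2.1 (hT.1.trans inf_le_left)
  obtain ⟨R', hR', hTR'⟩ := OneBasic.exists_syl_ge hT.2.1 (hT.1.trans inf_le_right)
  have hTe : T = R' ⊓ centralizer {zz K} :=
    syl_eq_of_le hT (hR'.2.1.to_le inf_le_left) (le_inf inf_le_right (inf_le_left.trans hR'.1))
      (le_inf hTR' (hT.1.trans inf_le_left))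
  have hnorm : ∀ {A B : Subgroup G} {a : G}, a ∈ normalizer (A : Set G) → a ∈ B →
      a ∈ normalizer ((A ⊓ B : Subgroup G) : Set G) := by
    intro A B a haA haB
    rw [mem_normalizer_iff_cj, cj_inf, mem_normalizer_iff_cj.1 haA, mem_normalizer_iff_cj.1 (le_normalizer haB)]
  obtain ⟨q, hq, hqe⟩ := exists_conj_q b hK (b.syl_inf hK hR) (zz_mem_Zs hE) hne (hnorm hN (hTR heT))
  obtain ⟨q', hq', hqz⟩ := exists_conj_q b hE (b.syl_inf hE hR') (zz_mem_Zs hK) hne.symm (hnorm hN' (hTR' hzT))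
  have hqz0 : q * zz K = zz K * q := b.hyp.comm_zz hK (le_normalizer hq.1)
  have hqe0 : q' * zz E = zz E * q' := b.hyp.comm_zz hE (le_normalizer hq'.1)
  -- the element conjugating `zz K` to `zz E`
  have hmap : (q * q') * zz K * (q * q')⁻¹ = zz E := by
    calc (q * q') * zz K * (q * q')⁻¹ = q * (q' * zz K * q'⁻¹) * q⁻¹ := by group
      _ = q * (zz K * zz E) * q⁻¹ := by rw [hqz, hc]
      _ = (q * zz K) * zz E * q⁻¹ := by group
      _ = zz K * (q * zz E * q⁻¹) := by rw [hqz0]; group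
      _ = (zz K * zz K) * zz E := by rw [hqe]; group
      _ = zz E := by rw [hzK, one_mul]
  obtain ⟨J, hJ⟩ : ∃ J, J = cj (q * q') K := ⟨_, rfl⟩
  have hJO : J ∈ Om := by rw [hJ]; exact b.hyp.conj K hK _
  have hJz : zz J = zz E := by rw [hJ, b.hyp.zz_cj hK, hmap]
  have hJE := b.eq_or mE hJO hJz
  refine ⟨J, hJO, hJz, ?_⟩
  -- `u₁`
  obtain ⟨u1, hu1⟩ : ∃ u1, u1 = q' * u * q'⁻¹ := ⟨_, rfl⟩
  have hq'ez : q' * (zz E * zz K) * q'⁻¹ = zz K := by
    calc q' * (zz E * zz K) * q'⁻¹ = (q' * zz E) * zz K * q'⁻¹ := by group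
      _ = zz E * (q' * zz K * q'⁻¹) := by rw [hqe0]; group
      _ = (zz E * zz E) * zz K := by rw [hqz]; group
      _ = zz K := by rw [hzE, one_mul]
  have hu1T : u1 ∈ T := by
    rw [hTe, hu1]
    refine mem_inf.2 ⟨R'.mul_mem (R'.mul_mem hq'.2 (hTR' huT')) (R'.inv_mem hq'.2),
      mem_centralizer_singleton_iff.2 ?_⟩
    calc q' * u * q'⁻¹ * zz K = q' * u * q'⁻¹ * (q' * (zz E * zz K) * q'⁻¹) := by rw [hq'ez]
      _ = q' * (u * zz E) * zz K * q'⁻¹ := by group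
      _ = q' * (zz E * (u * zz K)) * q'⁻¹ := by rw [hue]; group
      _ = (q' * (zz E * zz K) * q'⁻¹) * (q' * u * q'⁻¹) := by rw [huz]; group
      _ = zz K * (q' * u * q'⁻¹) := by rw [hq'ez]
  have hβE : u1 * u⁻¹ ∈ E := by
    have h1 : u * q'⁻¹ * u⁻¹ ∈ E := (mem_normalizer_iff.1 huE _).1 (E.inv_mem hq'.1)
    have h2 := E.mul_mem hq'.1 h1
    rwa [show q' * (u * q'⁻¹ * u⁻¹) = u1 * u⁻¹ by rw [hu1]; group] at h2
  have hβT : u1 * u⁻¹ ∈ T := T.mul_mem hu1T (T.inv_mem huT')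
  have hβ2 := isP_of_mem hT.2.1 hβT
  have hβK : u1 * u⁻¹ ∈ normalizer (K : Set G) := by
    by_cases h4 : 4 ≤ orderOf (u1 * u⁻¹)
    · exact b.hyp.norm_four hT.2.1 hE hK hβE hβT h4 (tz _ hβT)
    · have h1 : (u1 * u⁻¹) * (u1 * u⁻¹) = 1 := by
        obtain ⟨k, hk⟩ := isP_iff.1 hβ2
        obtain ⟨j, hj, hj2⟩ := (Nat.dvd_prime_pow Nat.prime_two).1 (orderOf_dvd_of_pow_eq_one hk)
        have hj1 : j ≤ 1 := by
          by_contra hj1
          apply h4
          rw [hj2]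
          calc 4 = 2 ^ 2 := by norm_num
            _ ≤ 2 ^ j := Nat.pow_le_pow_right (by norm_num) (by omega)
        rw [← pow_two, ← orderOf_dvd_iff_pow_eq_one, hj2]
        calc 2 ^ j ∣ 2 ^ 1 := pow_dvd_pow 2 hj1
          _ = 2 := by norm_num
      by_cases h2 : u1 * u⁻¹ = 1
      · rw [h2]; exact one_mem _
      · rw [b.hyp.eq_zz hE hβE h1 h2]; exact hN
  have hu1K : u1 ∈ normalizer (K : Set G) := by
    have := mul_mem hβK huK
    rwa [inv_mul_cancel_right] at this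
  -- `u₂`
  obtain ⟨u2, hu2'⟩ : ∃ u2, u2 = q * u1 * q⁻¹ := ⟨_, rfl⟩
  have hγK : u2 * u1⁻¹ ∈ K := by
    have h1 : u1 * q⁻¹ * u1⁻¹ ∈ K := (mem_normalizer_iff.1 hu1K _).1 (K.inv_mem hq.1)
    have h2 := K.mul_mem hq.1 h1
    rwa [show q * (u1 * q⁻¹ * u1⁻¹) = u2 * u1⁻¹ by rw [hu2']; group] at h2
  have hγR : u2 * u1⁻¹ ∈ R := by
    rw [hu2']
    exact R.mul_mem (R.mul_mem (R.mul_mem hq.2 (hTR hu1T)) (R.inv_mem hq.2)) (R.inv_mem (hTR hu1T))
  have hqze : q * (zz K * zz E) * q⁻¹ = zz E := by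
    calc q * (zz K * zz E) * q⁻¹ = (q * zz K) * zz E * q⁻¹ := by group
      _ = zz K * (q * zz E * q⁻¹) := by rw [hqz0]; group
      _ = (zz K * zz K) * zz E := by rw [hqe]; group
      _ = zz E := by rw [hzK, one_mul]
  have hu2e : u2 * zz E = zz E * u2 := by
    have h1 := tz u1 hu1T
    have h2 := te u1 hu1T
    rw [hu2']
    calc q * u1 * q⁻¹ * zz E = q * u1 * q⁻¹ * (q * (zz K * zz E) * q⁻¹) := by rw [hqze]
      _ = q * (u1 * zz K) * zz E * q⁻¹ := by group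
      _ = q * (zz K * (u1 * zz E)) * q⁻¹ := by rw [h1]; group
      _ = (q * (zz K * zz E) * q⁻¹) * (q * u1 * q⁻¹) := by rw [h2]; group
      _ = _ := by rw [hqze]
  have hγe : (u2 * u1⁻¹) * zz E = zz E * (u2 * u1⁻¹) := by
    have h1 := te _ (T.inv_mem hu1T)
    rw [mul_assoc, h1, ← mul_assoc, hu2e, mul_assoc]
  have hγ1 : psiK J n (u2 * u1⁻¹) = 1 := by
    refine hP K hK J hJO (by rw [hJz]; exact hN) _ hγK (isP_of_mem hR.2.1 hγR) (by rw [hJz]; exact hγe)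
  have hβ1 : psiK J n (u1 * u⁻¹) = 1 := by
    rcases hJE with h1 | h1
    · rw [h1]; exact psiK_self (ho E hE) hn hβE
    · rw [h1]; exact psiK_mate b ho hn mE hβE hβ2
  have huJ : u ∈ normalizer (J : Set G) := by
    rcases hJE with h1 | h1
    · rw [h1]; exact huE
    · rw [h1]; exact b.mem_normalizer_mate mE huE
  have hβJ : u1 * u⁻¹ ∈ normalizer (J : Set G) := by
    rcases hJE with h1 | h1
    · rw [h1]; exact le_normalizer hβE
    · rw [h1]; exact mE.le_normalizer b.hyp hβE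
  have hu2J : u2 ∈ normalizer (J : Set G) := by
    rw [mem_normalizer_iff_cj, hJ, hu2', hu1, ← cj_mul]
    have h1 : q * (q' * u * q'⁻¹) * q⁻¹ * (q * q') = (q * q') * u := by group
    rw [h1, cj_mul (q * q') u, mem_normalizer_iff_cj.1 huK]
  have hu1J : u1 ∈ normalizer (J : Set G) := by
    have := mul_mem hβJ huJ
    rwa [inv_mul_cancel_right] at this
  have hγJ : u2 * u1⁻¹ ∈ normalizer (J : Set G) := mul_mem hu2J (inv_mem hu1J)
  calc psiK K n u = psiK (cj (q * q') K) n ((q * q') * u * (q * q')⁻¹) :=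
        (psiK_conj (ho K hK) (fun g => ho _ (b.hyp.conj K hK g)) hn huK _).symm
    _ = psiK J n ((u2 * u1⁻¹) * ((u1 * u⁻¹) * u)) := by
        rw [hJ]
        congr 1
        rw [hu2', hu1]; group
    _ = psiK J n u := by
        rw [psiK_mul (ho J hJO) hn hγJ (mul_mem hβJ huJ), psiK_mul (ho J hJO) hn hβJ huJ, hγ1, hβ1, one_mul,
          one_mul]

/-- the agreement of the two field homomorphisms -/
theorem agree (b : TwoEq Om) (ho : Ord Om n) (hn : n ≠ 0) (hS : NSym Om) (hP : P1 Om n) {K E : Subgroup G}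
    (hK : K ∈ Om) (hE : E ∈ Om) (hne : zz E ≠ zz K) (hN : zz E ∈ normalizer (K : Set G)) {u : G}
    (huK : u ∈ normalizer (K : Set G)) (huE : u ∈ normalizer (E : Set G)) :
    ∃ J ∈ Om, zz J = zz E ∧ psiK K n u = psiK J n u := by
  obtain ⟨k, hk, hk2⟩ := exists_odd_pow u
  obtain ⟨Eh, mE, -⟩ := b.exists_mate hE
  obtain ⟨J, hJ, hJz, h⟩ := agree_two b ho hn hS hP hK hE hne hN (pow_mem huK k) (pow_mem huE k) hk2
  refine ⟨J, hJ, hJz, ?_⟩
  have huJ : u ∈ normalizer (J : Set G) := by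
    rcases b.eq_or mE hJ hJz with h1 | h1
    · rw [h1]; exact huE
    · rw [h1]; exact b.mem_normalizer_mate mE huE
  rw [psiK_pow (ho K hK) hn huK, psiK_pow (ho J hJ) hn huJ] at h
  obtain ⟨s, hs⟩ := card_M n
  rw [← mul_inv_eq_one]
  apply eq_one_of_pow hs hk
  rw [mul_pow, inv_pow, h, mul_inv_cancel]

/-! ### Elements of the class interchanging the members -/

/-- `q ∈ K` does not change the value -/
theorem psi_repl (b : TwoEq Om) (ho : Ord Om n) (hn : n ≠ 0) {K L : Subgroup G} (m : Mate Om K L) {t₁ t₂ q : G}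
    (h1 : cj t₁ K = L) (h2 : cj t₂ K = L) (hq : q ∈ K) (hq2 : IsPGroup 2 (zpowers q)) :
    psiK K n (t₁ * (q * t₂ * q⁻¹)) = psiK K n (t₁ * t₂) := by
  have hoK := ho K m.hK
  have h3 : t₁ * (q * t₂ * q⁻¹) = (t₁ * q * t₁⁻¹) * (t₁ * t₂) * q⁻¹ := by group
  have hqL : t₁ * q * t₁⁻¹ ∈ L := by rw [← h1]; exact conj_mem_cj hq
  have hqp : IsPGroup 2 (zpowers (t₁ * q * t₁⁻¹)) := by
    obtain ⟨k, hk⟩ := isP_iff.1 hq2
    exact isP_iff.2 ⟨k, by rw [conj_pow, hk]; group⟩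
  have h4 := m.symm.le_normalizer b.hyp hqL
  have h5 := b.swap_mul m h1 h2
  rw [h3, psiK_mul hoK hn (mul_mem h4 h5) (inv_mem (le_normalizer hq)), psiK_mul hoK hn h4 h5,
    psiK_mate b ho hn m.symm hqL hqp, psiK_self hoK hn (K.inv_mem hq), one_mul, mul_one]

theorem swap_conj (b : TwoEq Om) {K L : Subgroup G} (m : Mate Om K L) {t q : G} (h : cj t K = L) (hq : q ∈ K) :
    cj (q * t * q⁻¹) K = L :=
  b.swap_norm m (b.norm_swap m (le_normalizer hq) h) (inv_mem (le_normalizer hq))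

/-- `zz K` interchanges the members over `t` -/
theorem zz_not_norm (hS : NSym Om) (b : TwoEq Om) {K L J : Subgroup G} (m : Mate Om K L) (hJ : J ∈ Om)
    (h : cj (zz J) K = L) : zz K ∉ normalizer (J : Set G) :=
  fun h1 => b.not_norm m h (hS J hJ K m.hK h1)

/-- one of `e`, `zz K * e` normalises the members over `t` -/
theorem exists_e (b : TwoEq Om) (hS : NSym Om) {K L : Subgroup G} (m : Mate Om K L) {t e : G}
    (ht : t ∈ Zs Om) (hts : cj t K = L) (he : e ∈ Zs Om) (heK : e ∈ normalizer (K : Set G)) (hez : e ≠ zz K)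
    (het : e * t = t * e) :
    (∃ E ∈ Om, zz E = e ∧ t ∈ normalizer (E : Set G)) ∨
      (∃ E ∈ Om, zz E = zz K * e ∧ t ∈ normalizer (E : Set G)) := by
  obtain ⟨J, hJ, rfl⟩ := ht
  obtain ⟨Jh, mJ, -⟩ := b.exists_mate hJ
  have hzJ := zz_not_norm hS b m hJ hts
  have hze : zz K * e ∈ Zs Om := mul_mem_Zs b m.hK he hez heK
  rcases b.norm_or mJ het with h1 | h1
  · left
    obtain ⟨E, hE, rfl⟩ := he
    exact ⟨E, hE, rfl, hS J hJ E hE h1⟩
  · right
    have h2 : zz K * e ∈ normalizer (J : Set G) := by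
      have h3 : cj (zz K) J = Jh := (b.norm_or mJ (b.comm_of_swap m hts).symm).resolve_left hzJ
      exact b.swap_mul mJ h3 h1
    obtain ⟨E, hE, hEe⟩ := hze
    refine ⟨E, hE, hEe, hS J hJ E hE ?_⟩
    rw [hEe]; exact h2

theorem mem_norm_of (b : TwoEq Om) {E J : Subgroup G} (hE : E ∈ Om) (hJ : J ∈ Om) (h : zz J = zz E) {t : G}
    (ht : t ∈ normalizer (E : Set G)) : t ∈ normalizer (J : Set G) := by
  obtain ⟨Eh, mE, -⟩ := b.exists_mate hE
  rcases b.eq_or mE hJ h with h1 | h1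
  · rw [h1]; exact ht
  · rw [h1]; exact b.mem_normalizer_mate mE ht

/-- PRINCIPLE V, first case -/
theorem principle_one (b : TwoEq Om) (ho : Ord Om n) (hn : n ≠ 0) (hS : NSym Om) (hP : P1 Om n)
    {K L : Subgroup G} (m : Mate Om K L) {t₁ t₂ : G} (h1 : t₁ ∈ Zs Om) (h2 : t₂ ∈ Zs Om)
    (h1s : cj t₁ K = L) (h2s : cj t₂ K = L) {E E' : Subgroup G} (hE : E ∈ Om) (hE' : E' ∈ Om)
    (hEE : zz E' = zz E) (hEK : zz E ∈ normalizer (K : Set G)) (hne : zz E ≠ zz K)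
    (ht1 : t₁ ∈ normalizer (E : Set G)) (ht2 : t₂ ∈ normalizer (E' : Set G)) : psiK K n (t₁ * t₂) = 1 := by
  have ht2' := mem_norm_of b hE' hE hEE.symm ht2
  obtain ⟨J, hJ, hJz, h⟩ := agree b ho hn hS hP m.hK hE hne hEK (b.swap_mul m h1s h2s) (mul_mem ht1 ht2')
  have h3 := mem_norm_of b hE hJ hJz ht1
  have h4 := mem_norm_of b hE hJ hJz ht2'
  have h0 := P0_of_P1 hS hP b
  rw [h, psiK_mul (ho J hJ) hn h3 h4, h0 J hJ _ h1 h3, h0 J hJ _ h2 h4, one_mul]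

/-- **PRINCIPLE V** -/
theorem principle (b : TwoEq Om) (ho : Ord Om n) (hn : n ≠ 0) (hS : NSym Om) (hP : P1 Om n)
    {K L : Subgroup G} (m : Mate Om K L) {t₁ t₂ e : G} (h1 : t₁ ∈ Zs Om) (h2 : t₂ ∈ Zs Om)
    (h1s : cj t₁ K = L) (h2s : cj t₂ K = L) (he : e ∈ Zs Om) (heK : e ∈ normalizer (K : Set G))
    (hez : e ≠ zz K) (he1 : e * t₁ = t₁ * e) (he2 : e * t₂ = t₂ * e) : psiK K n (t₁ * t₂) = 1 := by
  obtain ⟨q, hq, hq2, hqe⟩ := exists_conj_K b m.hK he hez heK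
  have hqz : q * zz K = zz K * q := b.hyp.comm_zz m.hK (le_normalizer hq)
  have hzz := b.hyp.zz_mul m.hK
  have hqe' : q * (zz K * e) * q⁻¹ = e := by
    calc q * (zz K * e) * q⁻¹ = (q * zz K) * e * q⁻¹ := by group
      _ = zz K * (q * e * q⁻¹) := by rw [hqz]; group
      _ = (zz K * zz K) * e := by rw [hqe]; group
      _ = e := by rw [hzz, one_mul]
  have hzeK : zz K * e ∈ normalizer (K : Set G) := mul_mem (le_normalizer (b.hyp.zz_mem m.hK)) heK
  have hzez : zz K * e ≠ zz K := fun h => Zs_ne b.hyp he (mul_eq_left.1 h)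
  have hconj : ∀ E : Subgroup G, E ∈ Om → t₂ ∈ normalizer (E : Set G) →
      q * t₂ * q⁻¹ ∈ normalizer (cj q E : Set G) := by
    intro E hE ht
    rw [mem_normalizer_iff_cj] at ht ⊢
    rw [cj_mul, cj_mul, cj_inv_cj, ht]
  rcases exists_e b hS m h1 h1s he heK hez he1 with ⟨E, hE, hEe, ht1⟩ | ⟨E, hE, hEe, ht1⟩
  · rcases exists_e b hS m h2 h2s he heK hez he2 with ⟨E', hE', hEe', ht2⟩ | ⟨E', hE', hEe', ht2⟩
    · exact principle_one b ho hn hS hP m h1 h2 h1s h2s hE hE' (hEe'.trans hEe.symm) (by rw [hEe]; exact heK)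
        (by rw [hEe]; exact hez) ht1 ht2
    · rw [← psi_repl b ho hn m h1s h2s hq hq2]
      exact principle_one b ho hn hS hP m h1 (Zs_cj b.hyp h2 q) h1s (swap_conj b m h2s hq) hE
        (b.hyp.conj E' hE' q) (by rw [b.hyp.zz_cj hE', hEe', hqe', hEe]) (by rw [hEe]; exact heK)
        (by rw [hEe]; exact hez) ht1 (hconj E' hE' ht2)
  · rcases exists_e b hS m h2 h2s he heK hez he2 with ⟨E', hE', hEe', ht2⟩ | ⟨E', hE', hEe', ht2⟩
    · rw [← psi_repl b ho hn m h1s h2s hq hq2]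
      exact principle_one b ho hn hS hP m h1 (Zs_cj b.hyp h2 q) h1s (swap_conj b m h2s hq) hE
        (b.hyp.conj E' hE' q) (by rw [b.hyp.zz_cj hE', hEe', hqe, hEe]) (by rw [hEe]; exact hzeK)
        (by rw [hEe]; exact hzez) ht1 (hconj E' hE' ht2)
    · exact principle_one b ho hn hS hP m h1 h2 h1s h2s hE hE' (hEe'.trans hEe.symm) (by rw [hEe]; exact hzeK)
        (by rw [hEe]; exact hzez) ht1 ht2

end Cfsg.Agent.Cit.TwoFK
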